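import Cfsg.Agent.OddOrder.BG14.Disjoint

/-!
# Disjointness of the tilde sets and their size (Bender-Glauberman 14.5, 14.6)
-/

set_option autoImplicit false

namespace Cfsg.Agent.OddOrder.BG14

open Subgroup

variable {G : Type*} [Group G] [Finite G] {M : Subgroup G}

/-- `g ∈ M̃` in terms of the conjugates of `M`. -/
theorem mem_tilde_iff (F : TildeFacts G) (hM : IsCoatom M) {g : G} :
    g ∈ Cfsg.tildeOf M ((Cfsg.sigmaCore M : Set G) \ {1}) ↔
      ∃ y x r : G, x ∈ Cfsg.sigmaCore (M.map (MulAut.conj y).toMonoidHom) ∧ x ≠ 1 ∧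
        r ∈ Cfsg.supportR (M.map (MulAut.conj y).toMonoidHom) x ∧ g = x * r := by
  constructor
  · rintro ⟨a, ⟨ha, ha1⟩, r, hr, y, rfl⟩
    refine ⟨y, y * a * y⁻¹, y * r * y⁻¹, ?_, fun e => ha1 (conj_eq_one_iff.1 e), ?_, by group⟩
    · rw [← OddOrder.sigmaCore_map]
      exact ⟨a, ha, rfl⟩
    · rw [supportR_map F hM ha ha1]
      exact ⟨r, hr, rfl⟩
  · rintro ⟨y, x, r, hx, hx1, hr, rfl⟩
    rw [← OddOrder.sigmaCore_map] at hx
    obtain ⟨a, ha, rfl⟩ := hx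
    have ha1 : a ≠ 1 := fun e => hx1 (by simp [e])
    replace hr : r ∈ Cfsg.supportR (M.map (MulAut.conj y).toMonoidHom) (y * a * y⁻¹) := hr
    rw [supportR_map F hM ha ha1] at hr
    obtain ⟨r₀, hr₀, rfl⟩ := hr
    exact ⟨a, ⟨ha, ha1⟩, r₀, hr₀, y, by show y * a * y⁻¹ * (y * r₀ * y⁻¹) = _; group⟩

/-- Tilde sets of non-conjugate maximal subgroups are disjoint. -/
theorem tilde_disjoint (F : TildeFacts G) {N : Subgroup G} (hM : IsCoatom M) (hN : IsCoatom N)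
    (hnc : ∀ g : G, N ≠ M.map (MulAut.conj g).toMonoidHom) :
    Cfsg.tildeOf M ((Cfsg.sigmaCore M : Set G) \ {1}) ∩
      Cfsg.tildeOf N ((Cfsg.sigmaCore N : Set G) \ {1}) = ∅ := by
  rw [Set.eq_empty_iff_forall_notMem]
  rintro g ⟨h1, h2⟩
  obtain ⟨u, x, r, hx, hx1, hr, rfl⟩ := (mem_tilde_iff F hM).1 h1
  obtain ⟨v, y, s, hy, hy1, hs, he⟩ := (mem_tilde_iff F hN).1 h2
  have hxy : x = y := by
    by_contra h
    exact support_disjoint F (isCoatom_map _ hM) (isCoatom_map _ hN) hx hy hx1 hy1 h hr hs he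
  subst hxy
  obtain ⟨p, hp, hpx⟩ : ∃ p : ℕ, p.Prime ∧ p ∣ orderOf x :=
    Nat.exists_prime_and_dvd (fun e => hx1 (orderOf_eq_one_iff.1 e))
  have hpM := sigma_of_mem hx hp hpx
  have hpN := sigma_of_mem hy hp hpx
  rw [sigma_map_conj] at hpM hpN
  obtain ⟨w, hw⟩ := F.s1378.2 M N hM hN ⟨p, hpM, hpN⟩
  exact hnc w hw

/-- S1377. -/
theorem card_tilde (hG : Cfsg.IsMinSimpleOddOrder G) (F : TildeFacts G) (hM : IsCoatom M) :
    Set.ncard (Cfsg.tildeOf M ((Cfsg.sigmaCore M : Set G) \ {1})) =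
      (Nat.card (Cfsg.sigmaCore M) - 1) * M.index := by
  classical
  haveI := Fintype.ofFinite G
  let O := {Q : Subgroup G // ∃ g : G, Q = M.map (MulAut.conj g).toMonoidHom}
  haveI : Fintype O := Fintype.ofFinite O
  let T := Σ Q : O, ↥((Cfsg.sigmaCore (Q : Subgroup G) : Set G) \ {1})
  let X : Set G := Set.range fun t : T => (t.2 : G)
  haveI : Fintype X := Fintype.ofFinite X
  have hQ : ∀ Q : O, IsCoatom (Q : Subgroup G) := by
    rintro ⟨Q, g, rfl⟩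
    exact isCoatom_map _ hM
  have hrep : ∀ x : X, ∃ Q : O, (x : G) ∈ Cfsg.sigmaCore (Q : Subgroup G) ∧ (x : G) ≠ 1 := by
    rintro ⟨_, ⟨⟨Q, y, hy, hy1⟩, rfl⟩⟩
    exact ⟨Q, hy, hy1⟩
  choose rep hrep1 hrep2 using hrep
  have hwd : ∀ (x : X) (Q : O), (x : G) ∈ Cfsg.sigmaCore (Q : Subgroup G) →
      Cfsg.supportR (Q : Subgroup G) (x : G) = Cfsg.supportR (rep x : Subgroup G) (x : G) := by
    intro x Q hxQ
    obtain ⟨g, hg⟩ := (rep x).2
    obtain ⟨h, hh⟩ := Q.2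
    have e : (Q : Subgroup G) =
        (rep x : Subgroup G).map (MulAut.conj (h * g⁻¹)).toMonoidHom := by
      rw [hg, Coprime.map_conj_map_conj, hh, inv_mul_cancel_right]
    rw [e] at hxQ ⊢
    exact supportR_eq_of_conj hG F (hQ _) (hrep1 x) hxQ (hrep2 x)
  let f : (Σ x : X, Cfsg.supportR (rep x : Subgroup G) (x : G)) → G := fun t => (t.1 : G) * t.2
  have hinj : Function.Injective f := by
    rintro ⟨x, r⟩ ⟨y, s⟩ (he : (x : G) * r = (y : G) * s)
    by_cases hxy : x = y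
    · subst hxy
      rw [Subtype.ext (mul_left_cancel he)]
    · exact absurd he (support_disjoint F (hQ _) (hQ _) (hrep1 x) (hrep1 y) (hrep2 x) (hrep2 y)
        (fun e => hxy (Subtype.ext e)) r.2 s.2)
  have himg : Cfsg.tildeOf M ((Cfsg.sigmaCore M : Set G) \ {1}) = Set.range f := by
    ext g
    rw [mem_tilde_iff F hM]
    constructor
    · rintro ⟨y, x, r, hx, hx1, hr, rfl⟩
      let Q : O := ⟨M.map (MulAut.conj y).toMonoidHom, y, rfl⟩
      let x' : X := ⟨x, ⟨⟨Q, x, hx, hx1⟩, rfl⟩⟩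
      exact ⟨⟨x', r, hwd x' Q hx ▸ hr⟩, rfl⟩
    · rintro ⟨⟨x, r⟩, rfl⟩
      obtain ⟨y, hy⟩ := (rep x).2
      exact ⟨y, x, r, hy ▸ hrep1 x, hrep2 x, hy ▸ r.2, rfl⟩
  have hfib : ∀ x : X, Nat.card (Cfsg.supportR (rep x : Subgroup G) (x : G)) =
      Nat.card {t : T // (t.2 : G) = (x : G)} := by
    intro x
    rw [← exists_equiv_conjugates F (hQ (rep x)) (hrep1 x) (hrep2 x)]
    obtain ⟨g, hg⟩ := (rep x).2
    symm
    refine Nat.card_congr (Equiv.ofBijective (fun t => ⟨(t.1.1 : Subgroup G), ?_, ?_⟩) ⟨?_, ?_⟩)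
    · obtain ⟨h, hh⟩ := t.1.1.2
      exact ⟨h * g⁻¹, by rw [hg, Coprime.map_conj_map_conj, hh, inv_mul_cancel_right]⟩
    · have := sigmaCore_le _ t.1.2.2.1
      rwa [t.2] at this
    · rintro ⟨⟨Q, y⟩, hy⟩ ⟨⟨Q', y'⟩, hy'⟩ he
      obtain rfl : Q = Q' := Subtype.ext (Subtype.mk.inj he)
      obtain rfl : y = y' := Subtype.ext (hy.trans hy'.symm)
      rfl
    · rintro ⟨Q, ⟨h, hh⟩, hxQ⟩
      have hQO : ∃ k : G, Q = M.map (MulAut.conj k).toMonoidHom :=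
        ⟨h * g, by rw [hh, hg, Coprime.map_conj_map_conj]⟩
      have hxσ : (x : G) ∈ Cfsg.sigmaCore Q := by
        refine mem_sigmaCore_of_primes F (hQ ⟨Q, hQO⟩) hxQ fun p hp hd => ?_
        show p ∈ Cfsg.sigma Q
        rw [hh, sigma_map_conj]
        exact sigma_of_mem (hrep1 x) hp hd
      exact ⟨⟨⟨⟨Q, hQO⟩, x, hxσ, hrep2 x⟩, rfl⟩, rfl⟩
  have hO : Nat.card O = M.index := by
    symm
    refine Nat.card_congr (Equiv.ofBijective
      (Quotient.lift (fun g : G => (⟨M.map (MulAut.conj g).toMonoidHom, g, rfl⟩ : O)) ?_) ⟨?_, ?_⟩)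
    · intro a b hab
      replace hab := QuotientGroup.leftRel_apply.1 hab
      apply Subtype.ext
      show M.map (MulAut.conj a).toMonoidHom = M.map (MulAut.conj b).toMonoidHom
      conv_rhs => rw [show b = a * (a⁻¹ * b) by group, ← Coprime.map_conj_map_conj,
        (map_conj_max_eq_iff hG hM).2 hab]
    · rintro ⟨a⟩ ⟨b⟩ hab
      refine QuotientGroup.eq.2 ((map_conj_max_eq_iff hG hM).1 ?_)
      have e : M.map (MulAut.conj a).toMonoidHom = M.map (MulAut.conj b).toMonoidHom :=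
        congrArg Subtype.val hab
      rw [← Coprime.map_conj_map_conj, ← e, Coprime.map_conj_map_conj, inv_mul_cancel,
        Coprime.map_conj_one]
    · rintro ⟨Q, g, rfl⟩
      exact ⟨⟦g⟧, rfl⟩
  have hT : Nat.card T = (Nat.card (Cfsg.sigmaCore M) - 1) * M.index := by
    rw [← hO, mul_comm]
    show Nat.card (Σ Q : O, ↥((Cfsg.sigmaCore (Q : Subgroup G) : Set G) \ {1})) = _
    rw [Nat.card_sigma, Finset.sum_congr rfl fun Q _ => ?_, Finset.sum_const, Finset.card_univ,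
      ← Nat.card_eq_fintype_card, smul_eq_mul]
    obtain ⟨g, hg⟩ := Q.2
    rw [Nat.card_coe_set_eq ((Cfsg.sigmaCore (Q : Subgroup G) : Set G) \ {1}),
      Set.ncard_sdiff_singleton_of_mem (one_mem _), ← Nat.card_coe_set_eq, hg,
      ← OddOrder.sigmaCore_map]
    exact congrArg (· - 1) (Cores.card_map_eq _ (MulAut.conj g).injective)
  rw [himg, ← Nat.card_coe_set_eq, Nat.card_range_of_injective hinj, Nat.card_sigma, ← hT,
    Finset.sum_congr rfl fun x _ => hfib x, ← Nat.card_sigma]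
  refine Nat.card_congr (Equiv.ofBijective (fun t => (t.2.1 : T)) ⟨?_, ?_⟩)
  · rintro ⟨x, t, ht⟩ ⟨y, t', ht'⟩ he
    obtain rfl : t = t' := he
    obtain rfl : x = y := Subtype.ext (ht.symm.trans ht')
    rfl
  · rintro t
    exact ⟨⟨⟨(t.2 : G), t, rfl⟩, t, rfl⟩, rfl⟩

end Cfsg.Agent.OddOrder.BG14
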