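import Cfsg.Agent.OddOrder.BG14.Owners
import Cfsg.Agent.OddOrder.BG14.Count

/-!
# BG 14.7: the counting argument

The conjugates of `Ẑ = Z \ ⋃ parts` and the sets `x R(x)` of the owners of `Z` are disjoint, so some
owner `H` has primes outside `σ(H) ∪ κ(H)`.
-/

set_option autoImplicit false
set_option linter.style.haveILetI false

universe u

namespace Cfsg.Agent.OddOrder.BG14

open Subgroup
open Cfsg.Agent.H40 (cj mem_cj cj_mul cj_one conj_mem_cj cj_eq_iff card_cj)

variable {G : Type u} [Group G] [Finite G]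

/-- The number of conjugates of the elements of a TI-set. -/
theorem ncard_conj_ti (S : Set G) (N : Subgroup G) (hN : ∀ n ∈ N, ∀ s ∈ S, n * s * n⁻¹ ∈ S)
    (hTI : ∀ g : G, ∀ s ∈ S, g * s * g⁻¹ ∈ S → g ∈ N) :
    Set.ncard {a : G | ∃ g : G, ∃ s ∈ S, a = g * s * g⁻¹} = S.ncard * N.index := by
  set T : Set G := {a : G | ∃ g : G, ∃ s ∈ S, a = g * s * g⁻¹}
  rw [← Nat.card_coe_set_eq T, ← Nat.card_coe_set_eq S, Subgroup.index, ← Nat.card_prod]
  refine (Nat.card_eq_of_bijective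
    (fun x : ↥S × (G ⧸ N) => (⟨x.2.out * (x.1 : G) * x.2.out⁻¹, _, _, x.1.2, rfl⟩ : ↥T)) ⟨?_, ?_⟩).symm
  · rintro ⟨⟨s, hs⟩, c⟩ ⟨⟨t, ht⟩, d⟩ h
    have he : c.out * s * c.out⁻¹ = d.out * t * d.out⁻¹ := congrArg Subtype.val h
    have hmem : d.out⁻¹ * c.out ∈ N := by
      refine hTI _ s hs ?_
      have : d.out⁻¹ * c.out * s * (d.out⁻¹ * c.out)⁻¹ = d.out⁻¹ * (c.out * s * c.out⁻¹) * d.out := by
        group
      rw [this, he]
      simpa [mul_assoc] using ht
    have hcd : c = d := by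
      rw [← QuotientGroup.out_eq' c, ← QuotientGroup.out_eq' d]
      exact (QuotientGroup.eq.mpr hmem).symm
    subst hcd
    simpa using he
  · rintro ⟨_, g, s, hs, rfl⟩
    obtain ⟨n, hn⟩ := QuotientGroup.mk_out_eq_mul N g
    refine ⟨(⟨(n : G)⁻¹ * s * n, by simpa using hN _ (inv_mem n.2) s hs⟩, ↑g), Subtype.ext ?_⟩
    show (g : G ⧸ N).out * ((n : G)⁻¹ * s * n) * (g : G ⧸ N).out⁻¹ = g * s * g⁻¹
    rw [hn]
    group

/-- All primes of `M` outside `σ(M)` are in `κ(M)`. -/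
def AllKappa (M : Subgroup G) : Prop :=
  ∀ q : ℕ, q.Prime → q ∣ Nat.card M → q ∉ Cfsg.sigma M → q ∈ Cfsg.kappa M

theorem KData.card_eq_of_allKappa {H K : Subgroup G} (D : KData H K) (F : Inputs G)
    (h : AllKappa H) : Nat.card H = Nat.card K * Nat.card (Cfsg.sigmaCore H) := by
  have h1 := BG13.card_mul_relIndex D.le
  have h2 := BG13.card_mul_relIndex (sigmaCore_le H)
  obtain ⟨c, hc⟩ : Nat.card (Cfsg.sigmaCore H) ∣ K.relIndex H :=
    D.coprime_sigmaCore.symm.dvd_of_dvd_mul_left (h1 ▸ card_dvd_of_le (sigmaCore_le H))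
  have hrel : (Cfsg.sigmaCore H).relIndex H = Nat.card K * c := by
    have h3 : Nat.card (Cfsg.sigmaCore H) * (Cfsg.sigmaCore H).relIndex H =
        Nat.card (Cfsg.sigmaCore H) * (Nat.card K * c) := by
      rw [h2, ← h1, hc]; ring
    exact Nat.eq_of_mul_eq_mul_left Nat.card_pos h3
  have hc1 : c = 1 := by
    by_contra hne
    obtain ⟨q, hq, hd⟩ := Nat.exists_prime_and_dvd hne
    by_cases hσ : q ∈ Cfsg.sigma H
    · exact (F.tilde.s1350 H D.max).1.2.2 q hq hσ (hrel ▸ hd.trans (dvd_mul_left _ _))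
    · refine D.hall.2.2 q hq (h q hq (h1 ▸ ?_) hσ) (hc ▸ hd.trans (dvd_mul_left _ _))
      exact ((hd.trans (dvd_mul_left c _)).trans (dvd_of_eq hc.symm)).trans (dvd_mul_left _ _)
  rw [← h1, hc, hc1, mul_one]

/-- The elements of `Z` outside all parts. -/
def zHatOf (Z : Subgroup G) : Set G :=
  {z | z ∈ Z ∧ ∀ H, IsOwner Z H → z ∉ part Z H}

namespace IsOwner

variable {Z H₀ : Subgroup G} (hO : IsOwner Z H₀) (F : Inputs G)
include hO F

/-- A conjugate inside `Z` of a component outside the part lies in the same owner. -/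
theorem exists_two_components {z : G} (hz : z ∈ zHatOf Z) :
    ∃ H H', IsOwner Z H ∧ IsOwner Z H' ∧ H' ≠ H ∧
      (∃ i : ℕ, (orderOf (z ^ i)).Prime ∧ orderOf (z ^ i) ∈ Cfsg.sigma H) ∧
      ∃ i : ℕ, (orderOf (z ^ i)).Prime ∧ orderOf (z ^ i) ∈ Cfsg.sigma H' := by
  obtain ⟨K, D, e⟩ := hO
  have hz1 : z ≠ 1 := fun h => hz.2 H₀ ⟨K, D, e⟩ (h ▸ one_mem _)
  obtain ⟨p, hp, hd⟩ := Nat.exists_prime_and_dvd (fun h => hz1 (orderOf_eq_one_iff.mp h))
  obtain ⟨H, hH, hσ⟩ := exists_owner F ⟨K, D, e⟩ hp (hd.trans (orderOf_dvd_natCard _ hz.1))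
  obtain ⟨q, hq, hqd, hqσ⟩ : ∃ q : ℕ, q.Prime ∧ q ∣ orderOf z ∧ q ∉ Cfsg.sigma H := by
    by_contra hcon
    push Not at hcon
    refine hz.2 H hH ⟨hz.1, ?_⟩
    exact mem_sigmaCore_of_primes F.tilde hH.max (hH.le hz.1) hcon
  obtain ⟨H', hH', hσ'⟩ := exists_owner F ⟨K, D, e⟩ hq (hqd.trans (orderOf_dvd_natCard _ hz.1))
  obtain ⟨i, hi⟩ := exists_pow_orderOf_eq hp hd
  obtain ⟨j, hj⟩ := exists_pow_orderOf_eq hq hqd
  exact ⟨H, H', hH, hH', fun h => hqσ (h ▸ hσ'), ⟨i, hi ▸ hp, hi ▸ hσ⟩, j, hj ▸ hq, hj ▸ hσ'⟩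

theorem mem_of_component {H : Subgroup G} (hH : IsOwner Z H) {z g : G} (hz : z ∈ Z)
    (hgz : g * z * g⁻¹ ∈ Z) {i : ℕ} (hp : (orderOf (z ^ i)).Prime)
    (hσ : orderOf (z ^ i) ∈ Cfsg.sigma H) : g ∈ H := by
  have hmem : ∀ a : G, a ∈ Z → orderOf a = orderOf (z ^ i) → a ∈ Cfsg.sigmaCore H := fun a ha he =>
    mem_sigmaCore_of_primes F.tilde hH.max (hH.le ha) fun q hq hd => by
      rw [he, Nat.prime_dvd_prime_iff_eq hq hp] at hd
      exact hd ▸ hσ
  have hle := hH.le
  obtain ⟨K, D, e⟩ := hH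
  set y := g * z ^ i * g⁻¹ with hy
  have hyZ : y ∈ Z := by rw [hy, ← conj_pow]; exact pow_mem hgz i
  have hyord : orderOf y = orderOf (z ^ i) :=
    orderOf_injective (MulAut.conj g).toMonoidHom (MulAut.conj g).injective (z ^ i)
  have hy' : y ∈ kStar H K := by
    rw [← D.sup_inf_sigmaCore]
    exact ⟨e ▸ hyZ, hmem y hyZ hyord⟩
  refine D.mem_of_conj_mem F hy' (fun h => hp.ne_one (by rw [← hyord, h, orderOf_one])) ?_
  exact conj_mem_cj g (hle (pow_mem hz i))

/-- `Ẑ` is a TI-set. -/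
theorem mem_of_conj_mem_zHat {z g : G} (hz : z ∈ zHatOf Z) (hg : g * z * g⁻¹ ∈ Z) : g ∈ Z := by
  obtain ⟨H, H', hH, hH', hne, ⟨i, hi, hiσ⟩, j, hj, hjσ⟩ := hO.exists_two_components F hz
  rw [← hH.inf_eq F hH' hne]
  exact ⟨hO.mem_of_component F hH hz.1 hg hi hiσ, hO.mem_of_component F hH' hz.1 hg hj hjσ⟩

omit F in
theorem conj_mem_zHat {n z : G} (hn : n ∈ Z) (hz : z ∈ zHatOf Z) : n * z * n⁻¹ ∈ zHatOf Z := by
  refine ⟨mul_mem (mul_mem hn hz.1) (inv_mem hn), fun H hH hmem => hz.2 H hH ⟨hz.1, ?_⟩⟩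
  have h := Coprime.conj_mem (le_normalizer_sigmaCore H (inv_mem (hH.le hn))) hmem.2
  simpa [mul_assoc] using h

theorem not_mem_tilde {H : Subgroup G} (hH : IsOwner Z H) {z : G} (hz : z ∈ zHatOf Z) (g : G) :
    g * z * g⁻¹ ∉ Cfsg.tildeOf H ((Cfsg.sigmaCore H : Set G) \ {1}) := by
  rintro ⟨a, ⟨ha, ha1⟩, r, hr, y, he⟩
  -- after a conjugation `z = a r`
  set t : G := g⁻¹ * y with ht
  have hz' : z = t * (a * r) * t⁻¹ := by
    calc z = g⁻¹ * (g * z * g⁻¹) * g := by group
      _ = _ := by rw [he, ht]; group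
  have hc : a * r = r * a := (commute_of_support hr).eq
  set x : G := t * a * t⁻¹ with hx
  have hxz : x * z * x⁻¹ = z := by
    rw [hz', hx]
    calc t * a * t⁻¹ * (t * (a * r) * t⁻¹) * (t * a * t⁻¹)⁻¹ = t * (a * (a * r) * a⁻¹) * t⁻¹ := by group
      _ = _ := by rw [hc, ← mul_assoc a r a, mul_inv_cancel_right, hc]
  have hxZ : x ∈ Z := hO.mem_of_conj_mem_zHat F hz (hxz.symm ▸ hz.1)
  have hxσ : x ∈ Cfsg.sigmaCore H := by
    refine mem_sigmaCore_of_primes F.tilde hH.max (hH.le hxZ) fun q hq hd => ?_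
    rw [hx, show orderOf (t * a * t⁻¹) = orderOf a from
      orderOf_injective (MulAut.conj t).toMonoidHom (MulAut.conj t).injective a] at hd
    exact sigma_of_mem ha hq hd
  obtain ⟨K, D, e⟩ := hH
  have hxs : x ∈ kStar H K := by rw [← D.sup_inf_sigmaCore]; exact ⟨e ▸ hxZ, hxσ⟩
  have hx1 : x ≠ 1 := fun h => ha1 (conj_eq_one_iff.mp h)
  have htH : t ∈ H := D.mem_of_conj_mem F hxs hx1 (conj_mem_cj t (sigmaCore_le H ha))
  -- so `C(a) ≤ H` and `r = 1`
  have hca : centralizer ({a} : Set G) ≤ H := by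
    intro c hc'
    have h1 : (t * c * t⁻¹) * x = x * (t * c * t⁻¹) := by
      rw [hx]
      calc t * c * t⁻¹ * (t * a * t⁻¹) = t * (c * a) * t⁻¹ := by group
        _ = _ := by rw [mem_centralizer_singleton_iff.mp hc']; group
    have h2 := D.centralizer_le F hxs hx1 (mem_centralizer_singleton_iff.mpr h1)
    have h3 : t⁻¹ * (t * c * t⁻¹) * t ∈ H := mul_mem (mul_mem (inv_mem htH) h2) htH
    simpa [mul_assoc] using h3
  rw [PF8.supportR_eq_bot hca, mem_bot] at hr
  refine hz.2 H ⟨K, D, e⟩ ⟨hz.1, ?_⟩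
  rw [hz', hr, mul_one]
  exact hxσ

/-- Some owner has primes outside `σ ∪ κ`. -/
theorem exists_not_allKappa : ∃ H, IsOwner Z H ∧ ¬ AllKappa H := by
  classical
  by_contra hcon
  push Not at hcon
  set O : Finset (Subgroup G) := (Set.toFinite {H | IsOwner Z H}).toFinset
  have hmem : ∀ H, H ∈ O ↔ IsOwner Z H := fun H => Set.Finite.mem_toFinset _
  set i := Z.index with hi
  let Ti : Subgroup G → Finset G := fun H =>
    (Set.toFinite (Cfsg.tildeOf H ((Cfsg.sigmaCore H : Set G) \ {1}))).toFinset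
  let W : Finset G := (Set.toFinite {a : G | ∃ g : G, ∃ s ∈ zHatOf Z, a = g * s * g⁻¹}).toFinset
  have hW : W.card = (zHatOf Z).ncard * i := by
    rw [← Set.ncard_eq_toFinset_card]
    exact ncard_conj_ti _ Z (fun n hn s hs => hO.conj_mem_zHat hn hs)
      (fun g s hs h => hO.mem_of_conj_mem_zHat F hs h.1)
  have hT : ∀ H ∈ O, (Ti H).card = (Nat.card (Cfsg.sigmaCore H) - 1) * H.index := fun H h => by
    rw [← Set.ncard_eq_toFinset_card]
    exact card_tilde F.minSimple F.tilde ((hmem H).mp h).max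
  have hdisj : (O : Set (Subgroup G)).PairwiseDisjoint Ti := by
    intro H hH H' hH' hne
    have h1 := (hmem H).mp hH
    have h2 := (hmem H').mp hH'
    have hnc : ∀ g : G, H' ≠ H.map (MulAut.conj g).toMonoidHom := by
      intro g hg
      obtain ⟨K, D, e⟩ := h1
      obtain ⟨y, hy, hyp⟩ := exists_mem_orderOf_prime (D.kStar_ne_bot F)
      have hσ : orderOf y ∈ Cfsg.sigma H := sigma_of_mem hy.1 hyp dvd_rfl
      exact hne.symm (eq_of_sigma ⟨K, D, e⟩ F h2 hσ (by rwa [hg, sigma_map_conj]))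
    have := tilde_disjoint F.tilde h1.max h2.max hnc
    rw [Function.onFun, Finset.disjoint_left]
    intro a ha ha'
    rw [Set.Finite.mem_toFinset] at ha ha'
    exact (this ▸ ⟨ha, ha'⟩ : a ∈ (∅ : Set G))
  have hdisjW : Disjoint (O.biUnion Ti) W := by
    rw [Finset.disjoint_left]
    intro a ha haW
    obtain ⟨H, hH, haT⟩ := Finset.mem_biUnion.mp ha
    rw [Set.Finite.mem_toFinset] at haT haW
    obtain ⟨g, s, hs, rfl⟩ := haW
    exact hO.not_mem_tilde F ((hmem H).mp hH) hs g haT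
  have htot : (∑ H ∈ O, (Nat.card (Cfsg.sigmaCore H) - 1) * H.index) + (zHatOf Z).ncard * i
      ≤ Nat.card G := by
    haveI := Fintype.ofFinite G
    rw [← hW, ← Finset.sum_congr rfl hT, ← Finset.card_biUnion hdisj,
      ← Finset.card_union_of_disjoint hdisjW, Nat.card_eq_fintype_card]
    exact Finset.card_le_univ _
  -- `Z` is covered by `Ẑ`, `1` and the parts
  have hcover : Nat.card Z ≤ (zHatOf Z).ncard + 1 + ∑ H ∈ O, (Nat.card (part Z H) - 1) := by
    let P : Subgroup G → Finset G := fun H => (Set.toFinite ((part Z H : Set G) \ {1})).toFinset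
    have hP : ∀ H, (P H).card = Nat.card (part Z H) - 1 := fun H => by
      rw [← Set.ncard_eq_toFinset_card, Set.ncard_sdiff (Set.singleton_subset_iff.mpr (one_mem _)),
        Set.ncard_singleton, Nat.card_coe_set_eq (part Z H : Set G) |>.symm]
      rfl
    have hsub : (Set.toFinite (Z : Set G)).toFinset ⊆
        (Set.toFinite (zHatOf Z)).toFinset ∪ {1} ∪ O.biUnion P := by
      intro z hz
      rw [Set.Finite.mem_toFinset] at hz
      by_cases h : z ∈ zHatOf Z
      · simp [h]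
      · by_cases h1 : z = 1
        · simp [h1]
        · obtain ⟨H, hH, hp⟩ : ∃ H, IsOwner Z H ∧ z ∈ part Z H := by
            by_contra hno
            push Not at hno
            exact h ⟨hz, hno⟩
          refine Finset.mem_union_right _ (Finset.mem_biUnion.mpr ⟨H, (hmem H).mpr hH, ?_⟩)
          rw [Set.Finite.mem_toFinset]
          exact ⟨hp, h1⟩
    have h := (Finset.card_le_card hsub).trans ((Finset.card_union_le _ _).trans
      (Nat.add_le_add (Finset.card_union_le _ _) Finset.card_biUnion_le))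
    simp only [Finset.card_singleton, hP] at h
    rw [← Set.ncard_eq_toFinset_card, ← Set.ncard_eq_toFinset_card,
      ← Nat.card_coe_set_eq (Z : Set G)] at h
    exact h
  -- arithmetic for one owner
  have harith : ∀ H ∈ O, i * (Nat.card (part Z H) - 1) + i ≤
      (Nat.card (Cfsg.sigmaCore H) - 1) * H.index + H.index ∧ 3 * H.index ≤ i := by
    intro H h
    have hH := (hmem H).mp h
    obtain ⟨K, D, e⟩ := hH
    have hcard := D.card_eq_of_allKappa F (hcon H ⟨K, D, e⟩)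
    have hpart : part Z H = kStar H K := by rw [← e, part, D.sup_inf_sigmaCore]
    have hZ : Nat.card Z = Nat.card (kStar H K) * Nat.card K := by rw [← e, D.card_sup]
    have hG1 := H.card_mul_index
    have hG2 := Z.card_mul_index
    have hkey : H.index * Nat.card (Cfsg.sigmaCore H) = i * Nat.card (kStar H K) := by
      have h3 : Nat.card K * (H.index * Nat.card (Cfsg.sigmaCore H)) =
          Nat.card K * (i * Nat.card (kStar H K)) := by
        calc _ = Nat.card H * H.index := by rw [hcard]; ring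
          _ = Nat.card G := hG1
          _ = Nat.card Z * i := hG2.symm
          _ = _ := by rw [hZ]; ring
      exact Nat.eq_of_mul_eq_mul_left Nat.card_pos h3
    have ha : 1 ≤ Nat.card (kStar H K) := Nat.card_pos
    have hs : 1 ≤ Nat.card (Cfsg.sigmaCore H) := Nat.card_pos
    -- `H_σ` is at least three times `K*`
    obtain ⟨c, hc⟩ := card_dvd_of_le (inf_le_left : kStar H K ≤ Cfsg.sigmaCore H)
    have hc3 : 3 ≤ c := by
      have hodd : Odd c := by
        have := OddOrder.odd_card F.minSimple (Cfsg.sigmaCore H)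
        rw [hc] at this
        exact (Nat.odd_mul.mp this).2
      have hc1 : c ≠ 1 := by
        intro h1
        obtain ⟨y, hy, hyp⟩ := exists_mem_orderOf_prime (D.kStar_ne_bot F)
        haveI := Fact.mk hyp
        obtain ⟨S⟩ : Nonempty (Sylow (orderOf y) ↥(Cfsg.sigmaCore H)) := inferInstance
        refine ((F.s1431 H D.max K D.hall D.ne_bot).2.2.1 (orderOf y) hyp
          (orderOf_dvd_natCard _ hy) S).2.2 ((map_subtype_le _).trans ?_)
        exact (eq_of_le_of_card_ge inf_le_left (by rw [hc, h1, mul_one])).ge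
      rcases hodd with ⟨m, rfl⟩
      omega
    refine ⟨?_, ?_⟩
    · rw [hpart]
      have e1 : i * (Nat.card (kStar H K) - 1) + i = i * Nat.card (kStar H K) := by
        rw [← Nat.mul_succ, Nat.succ_eq_add_one, Nat.sub_add_cancel ha]
      have e2 : (Nat.card (Cfsg.sigmaCore H) - 1) * H.index + H.index =
          H.index * Nat.card (Cfsg.sigmaCore H) := by
        rw [← Nat.succ_mul, Nat.succ_eq_add_one, Nat.sub_add_cancel hs, mul_comm]
      omega
    · have h4 : H.index * c * Nat.card (kStar H K) = i * Nat.card (kStar H K) := by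
        rw [← hkey, hc]; ring
      have h5 := Nat.eq_of_mul_eq_mul_right Nat.card_pos h4
      nlinarith
  have hsum1 := Finset.sum_le_sum fun H h => (harith H h).1
  have hsum2 := Finset.sum_le_sum fun H h => (harith H h).2
  rw [Finset.sum_add_distrib, Finset.sum_add_distrib, ← Finset.mul_sum, Finset.sum_const,
    smul_eq_mul] at hsum1
  rw [← Finset.mul_sum, Finset.sum_const, smul_eq_mul] at hsum2
  have hcard2 : 2 ≤ O.card := by
    obtain ⟨H', hH', hne⟩ := hO.exists_ne F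
    exact Finset.one_lt_card.mpr ⟨H', (hmem _).mpr hH', H₀, (hmem _).mpr hO, hne⟩
  have hG2 : Nat.card Z * i = Nat.card G := Z.card_mul_index
  have hipos : 0 < i := Nat.pos_of_ne_zero index_ne_zero_of_finite
  nlinarith [Nat.mul_le_mul_right i hcover]

end IsOwner

end Cfsg.Agent.OddOrder.BG14
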