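import Cfsg.Agent.OddOrder.BG14.Tools

/-!
# BG 14.2: the `κ`-part of a maximal subgroup

`semiregular` is the fixed-point-free action of the `κ`-elements on the remaining `σ'`-part,
`kappaHall_spec` the structure attached to a Hall `κ(M)`-subgroup `K`.
-/

set_option autoImplicit false
set_option linter.style.haveILetI false
set_option linter.unusedSectionVars false
set_option linter.unusedVariables false

universe u

namespace Cfsg.Agent.OddOrder.BG14

open Subgroup H40 BG11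

variable {G : Type u} [Group G] [Finite G]

/-- The primes of `M` outside `κ(M) ∪ σ(M)`. -/
abbrev restPrimes (M : Subgroup G) : Set ℕ :=
  {q | q.Prime ∧ q ∉ Cfsg.kappa M ∧ q ∉ Cfsg.sigma M}

/-- A Hall subgroup `K` in a complement `E`, with a normal complement `U` in `E`. -/
structure KappaSplit (M K E U : Subgroup G) : Prop where
  compl : Cfsg.IsComplIn E (Cfsg.sigmaCore M) M
  kHall : Cfsg.IsPiHallOf (Cfsg.kappa M) K M
  le : K ≤ E
  uHall : Cfsg.IsPiHallOf (restPrimes M) U M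
  uLe : U ≤ E
  uNormal : E ≤ normalizer (U : Set G)
  split : U ⊔ K = E

variable (h : BG13.Hyp G) (R : BG13.Results G) {M : Subgroup G}
include h R

theorem minSimple : Cfsg.IsMinSimpleOddOrder G := h.s10.minSimple

/-- The case `κ ∩ τ₃ ≠ ∅`. -/
theorem kappa_tau3_case (hM : IsCoatom M) {E : Subgroup G}
    (hE : Cfsg.IsComplIn E (Cfsg.sigmaCore M) M) {p : ℕ} (hp : p ∈ Cfsg.kappa M)
    (hp3 : p ∈ Cfsg.tau3 M) :
    Cfsg.tau2 M = ∅ ∧ (∀ q : ℕ, q.Prime → q ∣ Nat.card E → q ∈ Cfsg.kappa M) ∧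
      (∀ X : Subgroup G, X ≤ E → (Nat.card X).Prime → E ≤ normalizer (X : Set G)) ∧
      ∀ x ∈ E, x ≠ 1 → Cfsg.sigmaCore M ⊓ centralizer ({x} : Set G) =
        Cfsg.sigmaCore M ⊓ centralizer (E : Set G) := by
  haveI := Fact.mk hp.1
  obtain ⟨⟨z, hz⟩, hzo⟩ := exists_prime_orderOf_dvd_card' (G := E) p
    (dvd_compl h.s10 hM hE hp.1 hp.2.1 hp.2.2.1)
  rw [Subgroup.orderOf_mk] at hzo
  have hPE : zpowers z ≤ E := zpowers_le.mpr hz
  have hPc : Nat.card (zpowers z) = p := by rw [Nat.card_zpowers, hzo]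
  have hfix := exists_fixed_of_kappa h.s10 hp (hPE.trans hE.1) hPc
  obtain ⟨h2, -, hn, hall⟩ := R.tau3_structure M hM E hE p hp3 _ hPE hPc hfix
  refine ⟨h2, fun q hq hd => ?_, hn, hall⟩
  haveI := Fact.mk hq
  obtain ⟨⟨w, hw⟩, hwo⟩ := exists_prime_orderOf_dvd_card' (G := E) q hd
  rw [Subgroup.orderOf_mk] at hwo
  have hqs := not_mem_sigma_of_dvd_compl (h.s10.sigmaCore_hall M hM).1 hE hq hd
  have hqM : q ∣ Nat.card M := hd.trans (card_dvd_of_le hE.1)
  have hq13 : q ∈ Cfsg.tau1 M ∪ Cfsg.tau3 M := by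
    rcases tau_cases' h.s10 hM hq hqM hqs with h' | h' | h'
    · exact Or.inl h'
    · exact absurd h' (h2 ▸ id)
    · exact Or.inr h'
  refine mem_kappa_of_fixed h.s10 hq13 ((zpowers_le.mpr hw).trans hE.1)
    (by rw [Nat.card_zpowers, hwo]) ?_
  rw [BG13.centralizer_zpowers, hall w hw (fun e => hq.ne_one (by rw [← hwo, e, orderOf_one])),
    ← hall z hz (fun e => hp.1.ne_one (by rw [← hzo, e, orderOf_one])), ← BG13.centralizer_zpowers]
  exact hfix

/-- As soon as `κ(M)` is nonempty it contains `τ₁(M)`. -/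
theorem tau1_subset_kappa (hM : IsCoatom M) (hne : (Cfsg.kappa M).Nonempty) :
    Cfsg.tau1 M ⊆ Cfsg.kappa M := by
  intro s hs
  obtain ⟨r, hr⟩ := hne
  obtain ⟨E, hE⟩ := OddOrder.exists_compl (h.s10.sigmaCore_hall M hM).1
  have hsE := dvd_compl h.s10 hM hE hs.1 hs.2.2.1 hs.2.1
  rcases OddOrder.kappa_subset_tau13 M hr with hr1 | hr3
  swap
  · exact (kappa_tau3_case h R hM hE hr hr3).2.1 s hs.1 hsE
  haveI := Fact.mk hr.1
  haveI := Fact.mk hs.1
  have hsE' : Group.IsSolvable E := isSolvable_of_le_max h.s10.minSimple hM hE.1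
  have := hsE'
  obtain ⟨E₁, hE₁⟩ := (Hall.hallDom_of_isSolvable (Cfsg.tau1 M) E).1
  have hE₁' : Cfsg.IsPiHallOf (Cfsg.tau1 M) (E₁.map E.subtype) E :=
    Coprime.isPiHallOf_iff.mpr ⟨map_subtype_le _, by
      rwa [subgroupOf, comap_map_eq_self_of_injective E.subtype_injective]⟩
  have hdvd : ∀ q : ℕ, q.Prime → q ∣ Nat.card E → q ∈ Cfsg.tau1 M →
      q ∣ Nat.card (E₁.map E.subtype) := fun q hq hd hq1 => by
    rw [← BG13.card_mul_relIndex hE₁'.1] at hd
    exact (hq.dvd_mul.mp hd).resolve_right (hE₁'.2.2 q hq hq1)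
  obtain ⟨⟨a, ha⟩, hao⟩ := exists_prime_orderOf_dvd_card' (G := E₁.map E.subtype) r
    (hdvd r hr.1 (dvd_compl h.s10 hM hE hr.1 hr.2.1 hr.2.2.1) hr1)
  obtain ⟨⟨b, hb⟩, hbo⟩ := exists_prime_orderOf_dvd_card' (G := E₁.map E.subtype) s
    (hdvd s hs.1 hsE hs)
  rw [Subgroup.orderOf_mk] at hao hbo
  refine mem_kappa_of_fixed h.s10 (Or.inl hs) (zpowers_le.mpr ((hE₁'.1.trans hE.1) hb))
    (by rw [Nat.card_zpowers, hbo]) ?_
  rw [BG13.centralizer_zpowers, R.tau1_semiprime M hM E hE _ hE₁' b hb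
      (fun e => hs.1.ne_one (by rw [← hbo, e, orderOf_one])),
    ← R.tau1_semiprime M hM E hE _ hE₁' a ha (fun e => hr.1.ne_one (by rw [← hao, e, orderOf_one])),
    ← BG13.centralizer_zpowers]
  exact exists_fixed_of_kappa h.s10 hr (zpowers_le.mpr ((hE₁'.1.trans hE.1) ha))
    (by rw [Nat.card_zpowers, hao])

/-- No element of prime order in `κ(M)` commutes with one of prime order outside
`σ(M) ∪ κ(M)`. -/
theorem semiregular (hM : IsCoatom M) {k u : G} (hk : k ∈ M) (hu : u ∈ M)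
    (hkp : orderOf k ∈ Cfsg.kappa M) (hup : (orderOf u).Prime) (hus : orderOf u ∉ Cfsg.sigma M)
    (huk : orderOf u ∉ Cfsg.kappa M) (hc : Commute k u) : False := by
  haveI := Fact.mk hup
  set W := zpowers k ⊔ zpowers u with hW
  have hn : zpowers u ≤ normalizer (zpowers k : Set G) :=
    le_trans (zpowers_le_centralizer (mem_centralizer_singleton_iff.mpr hc.symm.eq))
      (centralizer_le_normalizer _)
  have hWσ : ∀ q : ℕ, q.Prime → q ∣ Nat.card W → q ∉ Cfsg.sigma M := fun q hq hd => by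
    have hd' := hd.trans (BG13.card_sup_dvd hn)
    rw [Nat.card_zpowers, Nat.card_zpowers] at hd'
    rcases hq.dvd_mul.mp hd' with hd' | hd'
    · exact (Nat.prime_dvd_prime_iff_eq hq hkp.1).mp hd' ▸ hkp.2.2.1
    · exact (Nat.prime_dvd_prime_iff_eq hq hup).mp hd' ▸ hus
  obtain ⟨E, hE, hWE⟩ := h.s10.exists_compl_ge hM
    (sup_le (zpowers_le.mpr hk) (zpowers_le.mpr hu)) hWσ
  have hkE : zpowers k ≤ E := le_sup_left.trans hWE
  have huE : zpowers u ≤ E := le_sup_right.trans hWE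
  have hud : orderOf u ∣ Nat.card E := Nat.card_zpowers u ▸ card_dvd_of_le huE
  rcases OddOrder.kappa_subset_tau13 M hkp with h1 | h3
  swap
  · exact huk ((kappa_tau3_case h R hM hE hkp h3).2.1 _ hup hud)
  have hfix := exists_fixed_of_kappa h.s10 hkp (hkE.trans hE.1) (Nat.card_zpowers k)
  have hu23 : orderOf u ∈ Cfsg.tau2 M ∪ Cfsg.tau3 M := by
    rcases tau_cases' h.s10 hM hup (hud.trans (card_dvd_of_le hE.1)) hus with h' | h' | h'
    · exact absurd (tau1_subset_kappa h R hM ⟨_, hkp⟩ h') huk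
    · exact Or.inl h'
    · exact Or.inr h'
  obtain ⟨hu3, heq⟩ := R.tau1_centralizes M hM E hE _ h1 _ hkE (Nat.card_zpowers k) hfix _ hu23 _ huE
    (Nat.card_zpowers u) (zpowers_le_centralizer (mem_centralizer_singleton_iff.mpr hc.symm.eq))
  exact huk (mem_kappa_of_fixed h.s10 (Or.inr hu3) (huE.trans hE.1) (Nat.card_zpowers u)
    (heq ▸ hfix))

/-- A `κ`-element and an element of order prime to `σ ∪ κ` commute only trivially. -/
theorem eq_one_of_commute (hM : IsCoatom M) {k u : G} (hk : k ∈ M) (hu : u ∈ M) (hk1 : k ≠ 1)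
    (hkκ : ∀ p : ℕ, p.Prime → p ∣ orderOf k → p ∈ Cfsg.kappa M)
    (huπ : ∀ p : ℕ, p.Prime → p ∣ orderOf u → p ∉ Cfsg.kappa M ∧ p ∉ Cfsg.sigma M)
    (hc : Commute k u) : u = 1 := by
  by_contra hu1
  obtain ⟨r, hr, hrd⟩ := Nat.exists_prime_and_dvd (fun e => hk1 (orderOf_eq_one_iff.mp e))
  obtain ⟨s, hs, hsd⟩ := Nat.exists_prime_and_dvd (fun e => hu1 (orderOf_eq_one_iff.mp e))
  obtain ⟨i, hi⟩ := exists_pow_prime hrd
  obtain ⟨j, hj⟩ := exists_pow_prime hsd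
  exact semiregular h R hM (pow_mem hk i) (pow_mem hu j) (hi ▸ hkκ r hr hrd) (hj ▸ hs)
    (hj ▸ (huπ s hs hsd).2) (hj ▸ (huπ s hs hsd).1) (hc.pow_pow i j)

theorem exists_split (hM : IsCoatom M) {K : Subgroup G}
    (hK : Cfsg.IsPiHallOf (Cfsg.kappa M) K M) : ∃ E U : Subgroup G, KappaSplit M K E U := by
  obtain ⟨E, hE, hKE⟩ := h.s10.exists_compl_ge hM hK.1 fun q hq hd => (hK.2.1 q hq hd).2.2.1
  have hEM := hE.1
  have hsol : Group.IsSolvable E := isSolvable_of_le_max h.s10.minSimple hM hEM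
  have hEs : ∀ q : ℕ, q.Prime → q ∣ Nat.card E → q ∉ Cfsg.sigma M := fun q hq hd =>
    not_mem_sigma_of_dvd_compl (h.s10.sigmaCore_hall M hM).1 hE hq hd
  have hex : ∃ U : Subgroup G, Cfsg.IsPiHallOf (restPrimes M) U E ∧
      E ≤ normalizer (U : Set G) := by
    by_cases h3 : ∃ p, p ∈ Cfsg.kappa M ∧ p ∈ Cfsg.tau3 M
    · obtain ⟨p, hp, hp3⟩ := h3
      refine ⟨⊥, ⟨bot_le, fun q hq hd => ?_, fun q hq hqπ hd => ?_⟩,
        fun e _ => cj_eq_iff.mp (Subgroup.map_bot _)⟩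
      · rw [card_bot] at hd; exact absurd (Nat.dvd_one.mp hd) hq.ne_one
      · rw [relIndex_bot_left] at hd
        exact hqπ.2.1 ((kappa_tau3_case h R hM hE hp hp3).2.1 q hq hd)
    · refine exists_normal_hall hsol fun q hq hd => ⟨hq, fun hκ => ?_,
        hEs q hq (hd.trans (card_dvd_of_le (derived_le E)))⟩
      rcases OddOrder.kappa_subset_tau13 M hκ with h' | h'
      · exact h'.2.2.2.1 (hd.trans (card_dvd_of_le (commutator_mono hEM hEM)))
      · exact h3 ⟨q, hκ, h'⟩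
  obtain ⟨U, hU, hUn⟩ := hex
  refine ⟨E, U, hE, hK, hKE, ⟨hU.1.trans hEM, hU.2.1, fun q hq hqπ hd => ?_⟩, hU.1, hUn, ?_⟩
  · rw [← relIndex_mul_relIndex U E M hU.1 hEM, (H41.IsComplIn.relIndex_eq hE).2] at hd
    exact (hq.dvd_mul.mp hd).elim (hU.2.2 q hq hqπ) fun hd' =>
      hqπ.2.2 (sigmaCore_isPiNumber M q hq hd')
  · refine le_antisymm (sup_le hU.1 hKE) (relIndex_eq_one.mp ?_)
    refine Nat.eq_one_iff_not_exists_prime_dvd.mpr fun q hq hd => ?_
    have h1 : (U ⊔ K).relIndex E ∣ U.relIndex E := relIndex_dvd_of_le_left E le_sup_left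
    have h2 : (U ⊔ K).relIndex E ∣ K.relIndex M :=
      (relIndex_dvd_of_le_left E (le_sup_right : K ≤ U ⊔ K)).trans
        (Dvd.intro _ (relIndex_mul_relIndex K E M hKE hEM))
    by_cases hκ : q ∈ Cfsg.kappa M
    · exact hK.2.2 q hq hκ (hd.trans h2)
    · have hqE : q ∣ Nat.card E :=
        (hd.trans h1).trans (Dvd.intro_left _ (BG13.card_mul_relIndex hU.1))
      exact hU.2.2 q hq ⟨hq, hκ, hEs q hq hqE⟩ (hd.trans h1)

/-- BG 14.2 (a): `K` acts semiprimely, and its subgroups of prime order are normal in it. -/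
theorem kappaHall_semiprime (hM : IsCoatom M) {K E U : Subgroup G} (D : KappaSplit M K E U)
    (hK1 : K ≠ ⊥) :
    (∀ k ∈ K, k ≠ 1 → Cfsg.sigmaCore M ⊓ centralizer ({k} : Set G) =
        Cfsg.sigmaCore M ⊓ centralizer (K : Set G)) ∧
      ∀ X : Subgroup G, X ≤ K → (Nat.card X).Prime → K ≤ normalizer (X : Set G) := by
  by_cases h3 : ∃ p, p ∈ Cfsg.kappa M ∧ p ∈ Cfsg.tau3 M
  · obtain ⟨p, hp, hp3⟩ := h3
    obtain ⟨-, -, hn, hall⟩ := kappa_tau3_case h R hM D.compl hp hp3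
    refine ⟨fun k hk hk1 => le_antisymm ?_ ?_, fun X hX hXp => D.le.trans (hn X (hX.trans D.le) hXp)⟩
    · rw [hall k (D.le hk) hk1]
      exact inf_le_inf_left _ (centralizer_le D.le)
    · exact inf_le_inf_left _ (centralizer_le (Set.singleton_subset_iff.mpr hk))
  · have hs : Group.IsSolvable E := isSolvable_of_le_max h.s10.minSimple hM D.compl.1
    have := hs
    obtain ⟨E₁, hE₁, hKE₁⟩ := (Hall.hallDom_of_isSolvable (Cfsg.tau1 M) E).exists_le
      (U := K.subgroupOf E) (fun q hq hd => by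
        rw [Nat.card_congr (subgroupOfEquivOfLe D.le).toEquiv] at hd
        have hκ := D.kHall.2.1 q hq hd
        exact (OddOrder.kappa_subset_tau13 M hκ).resolve_right fun h' => h3 ⟨q, hκ, h'⟩)
    have hE₁' : Cfsg.IsPiHallOf (Cfsg.tau1 M) (E₁.map E.subtype) E :=
      Coprime.isPiHallOf_iff.mpr ⟨map_subtype_le _, by
        rwa [subgroupOf, comap_map_eq_self_of_injective E.subtype_injective]⟩
    have hle : K ≤ E₁.map E.subtype := fun k hk => ⟨⟨k, D.le hk⟩, hKE₁ hk, rfl⟩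
    have hcyc : IsCyclic K :=
      BG13.isCyclic_mono hle ((h.tau13_structure M hM E D.compl).2.1 _ hE₁')
    refine ⟨fun k hk hk1 => le_antisymm ?_ ?_, fun X hX _ =>
      le_normalizer.trans (BG13.normalizer_le_of_cyclic hcyc hX)⟩
    · rw [R.tau1_semiprime M hM E D.compl _ hE₁' k (hle hk) hk1]
      exact inf_le_inf_left _ (centralizer_le hle)
    · exact inf_le_inf_left _ (centralizer_le (Set.singleton_subset_iff.mpr hk))

theorem kappaStar_ne_bot (hM : IsCoatom M) {K : Subgroup G}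
    (hK : Cfsg.IsPiHallOf (Cfsg.kappa M) K M) :
    Cfsg.sigmaCore M ⊓ centralizer (K : Set G) ≠ ⊥ := by
  rcases eq_or_ne K ⊥ with rfl | hK1
  · intro e
    refine h.s10.sigmaCore_ne_bot M hM (eq_bot_iff.mpr fun x hx => e.le ⟨hx, ?_⟩)
    exact mem_centralizer_iff.mpr fun y hy => by simp [mem_bot.mp hy]
  · obtain ⟨E, U, D⟩ := exists_split h R hM hK
    obtain ⟨z, hz, hzp⟩ := exists_prime_elem hK1
    rw [← (kappaHall_semiprime h R hM D hK1).1 z hz (fun e => hzp.ne_one (orderOf_eq_one_iff.mpr e)),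
      ← BG13.centralizer_zpowers]
    exact exists_fixed_of_kappa h.s10
      (hK.2.1 _ hzp (orderOf_dvd_natCard _ hz)) (zpowers_le.mpr (hK.1 hz)) (Nat.card_zpowers z)

/-- `U` is acted on freely by `K`. -/
theorem inf_centralizer_eq_bot (hM : IsCoatom M) {K U : Subgroup G}
    (hK : Cfsg.IsPiHallOf (Cfsg.kappa M) K M) (hU : U ≤ M)
    (hUp : ∀ p : ℕ, p.Prime → p ∣ Nat.card U → p ∉ Cfsg.kappa M ∧ p ∉ Cfsg.sigma M) :
    ∀ k ∈ K, k ≠ 1 → U ⊓ centralizer ({k} : Set G) = ⊥ := fun k hk hk1 =>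
  eq_bot_iff.mpr fun u hu => mem_bot.mpr (eq_one_of_commute h R hM (hK.1 hk) (hU hu.1) hk1
    (fun p hp hd => hK.2.1 p hp (hd.trans (orderOf_dvd_natCard _ hk)))
    (fun p hp hd => hUp p hp (hd.trans (orderOf_dvd_natCard _ hu.1)))
    (show Commute u k from mem_centralizer_singleton_iff.mp hu.2).symm)

/-- The complement `U` is abelian. -/
theorem isMulCommutative_rest (hM : IsCoatom M) {K E U : Subgroup G} (D : KappaSplit M K E U)
    (hK1 : K ≠ ⊥) : IsMulCommutative U := by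
  obtain ⟨z, hz, hzp⟩ := exists_prime_elem hK1
  refine h.s10.commute_nilpotent hM D.uHall.1 ?_ fun p hp hd => (D.uHall.2.1 p hp hd).2.2
  refine BG3.isNilpotent_of_fpf_subgroup (E := zpowers z) (by rwa [Nat.card_zpowers])
    ((zpowers_le.mpr (D.le hz)).trans D.uNormal) fun e he he1 a ha hc => ?_
  exact mem_bot.mp ((inf_centralizer_eq_bot h R hM D.kHall D.uHall.1
    (fun p hp hd => (D.uHall.2.1 p hp hd).2) e (zpowers_le.mpr hz he) he1).le
      ⟨ha, mem_centralizer_singleton_iff.mpr hc.symm⟩)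

/-- BG 14.2 (b): the normalizer in `M` of a subgroup of prime order of `K`. -/
theorem inf_normalizer_eq (hM : IsCoatom M) {K : Subgroup G}
    (hK : Cfsg.IsPiHallOf (Cfsg.kappa M) K M) (hK1 : K ≠ ⊥) {X : Subgroup G} (hX : X ≤ K)
    (hXp : (Nat.card X).Prime) :
    M ⊓ normalizer (X : Set G) = K ⊔ (Cfsg.sigmaCore M ⊓ centralizer (K : Set G)) := by
  obtain ⟨E, U, D⟩ := exists_split h R hM hK
  obtain ⟨hsemi, hnorm⟩ := kappaHall_semiprime h R hM D hK1
  refine le_antisymm ?_ (sup_le (le_inf hK.1 (hnorm X hX hXp))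
    (le_inf (inf_le_left.trans (sigmaCore_le M))
      (inf_le_right.trans ((centralizer_le hX).trans (centralizer_le_normalizer _)))))
  rintro m ⟨hm, hmX⟩
  obtain ⟨e, he, s, hs, rfl⟩ := D.compl.2.2.2 m hm
  obtain ⟨hsX, heX⟩ := split_normalizer D.compl (hX.trans D.le) he hs hmX
  obtain ⟨x, hx, hx1⟩ := H41.exists_ne_one (BG13.ne_bot_of_prime_card hXp)
  refine mul_mem (mem_sup_left ?_) (mem_sup_right ?_)
  swap
  · rw [← hsemi x (hX hx) hx1]
    exact ⟨hs, centralizer_le (Set.singleton_subset_iff.mpr hx) hsX⟩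
  rw [← D.split] at he
  obtain ⟨u, hu, k, hk, rfl⟩ := (Coprime.mem_sup_iff (D.le.trans D.uNormal)).mp he
  have huX : u ∈ normalizer (X : Set G) := by
    simpa using mul_mem heX (inv_mem (hnorm X hX hXp hk))
  have hu1 : u * x * u⁻¹ * x⁻¹ = 1 := by
    have h1 : u * x * u⁻¹ * x⁻¹ ∈ K := hX (mul_mem ((mem_normalizer_iff.mp huX x).mp hx) (inv_mem hx))
    have h2 : u * x * u⁻¹ * x⁻¹ ∈ U := by
      rw [show u * x * u⁻¹ * x⁻¹ = u * (x * u⁻¹ * x⁻¹) by group]
      exact mul_mem hu ((mem_normalizer_iff.mp (D.uNormal (D.le (hX hx))) u⁻¹).mp (inv_mem hu))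
    have h12 : K ⊓ U = ⊥ := Coprime.inf_eq_bot (Nat.coprime_of_dvd fun q hq a b =>
      (D.uHall.2.1 q hq b).2.1 (hK.2.1 q hq a))
    exact mem_bot.mp (h12.le ⟨h1, h2⟩)
  rw [mul_inv_eq_one, mul_inv_eq_iff_eq_mul] at hu1
  have := (inf_centralizer_eq_bot h R hM hK D.uHall.1 (fun p hp hd => (D.uHall.2.1 p hp hd).2) x
    (hX hx) hx1).le ⟨hu, mem_centralizer_singleton_iff.mpr hu1⟩
  rw [mem_bot.mp this, one_mul]
  exact hk

theorem inf_normalizer_hall_eq (hM : IsCoatom M) {K : Subgroup G}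
    (hK : Cfsg.IsPiHallOf (Cfsg.kappa M) K M) (hK1 : K ≠ ⊥) :
    M ⊓ normalizer (K : Set G) = K ⊔ (Cfsg.sigmaCore M ⊓ centralizer (K : Set G)) := by
  obtain ⟨E, U, D⟩ := exists_split h R hM hK
  refine le_antisymm ?_ (sup_le (le_inf hK.1 le_normalizer)
    (le_inf (inf_le_left.trans (sigmaCore_le M))
      (inf_le_right.trans (centralizer_le_normalizer _))))
  rintro m ⟨hm, hmK⟩
  obtain ⟨e, he, s, hs, rfl⟩ := D.compl.2.2.2 m hm
  obtain ⟨hsK, heK⟩ := split_normalizer D.compl D.le he hs hmK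
  refine mul_mem (mem_sup_left ?_) (mem_sup_right ⟨hs, hsK⟩)
  rw [← D.split] at he
  obtain ⟨u, hu, k, hk, rfl⟩ := (Coprime.mem_sup_iff (D.le.trans D.uNormal)).mp he
  have huK : u ∈ normalizer (K : Set G) := by
    simpa using mul_mem heK (inv_mem (le_normalizer hk))
  obtain ⟨x, hx, hx1⟩ := H41.exists_ne_one hK1
  have h1 : u * x * u⁻¹ * x⁻¹ ∈ K :=
    mul_mem ((mem_normalizer_iff.mp huK x).mp hx) (inv_mem hx)
  have h2 : u * x * u⁻¹ * x⁻¹ ∈ U := by
    rw [show u * x * u⁻¹ * x⁻¹ = u * (x * u⁻¹ * x⁻¹) by group]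
    exact mul_mem hu ((mem_normalizer_iff.mp (D.uNormal (D.le hx)) u⁻¹).mp (inv_mem hu))
  have h12 : K ⊓ U = ⊥ := Coprime.inf_eq_bot (Nat.coprime_of_dvd fun q hq a b =>
    (D.uHall.2.1 q hq b).2.1 (hK.2.1 q hq a))
  have hu1 := mem_bot.mp (h12.le ⟨h1, h2⟩)
  rw [mul_inv_eq_one, mul_inv_eq_iff_eq_mul] at hu1
  have := (inf_centralizer_eq_bot h R hM hK D.uHall.1 (fun p hp hd => (D.uHall.2.1 p hp hd).2) x
    hx hx1).le ⟨hu, mem_centralizer_singleton_iff.mpr hu1⟩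
  rw [mem_bot.mp this, one_mul]
  exact hk

/-- BG 14.2 (b), second part: a maximal subgroup above `N(X)` has `p ∈ σ`. -/
theorem mem_sigma_of_kappa (hM : IsCoatom M) {p : ℕ} (hp : p ∈ Cfsg.kappa M) {X : Subgroup G}
    (hXM : X ≤ M) (hX : Nat.card X = p) {H : Subgroup G} (hH : IsCoatom H)
    (hN : normalizer (X : Set G) ≤ H) :
    p ∈ Cfsg.sigma H ∧ (∀ g : G, H ≠ cj g M) ∧ X ≤ Cfsg.sigmaCore H := by
  haveI := Fact.mk hp.1
  have hp13 := OddOrder.kappa_subset_tau13 M hp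
  obtain ⟨hnc, hcase, -⟩ := (R.normalizer_tau13 M hM p hp13 X hXM hX).2 H hH hN
  have hXH : X ≤ H := le_normalizer.trans hN
  have hXp : IsPGroup p X := IsPGroup.of_card (n := 1) (by rw [hX, pow_one])
  suffices hσ : p ∈ Cfsg.sigma H from ⟨hσ, hnc, h.s10.le_sigmaCore_of_isPGroup hH hσ hXH hXp⟩
  refine hcase.resolve_right fun h2 => ?_
  have hne := exists_fixed_of_kappa h.s10 hp hXM hX
  obtain ⟨z, ⟨hzs, hzc⟩, hzp⟩ := exists_prime_elem hne
  obtain ⟨⟨hCz, huniq⟩, -⟩ := R.fixed_element M hM p hp13 X hXM hX z hzs hzc hzp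
  haveI := Fact.mk hzp
  have hzH : z ∈ H := (centralizer_le_normalizer _).trans hN hzc
  have hzM : orderOf z ∈ Cfsg.sigma M :=
    sigmaCore_isPiNumber M _ hzp (orderOf_dvd_natCard _ hzs)
  have hzH' : orderOf z ∉ Cfsg.sigma H := fun hσ => by
    obtain ⟨g, hg⟩ := R.sigma_disjoint M H hM hH ⟨_, hzM, hσ⟩
    exact hnc g hg
  have hzp' : orderOf z ≠ p := fun e => hp.2.2.1 (e ▸ hzM)
  have hzn : zpowers z ≤ normalizer (X : Set G) :=
    zpowers_le.mpr (centralizer_le_normalizer _ hzc)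
  have hW : ∀ q : ℕ, q.Prime → q ∣ Nat.card ↥(X ⊔ zpowers z) → q ∉ Cfsg.sigma H := fun q hq hd => by
    have hd' := hd.trans (BG13.card_sup_dvd hzn)
    rw [hX, Nat.card_zpowers] at hd'
    rcases hq.dvd_mul.mp hd' with hd' | hd'
    · exact (Nat.prime_dvd_prime_iff_eq hq hp.1).mp hd' ▸ h2.2.1
    · exact (Nat.prime_dvd_prime_iff_eq hq hzp).mp hd' ▸ hzH'
  obtain ⟨E, hE, hWE⟩ := h.s10.exists_compl_ge hH (sup_le hXH (zpowers_le.mpr hzH)) hW
  obtain ⟨S, hS⟩ := exists_sylowOf p E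
  obtain ⟨B, hBH, hB, hB2⟩ := exists_elemAb_sq h2.2.2.2
  obtain ⟨E', hE', hBE'⟩ := h.s10.exists_compl_ge hH hBH fun q hq hd => by
    rw [hB2] at hd
    exact Nat.prime_eq_prime_of_dvd_pow hq hp.1 hd ▸ h2.2.1
  obtain ⟨m, hm, e⟩ := Coprime.exists_conj_hallOf (h.s10.isSolvable_max hH)
    (compl_isPiHallOf (h.s10.sigmaCore_hall H hH).1 hE')
    (compl_isPiHallOf (h.s10.sigmaCore_hall H hH).1 hE)
  have hAE : cj m B ≤ E := (cj_mono m hBE').trans e.le
  set A := cj m B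
  have hA : Cfsg.IsElementaryAbelian p A := elemAb_cj hB m
  have hA2 : Nat.card A = p ^ 2 := (card_cj m B).trans hB2
  obtain ⟨⟨hEA, hall⟩, -, -⟩ := h.s10.compl_structure hH hE h2 ⟨hAE, hA, hA2⟩
  have hXA : X ≤ A := hall X (le_sup_left.trans hWE) hX
  have hzA : z ∈ normalizer (A : Set G) := hEA (hWE (mem_sup_right (mem_zpowers z)))
  have hXz : X ≤ A ⊓ centralizer ({z} : Set G) := le_inf hXA fun x hx =>
    mem_centralizer_singleton_iff.mpr (mem_centralizer_iff.mp hzc x hx)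
  have hnA : ¬ A ≤ centralizer ({z} : Set G) := fun hle =>
    not_pRankLE_one hA hA2 (hle.trans hCz) (OddOrder.kappa_pRankLE_one hp)
  have hcard : Nat.card ↥(A ⊓ centralizer ({z} : Set G)) = p := by
    obtain ⟨i, hi, hic⟩ := (Nat.dvd_prime_pow hp.1).mp
      (hA2 ▸ card_dvd_of_le (inf_le_left : A ⊓ centralizer ({z} : Set G) ≤ A))
    have h1 : p ≤ p ^ i := hic ▸ hX ▸ Nat.le_of_dvd Nat.card_pos (card_dvd_of_le hXz)
    have hi2 : i ≠ 2 := fun e => hnA (inf_eq_left.mp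
      (eq_of_le_of_card_ge inf_le_left (by rw [hic, e, hA2])))
    have hi0 : i ≠ 0 := fun e => by
      rw [e, pow_zero] at h1
      exact absurd h1 hp.1.one_lt.not_ge
    rw [hic, show i = 1 by omega, pow_one]
  have heq : A ⊓ centralizer ({z} : Set G) = X :=
    (eq_of_le_of_card_ge hXz (hcard.trans hX.symm).le).symm
  exact R.tau2_line H hH p h2 A (hAE.trans hE.1) hA hA2 z hzA hzp hzp' hcard (heq.symm ▸ hN)

end Cfsg.Agent.OddOrder.BG14
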