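import Cfsg.Agent.OddOrder.BG16.Decomposition
import Cfsg.Agent.OddOrder.BG14.KappaStructure

/-!
# The standard factorisation `M = K U M_σ`
-/

set_option autoImplicit false
set_option linter.style.haveILetI false
set_option linter.unusedSectionVars false

universe u

namespace Cfsg.Agent.OddOrder.BG14

open Subgroup

variable {G : Type u} [Group G] [Finite G] {M K U : Subgroup G}

theorem decomposition_normal (hd : Cfsg.IsSigmaDecomposition M K U) :
    M ≤ normalizer ((U ⊔ Cfsg.sigmaCore M : Subgroup G) : Set G) := by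
  intro m hm
  obtain ⟨u, hu, k, hk, s, hs, rfl⟩ := BG16.mem_M_cases hd hm
  refine mul_mem (mul_mem (le_normalizer (mem_sup_left hu)) ?_) (le_normalizer (mem_sup_right hs))
  refine H40.cj_eq_iff.mp ?_
  rw [H40.cj, Subgroup.map_sup]
  congr 1
  · exact H40.cj_eq_iff.mpr (hd.normal hk)
  · exact H40.cj_eq_iff.mpr (le_normalizer_sigmaCore M (hd.hall.1 hk))

theorem decomposition_relIndex (hd : Cfsg.IsSigmaDecomposition M K U) {p : ℕ} (hp : p.Prime)
    (hdvd : p ∣ (U ⊔ Cfsg.sigmaCore M).relIndex M) : p ∈ Cfsg.kappa M := by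
  have e := relIndex_mul_relIndex ⊥ (U ⊔ Cfsg.sigmaCore M) M bot_le
    (sup_le hd.compl.1 (sigmaCore_le M))
  rw [relIndex_bot_left, relIndex_bot_left, BG16.card_US hd, BG16.card_M hd,
    mul_comm (Nat.card K)] at e
  rw [Nat.eq_of_mul_eq_mul_left (Nat.mul_pos Nat.card_pos Nat.card_pos) e] at hdvd
  exact hd.hall.2.1 p hp hdvd

theorem decomposition_primes (S10 : BG11.Section10 G) (hM : IsCoatom M)
    (hd : Cfsg.IsSigmaDecomposition M K U) {p : ℕ} (hp : p.Prime) (hdvd : p ∣ Nat.card U) :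
    p ∉ Cfsg.kappa M ∧ p ∉ Cfsg.sigma M := by
  refine ⟨fun hκ => hd.hall.2.2 p hp hκ ?_, fun hσ => ?_⟩
  · rw [BG16.relIndex_K hd]
    exact hdvd.mul_left _
  · refine (S10.sigmaCore_hall M hM).1.2.2 p hp hσ ?_
    have e := relIndex_mul_relIndex ⊥ (Cfsg.sigmaCore M) M bot_le (sigmaCore_le M)
    rw [relIndex_bot_left, relIndex_bot_left, BG16.card_M hd, mul_left_comm] at e
    rw [Nat.eq_of_mul_eq_mul_left Nat.card_pos e]
    exact hdvd.mul_left _

theorem isComplIn_of_split (S10 : BG11.Section10 G) (hM : IsCoatom M) {E : Subgroup G}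
    (D : KappaSplit M K E U) (hK : IsCyclic K) : Cfsg.IsSigmaDecomposition M K U := by
  refine ⟨hK, D.kHall, ⟨D.uHall.1, sup_le D.kHall.1 (sigmaCore_le M), ?_, fun m hm => ?_⟩,
    D.le.trans D.uNormal⟩
  · have hcop : (Nat.card U).Coprime (Nat.card ↥(K ⊔ Cfsg.sigmaCore M)) := by
      rw [sup_comm K, Coprime.card_sup (D.kHall.1.trans (le_normalizer_sigmaCore M))
        (Coprime.inf_eq_bot (Nat.coprime_of_dvd fun p hp h1 h2 =>
          (D.kHall.2.1 p hp h2).2.2.1 (sigmaCore_isPiNumber M p hp h1)))]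
      exact Nat.coprime_of_dvd fun p hp h1 h2 => (hp.dvd_mul.mp h2).elim
        (fun h => (D.uHall.2.1 p hp h1).2.2 (sigmaCore_isPiNumber M p hp h))
        (fun h => (D.uHall.2.1 p hp h1).2.1 (D.kHall.2.1 p hp h))
    exact Coprime.inf_eq_bot hcop
  · obtain ⟨e, he, s, hs, rfl⟩ := D.compl.2.2.2 m hm
    rw [← D.split] at he
    obtain ⟨u, hu, k, hk, rfl⟩ := (Coprime.mem_sup_iff (D.le.trans D.uNormal)).mp he
    exact ⟨u, hu, k * s, mul_mem (mem_sup_left hk) (mem_sup_right hs), mul_assoc u k s⟩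

/-- The factorisation for `K = 1`. -/
theorem exists_decomposition_bot (S10 : BG11.Section10 G) (hM : IsCoatom M)
    (hK : Cfsg.IsPiHallOf (Cfsg.kappa M) (⊥ : Subgroup G) M) :
    ∃ U : Subgroup G, Cfsg.IsSigmaDecomposition M (⊥ : Subgroup G) U := by
  obtain ⟨E, hE⟩ := OddOrder.exists_compl (S10.sigmaCore_hall M hM).1
  exact ⟨E, inferInstance, hK, by rwa [bot_sup_eq], bot_le⟩

end Cfsg.Agent.OddOrder.BG14
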