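import Cfsg.Agent.OddOrder.BG14.SigmaCentralizer
import Cfsg.Agent.OddOrder.BG14.Decomposition
import Cfsg.Agent.OddOrder.BG16.Basic

/-!
# BG 14.4: the centralizer of an element of `M_σ`
-/

set_option autoImplicit false
set_option linter.style.haveILetI false
set_option linter.unusedSectionVars false
set_option linter.unusedVariables false

universe u

namespace Cfsg.Agent.OddOrder.BG14

open Subgroup H40 BG11

variable {G : Type u} [Group G] [Finite G]

/-- A maximal subgroup above the centralizer of a power `z` of prime order of `x`. -/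
structure Signalizer (M N : Subgroup G) (x z : G) : Prop where
  coatom : IsCoatom N
  nonconj : ∀ g : G, N ≠ cj g M
  le : centralizer ({z} : Set G) ≤ N
  centralizer_le_z : centralizer ({x} : Set G) ≤ centralizer ({z} : Set G)
  tau2 : orderOf z ∈ Cfsg.tau2 N
  compl : Cfsg.IsComplIn (M ⊓ N) (Cfsg.sigmaCore N) N
  mem : x ∈ M ⊓ N

theorem Signalizer.factor {M N : Subgroup G} {x z : G} (D : Signalizer M N x z) {c : G}
    (hc : c ∈ centralizer ({x} : Set G)) :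
    ∃ f ∈ M ⊓ centralizer ({x} : Set G), ∃ s ∈ Cfsg.sigmaCore N ⊓ centralizer ({x} : Set G),
      f ∈ N ∧ c = f * s := by
  obtain ⟨f, hf, s, hs, rfl⟩ := D.compl.2.2.2 c (D.le (D.centralizer_le_z hc))
  have h1 : f⁻¹ * x * f * x⁻¹ ∈ M ⊓ N :=
    mul_mem (mul_mem (mul_mem (inv_mem hf) D.mem) hf) (inv_mem D.mem)
  have h2 : s * x * s⁻¹ * x⁻¹ ∈ Cfsg.sigmaCore N := by
    rw [show s * x * s⁻¹ * x⁻¹ = s * (x * s⁻¹ * x⁻¹) by group]
    exact mul_mem hs ((mem_normalizer_iff.mp (le_normalizer_sigmaCore N D.mem.2) s⁻¹).mp (inv_mem hs))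
  have he : f⁻¹ * x * f * x⁻¹ = s * x * s⁻¹ * x⁻¹ := by
    have h3 : f * s * x = x * (f * s) := mem_centralizer_singleton_iff.mp hc
    calc f⁻¹ * x * f * x⁻¹ = f⁻¹ * (x * (f * s)) * s⁻¹ * x⁻¹ := by group
      _ = f⁻¹ * (f * s * x) * s⁻¹ * x⁻¹ := by rw [h3]
      _ = _ := by group
  have h4 : s * x * s⁻¹ * x⁻¹ = 1 := mem_bot.mp (D.compl.2.2.1.le ⟨he ▸ h1, h2⟩)
  have hsx : s ∈ centralizer ({x} : Set G) := mem_centralizer_singleton_iff.mpr
    (by rwa [mul_inv_eq_one, mul_inv_eq_iff_eq_mul] at h4)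
  refine ⟨f, ⟨hf.1, ?_⟩, s, ⟨hs, hsx⟩, hf.2, rfl⟩
  simpa using mul_mem hc (inv_mem hsx)

theorem Signalizer.eq_one_of_mem {M N : Subgroup G} {x z : G} (D : Signalizer M N x z) {s : G}
    (hs : s ∈ Cfsg.sigmaCore N) (hM : s ∈ M) : s = 1 :=
  mem_bot.mp (D.compl.2.2.1.le ⟨⟨hM, sigmaCore_le N hs⟩, hs⟩)

variable (h : BG13.Hyp G) (R : BG13.Results G) {M : Subgroup G}
include h R

theorem exists_signalizer (hM : IsCoatom M) {x : G} (hx : x ∈ Cfsg.sigmaCore M) {i : ℕ}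
    (hp : (orderOf (x ^ i)).Prime) (hnot : ¬ centralizer ({x ^ i} : Set G) ≤ M) :
    ∃ N : Subgroup G, Signalizer M N x (x ^ i) := by
  haveI := Fact.mk hp
  have hz : x ^ i ∈ Cfsg.sigmaCore M := pow_mem hx i
  have hzσ : orderOf (x ^ i) ∈ Cfsg.sigma M :=
    sigmaCore_isPiNumber M _ hp (orderOf_dvd_natCard _ hz)
  have hX0 : zpowers (x ^ i) ≠ ⊥ :=
    BG13.ne_bot_of_prime_card (by rw [Nat.card_zpowers]; exact hp)
  obtain ⟨N, hN, hNX⟩ := exists_coatom_ge (normalizer_ne_top' h.s10.minSimple hX0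
    (ne_top_of_le_coatom hM (zpowers_le.mpr (sigmaCore_le M hz))))
  have hle : centralizer ({x ^ i} : Set G) ≤ N := by
    rw [← BG13.centralizer_zpowers]
    exact (centralizer_le_normalizer _).trans hNX
  obtain ⟨hnc, hτ, hcompl⟩ := R.embedding_tau2 M hM _ hzσ _
    (IsPGroup.of_card (n := 1) (by rw [Nat.card_zpowers, pow_one])) hX0
    (zpowers_le.mpr (sigmaCore_le M hz)) N hN (fun e => hnot (e ▸ hle)) hNX
  exact ⟨N, hN, hnc, hle, centralizer_singleton_le_pow x i, hτ, hcompl, sigmaCore_le M hx,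
    hle (centralizer_singleton_le_pow x i (mem_centralizer_singleton_iff.mpr rfl))⟩

/-- The `τ₂(N)`-part of BG 14.4. -/
theorem signalizer_unique (hM : IsCoatom M) {x : G} (hx : x ∈ Cfsg.sigmaCore M) (hx1 : x ≠ 1)
    {N : Subgroup G} {z : G} (hzx : z ∈ zpowers x) (D : Signalizer M N x z)
    (hnot : ¬ centralizer ({x} : Set G) ≤ M) :
    (∀ p : ℕ, p.Prime → p ∣ orderOf x → p ∈ Cfsg.tau2 N) ∧
      (∀ L : Subgroup G, IsCoatom L → centralizer ({x} : Set G) ≤ L → L = N) ∧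
      ∃ s ∈ Cfsg.sigmaCore N, s ≠ 1 ∧ x * s = s * x := by
  obtain ⟨c, hc, hcM⟩ := SetLike.not_le_iff_exists.mp hnot
  obtain ⟨f, hf, s, hs, -, rfl⟩ := D.factor hc
  have hs1 : s ≠ 1 := fun e => hcM (by rw [e, mul_one]; exact hf.1)
  have hsx : x * s = s * x := (mem_centralizer_singleton_iff.mp hs.2).symm
  have hd : orderOf z ∣ orderOf x := orderOf_dvd_of_mem_zpowers hzx
  rcases sigma_element_cases h R D.coatom hs.1 hs1
    ⟨D.mem.2, mem_centralizer_singleton_iff.mpr hsx⟩ hx1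
    (fun p hp hpd => not_sigma_of_nonconj h R hM D.coatom D.nonconj
      (sigmaCore_isPiNumber M p hp (hpd.trans (orderOf_dvd_natCard _ hx)))) with
    ⟨hκ, -⟩ | ⟨hτ, -, -, huniq⟩
  · exact absurd D.tau2 (OddOrder.kappa_disjoint_tau2 (hκ _ D.tau2.1 hd))
  · exact ⟨hτ, huniq, s, hs.1, hs1, hsx⟩

/-- BG 14.4 (statement shape of S1374). -/
theorem centralizer_complement (hM : IsCoatom M) {x : G} (hx : x ∈ Cfsg.sigmaCore M) (hx1 : x ≠ 1) :
    (Nat.card ↥(M ⊓ centralizer ({x} : Set G))).Coprime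
        ((M ⊓ centralizer ({x} : Set G)).relIndex (centralizer ({x} : Set G))) ∧
      ∃ S : Subgroup G, centralizer ({x} : Set G) ≤ normalizer (S : Set G) ∧
        Cfsg.IsComplIn (M ⊓ centralizer ({x} : Set G)) S (centralizer ({x} : Set G)) ∧
        ∀ g : G, x ∈ cj g M → ∃! r : G, r ∈ S ∧ cj r M = cj g M := by
  obtain ⟨q, hq, hqd⟩ := Nat.exists_prime_and_dvd (fun e => hx1 (orderOf_eq_one_iff.mp e))
  obtain ⟨i, hi⟩ := exists_pow_prime hqd
  haveI := Fact.mk hq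
  have hz : x ^ i ∈ Cfsg.sigmaCore M := pow_mem hx i
  have hzσ : q ∈ Cfsg.sigma M := hi ▸ sigmaCore_isPiNumber M _ (hi.symm ▸ hq) (orderOf_dvd_natCard _ hz)
  have htrans : ∀ g : G, x ∈ cj g M →
      ∃ d ∈ centralizer ({x ^ i} : Set G), cj d M = cj g M := fun g hg => by
    have hz' : x ^ i ∈ cj g M := pow_mem hg i
    obtain ⟨m, hm, c, hc, e⟩ := (h.s10.sigma_trans M hM q hzσ (zpowers (x ^ i))
      (IsPGroup.of_card (n := 1) (by rw [Nat.card_zpowers, hi, pow_one]))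
      (fun e => hq.ne_one (hi ▸ orderOf_eq_one_iff.mpr (zpowers_eq_bot.mp e)))
      (zpowers_le.mpr (sigmaCore_le M hz))).1 g⁻¹
        ((cj_mono _ (zpowers_le.mpr hz')).trans (cj_inv_cj g M).le)
    rw [BG13.centralizer_zpowers] at hc
    refine ⟨c⁻¹, inv_mem hc, ?_⟩
    rw [show g = c⁻¹ * m⁻¹ by rw [← mul_inv_rev, ← e, inv_inv], cj_mul, cj_eq_of_mem (M.inv_mem hm)]
  by_cases hle : centralizer ({x ^ i} : Set G) ≤ M
  · have hCM : M ⊓ centralizer ({x} : Set G) = centralizer ({x} : Set G) :=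
      inf_eq_right.mpr ((centralizer_singleton_le_pow x i).trans hle)
    rw [hCM, relIndex_self]
    refine ⟨Nat.coprime_one_right _, ⊥, fun c _ => cj_eq_iff.mp (Subgroup.map_bot _),
      ⟨le_rfl, bot_le, inf_bot_eq _, fun c hc => ⟨c, hc, 1, one_mem _, (mul_one c).symm⟩⟩,
      fun g hg => ?_⟩
    obtain ⟨d, hd, e⟩ := htrans g hg
    exact ⟨1, ⟨one_mem _, by rw [cj_one, ← e, cj_eq_of_mem (hle hd)]⟩, fun r hr => mem_bot.mp hr.1⟩
  obtain ⟨N, D⟩ := exists_signalizer h R hM hx (hi.symm ▸ hq) hle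
  have hCN : centralizer ({x} : Set G) ≤ N := D.centralizer_le_z.trans D.le
  have hC : Cfsg.IsComplIn (M ⊓ centralizer ({x} : Set G))
      (Cfsg.sigmaCore N ⊓ centralizer ({x} : Set G)) (centralizer ({x} : Set G)) := by
    refine ⟨inf_le_right, inf_le_right, eq_bot_iff.mpr fun s hs =>
      mem_bot.mpr (D.eq_one_of_mem hs.2.1 hs.1.1), fun c hc => ?_⟩
    obtain ⟨f, hf, s, hs, -, e⟩ := D.factor hc
    exact ⟨f, hf, s, hs, e⟩
  refine ⟨?_, _, ?_, hC, fun g hg => ?_⟩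
  · rw [(H41.IsComplIn.relIndex_eq hC).2]
    refine Nat.coprime_of_dvd fun p hp h1 h2 => not_mem_sigma_of_dvd_compl
      (h.s10.sigmaCore_hall N D.coatom).1 D.compl hp
      (h1.trans (card_dvd_of_le (le_inf inf_le_left (inf_le_right.trans hCN))))
      (sigmaCore_isPiNumber N p hp (h2.trans (card_dvd_of_le inf_le_left)))
  · intro c hc
    refine cj_eq_iff.mp ?_
    rw [cj_inf, cj_eq_iff.mpr (le_normalizer_sigmaCore N (hCN hc)),
      cj_eq_of_mem hc]
  obtain ⟨d, hd, e⟩ := htrans g hg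
  obtain ⟨a, ha, b, hb, e'⟩ := D.compl.2.2.2 d⁻¹ (inv_mem (D.le hd))
  set s := b⁻¹ with hs_def
  have hd' : d = s * a⁻¹ := by rw [← inv_inv d, e', mul_inv_rev]
  have hsM : cj s M = cj g M := by rw [← e, hd', cj_mul, cj_eq_of_mem (M.inv_mem ha.1)]
  have hs : s ∈ Cfsg.sigmaCore N := inv_mem hb
  have hsx : s ∈ centralizer ({x} : Set G) := by
    have h1 : x⁻¹ * (s⁻¹ * x * s) ∈ M ⊓ N := by
      refine mul_mem (inv_mem D.mem) ⟨?_, N.mul_mem (N.mul_mem (N.inv_mem (sigmaCore_le N hs)) D.mem.2)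
        (sigmaCore_le N hs)⟩
      exact mem_cj.mp (hsM.symm ▸ hg)
    have h2 : x⁻¹ * (s⁻¹ * x * s) ∈ Cfsg.sigmaCore N := by
      rw [show x⁻¹ * (s⁻¹ * x * s) = (x⁻¹ * s⁻¹ * x⁻¹⁻¹) * s by group]
      exact mul_mem ((mem_normalizer_iff.mp (le_normalizer_sigmaCore N (inv_mem D.mem.2)) s⁻¹).mp
        (inv_mem hs)) hs
    have h3 : x⁻¹ * (s⁻¹ * x * s) = 1 := mem_bot.mp (D.compl.2.2.1.le ⟨h1, h2⟩)
    refine mem_centralizer_singleton_iff.mpr ?_
    calc s * x = s * (x * (x⁻¹ * (s⁻¹ * x * s))) := by rw [h3, mul_one]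
      _ = x * s := by group
  refine ⟨s, ⟨⟨hs, hsx⟩, hsM⟩, fun r hr => ?_⟩
  have h4 : s⁻¹ * r ∈ M := by
    rw [← OddOrder.map_conj_max_eq_iff h.s10.minSimple hM]
    show cj (s⁻¹ * r) M = M
    rw [cj_mul, hr.2, ← hsM, cj_inv_cj]
  exact (inv_mul_eq_one.mp (D.eq_one_of_mem (mul_mem (inv_mem hs) hr.1.1) h4)).symm

/-- BG 14.4 (statement shape of S1375). -/
theorem centralizer_not_le (hM : IsCoatom M) {x : G} (hx : x ∈ Cfsg.sigmaCore M) (hx1 : x ≠ 1)
    (hxM : ¬ centralizer ({x} : Set G) ≤ M) :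
    ∃ N : Subgroup G, (IsCoatom N ∧ centralizer ({x} : Set G) ≤ N) ∧
      (∀ L : Subgroup G, IsCoatom L → centralizer ({x} : Set G) ≤ L → L = N) ∧
      Cfsg.sigmaCore N = Cfsg.fittingHallOf N ∧
      centralizer ({x} : Set G) ≤
        normalizer ((Cfsg.sigmaCore N ⊓ centralizer ({x} : Set G) : Subgroup G) : Set G) ∧
      Cfsg.IsComplIn (M ⊓ centralizer ({x} : Set G))
        (Cfsg.sigmaCore N ⊓ centralizer ({x} : Set G)) (centralizer ({x} : Set G)) ∧
      Cfsg.IsComplIn (M ⊓ N) (Cfsg.sigmaCore N) N ∧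
      ∀ K' U' : Subgroup G, Cfsg.IsSigmaDecomposition N K' U' →
        U' ≠ ⊥ ∧ x ∈ Cfsg.sigmaA N U' ∧ x ∉ Cfsg.sigmaCore N := by
  obtain ⟨q, hq, hqd⟩ := Nat.exists_prime_and_dvd (fun e => hx1 (orderOf_eq_one_iff.mp e))
  obtain ⟨i, hi⟩ := exists_pow_prime hqd
  haveI := Fact.mk hq
  obtain ⟨N, D⟩ := exists_signalizer h R hM hx (hi.symm ▸ hq)
    (fun hle => hxM ((centralizer_singleton_le_pow x i).trans hle))
  obtain ⟨hτ, huniq, s, hs, hs1, hsx⟩ :=
    signalizer_unique h R hM hx hx1 (pow_mem (mem_zpowers x) i) D hxM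
  have hCN : centralizer ({x} : Set G) ≤ N := D.centralizer_le_z.trans D.le
  refine ⟨N, ⟨D.coatom, hCN⟩, huniq, ?_, fun c hc => cj_eq_iff.mp ?_, ?_, D.compl,
    fun K' U' hd => ?_⟩
  · -- `N_σ` is nilpotent, and every normal nilpotent Hall subgroup involves only `σ`-primes
    have hqτ : q ∈ Cfsg.tau2 N := hτ q hq hqd
    obtain ⟨A, hA, hAe, hA2⟩ := exists_elemAb_sq hqτ.2.2.2
    have hnil := (h.s10.tauTwo_structure D.coatom hqτ ⟨hA, hAe, hA2⟩).1
    refine le_antisymm ?_ (h.s10.le_sigmaCore D.coatom (map_subtype_le _) fun p hp hd => ?_)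
    · exact BG16.le_fittingHallOf (sigmaCore_le N) (le_normalizer_sigmaCore N) hnil
        (OddOrder.coprime_of_hallOf (h.s10.sigmaCore_hall N D.coatom).1)
    · haveI := Fact.mk hp
      obtain ⟨hnorm, hFnil, hFco⟩ := H41.fittingHall_spec ↥N
      obtain ⟨P, hP⟩ := exists_sylowOf p (Cfsg.fittingHallOf N)
      have hn : N ≤ normalizer (Cfsg.fittingHallOf N : Set G) :=
        Components.le_normalizer_map_subtype _
      have hnilF : Group.IsNilpotent (Cfsg.fittingHallOf N) :=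
        Group.nilpotent_of_mulEquiv
          ((Cfsg.fittingHall ↥N).equivMapOfInjective N.subtype N.subtype_injective)
      obtain ⟨P', hP'⟩ := exists_sylow_eq hP
      have hPN : N ≤ normalizer (P : Set G) :=
        hn.trans (hP' ▸ BG16.normalizer_le_normalizer_sylow hnilF P')
      have hP0 : P ≠ ⊥ := sylowOf_ne_bot hP hd
      have hPle : P ≤ N := hP.1.trans (map_subtype_le _)
      have hrel : ¬ p ∣ (Cfsg.fittingHallOf N).relIndex N := fun hd' =>
        hp.ne_one (Nat.dvd_one.mp ((BG16.fittingHallOf_coprime N).gcd_eq_one ▸ Nat.dvd_gcd hd hd'))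
      refine mem_sigma_of_normalizer_le (hd.trans (card_dvd_of_le (map_subtype_le _)))
        ⟨hPle, hP.2.1, ?_⟩
        (OddOrder.normalizer_eq_max h.s10.minSimple D.coatom hPle hP0 hPN).le
      have hFN : Cfsg.fittingHallOf N ≤ N := map_subtype_le _
      have hne : (Cfsg.fittingHallOf N).relIndex N ≠ 0 := fun e =>
        hrel (e.symm ▸ dvd_zero p : p ∣ (Cfsg.fittingHallOf N).relIndex N)
      rw [hP.2.2, ← BG13.card_mul_relIndex hFN, Nat.factorization_mul Nat.card_pos.ne' hne]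
      simp [Nat.factorization_eq_zero_of_not_dvd hrel]
  · rw [cj_inf, cj_eq_iff.mpr (le_normalizer_sigmaCore N (hCN hc)), cj_eq_of_mem hc]
  · refine ⟨inf_le_right, inf_le_right, eq_bot_iff.mpr fun t ht =>
      mem_bot.mpr (D.eq_one_of_mem ht.2.1 ht.1.1), fun c hc => ?_⟩
    obtain ⟨f, hf, t, ht, -, e⟩ := D.factor hc
    exact ⟨f, hf, t, ht, e⟩
  · have hxN : x ∈ N := D.mem.2
    have hxs : x ∉ Cfsg.sigmaCore N := fun hxs =>
      (hτ q hq hqd).2.1 (sigmaCore_isPiNumber N q hq (hqd.trans (orderOf_dvd_natCard _ hxs)))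
    have hUS : N ≤ normalizer ((U' ⊔ Cfsg.sigmaCore N : Subgroup G) : Set G) :=
      decomposition_normal hd
    have hmem : x ∈ U' ⊔ Cfsg.sigmaCore N := by
      haveI : ((U' ⊔ Cfsg.sigmaCore N).subgroupOf N).Normal :=
        normal_subgroupOf_of_le_normalizer hUS
      have h1 : x ^ (U' ⊔ Cfsg.sigmaCore N).relIndex N ∈ U' ⊔ Cfsg.sigmaCore N :=
        ((U' ⊔ Cfsg.sigmaCore N).subgroupOf N).pow_index_mem ⟨x, hxN⟩
      have h2 : (orderOf x).Coprime ((U' ⊔ Cfsg.sigmaCore N).relIndex N) :=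
        Nat.coprime_of_dvd fun p hp hpx hpi => OddOrder.kappa_disjoint_tau2
          (decomposition_relIndex hd hp hpi) (hτ p hp hpx)
      obtain ⟨k, hk⟩ := exists_pow_eq_self_of_coprime h2.symm
      rw [← hk]
      exact pow_mem h1 k
    refine ⟨fun e => hxs (by rwa [e, bot_sup_eq] at hmem),
      ⟨⟨hxN, s, hs, hs1, hsx⟩, hmem⟩, hxs⟩

end Cfsg.Agent.OddOrder.BG14
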