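import Cfsg.Agent.OddOrder.BG14.Facts
import Cfsg.Agent.OddOrder.BG14.Transitive

/-!
# The inputs of 14.7 hold in every minimal simple group of odd order

`inputs`, `tildeFacts` and `embeddingKappa` are in `BG14.Facts`; this module re-exports them.
-/
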