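import Cfsg.Agent.OddOrder.BG14.PairProps

/-!
# S1351, S1366-S1371 and S1434 from the inputs of 14.7
-/

set_option autoImplicit false
set_option linter.style.haveILetI false

universe u

namespace Cfsg.Agent.OddOrder.BG14

open Subgroup
open Cfsg.Agent.H40 (cj mem_cj cj_mul cj_one conj_mem_cj cj_eq_iff card_cj)

variable {G : Type u} [Group G] [Finite G]

namespace Pair

variable {M K M' : Subgroup G} (P : Pair M K M') (F : Inputs G)
include P F

theorem isTI_zHat : Cfsg.IsTISubset (zHat M K) ∧ normalizer (zHat M K) = K ⊔ kStar M K := by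
  have hle : K ⊔ kStar M K ≤ normalizer (zHat M K) := by
    intro n hn
    refine mem_set_normalizer_iff.mpr fun z => ⟨fun h => P.conj_mem_zHat F hn h, fun h => ?_⟩
    have h' := P.conj_mem_zHat F (inv_mem hn) h
    simpa [mul_assoc] using h'
  have heq : normalizer (zHat M K) = K ⊔ kStar M K := by
    refine le_antisymm (fun g hg => ?_) hle
    obtain ⟨z, hz⟩ := P.zHat_nonempty F
    exact P.mem_of_conj_mem_zHat F hz ((mem_set_normalizer_iff.mp hg z).mp hz).1
  refine ⟨fun g hg x hx hgx => absurd ?_ hg, heq⟩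
  rw [heq]
  exact P.mem_of_conj_mem_zHat F hx hgx.1

end Pair

/-- The data of the statements of 14.7 form a pair. -/
theorem pair_of_star (F : Inputs G) {M K U M' : Subgroup G} (hM : IsCoatom M)
    (hKU : Cfsg.IsSigmaDecomposition M K U) (hK1 : K ≠ ⊥) (hM' : IsCoatom M')
    (hKst : K = Cfsg.sigmaCore M' ⊓ centralizer ((kStar M K : Subgroup G) : Set G)) :
    Pair M K M' ∧ (¬ AllKappa M ∨ ¬ AllKappa M') := by
  obtain ⟨L, P, -, -, -, hnot, -⟩ := (kdata_of_decomp hM hKU hK1).exists_pair F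
  obtain rfl := Pair.eq_of_star F P hM' hKst
  exact ⟨P, hnot⟩

theorem kappa_hall_cyclic (F : Inputs G) {M : Subgroup G} (hM : IsCoatom M) :
    (∃ K : Subgroup G, Cfsg.IsPiHallOf (Cfsg.kappa M) K M) ∧
      ∀ K : Subgroup G, Cfsg.IsPiHallOf (Cfsg.kappa M) K M → IsCyclic K := by
  obtain ⟨K, hK, -⟩ := exists_hallOf_ge (π := Cfsg.kappa M) (isSolvable_max F.minSimple hM)
    (bot_le : (⊥ : Subgroup G) ≤ M) (fun q hq hd => absurd (card_bot (G := G) ▸ hd) hq.not_dvd_one)
  refine ⟨⟨K, hK⟩, fun K hK => ?_⟩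
  rcases eq_or_ne K ⊥ with rfl | hne
  · infer_instance
  · exact KData.isCyclic ⟨hM, hK, hne⟩ F

theorem partner_unique (F : Inputs G) {M K U : Subgroup G} (hM : IsCoatom M)
    (hKU : Cfsg.IsSigmaDecomposition M K U) (hK1 : K ≠ ⊥) :
    ∃! M' : Subgroup G, IsCoatom M' ∧
      K = Cfsg.sigmaCore M' ⊓ centralizer ((kStar M K : Subgroup G) : Set G) ∧
      Cfsg.IsPiHallOf (Cfsg.kappa M') (kStar M K) M' := by
  obtain ⟨L, P, -⟩ := (kdata_of_decomp hM hKU hK1).exists_pair F
  exact ⟨L, ⟨P.data'.max, P.star.symm, P.data'.hall⟩,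
    fun M' h => Pair.eq_of_star F P h.1 h.2.1⟩

theorem two_classes (F : Inputs G) {M K U M' : Subgroup G} (hM : IsCoatom M)
    (hKU : Cfsg.IsSigmaDecomposition M K U) (hK1 : K ≠ ⊥) (hM' : IsCoatom M')
    (hKst : K = Cfsg.sigmaCore M' ⊓ centralizer ((kStar M K : Subgroup G) : Set G)) :
    (U ≠ ⊥ ∨ ∀ Ustar : Subgroup G,
      Cfsg.IsSigmaDecomposition M' (kStar M K) Ustar → Ustar ≠ ⊥) ∧
    ∀ H : Subgroup G, IsCoatom H → (Cfsg.kappa H).Nonempty →
      ∃ g : G, H = M.map (MulAut.conj g).toMonoidHom ∨ H = M'.map (MulAut.conj g).toMonoidHom := by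
  obtain ⟨P, hnot⟩ := pair_of_star F hM hKU hK1 hM' hKst
  refine ⟨?_, fun H hH hne => P.exists_conj_of_kappa F hH hne⟩
  rcases hnot with h | h
  · exact Or.inl fun hU => h (P.data.allKappa_of_bot hKU hU)
  · exact Or.inr fun Us hUs hU => h (P.data'.allKappa_of_bot hUs hU)

theorem zHat_conjugates (F : Inputs G) {M K U : Subgroup G} (hM : IsCoatom M)
    (hKU : Cfsg.IsSigmaDecomposition M K U) (hK1 : K ≠ ⊥) :
    {a : G | ∃ m ∈ M, ∃ z ∈ zHat M K, a = m * z * m⁻¹} =
        Cfsg.sigmaA0 M K \ Cfsg.sigmaA M U ∧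
      Cfsg.IsTISubset (Cfsg.sigmaA0 M K \ Cfsg.sigmaA M U) := by
  obtain ⟨M', P, -⟩ := (kdata_of_decomp hM hKU hK1).exists_pair F
  set N := U ⊔ Cfsg.sigmaCore M with hNdef
  have hNM : N ≤ M := sup_le (decomp_le hKU) (sigmaCore_le M)
  have hnN := le_normalizer_UMσ hKU
  have hNcard : ∀ q : ℕ, q.Prime → q ∣ Nat.card N → q ∉ Cfsg.kappa M := by
    intro q hq hd hκ
    rcases hq.dvd_mul.mp (hd.trans (card_UMσ_dvd hKU)) with h | h
    · exact hκ.2.2.1 (sigmaCore_isPiNumber M q hq h)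
    · exact (P.data.not_dvd_compl F hKU hq h).2 hκ
  have hZM : ∀ z ∈ zHat M K, z ∈ M := fun z hz => P.data.sup_le_max hz.1
  have heq : {a : G | ∃ m ∈ M, ∃ z ∈ zHat M K, a = m * z * m⁻¹} =
      Cfsg.sigmaA0 M K \ Cfsg.sigmaA M U := by
    ext a
    constructor
    · rintro ⟨m, hm, z, hz, rfl⟩
      obtain ⟨k, hk, hk1, y, hy, hy1, rfl⟩ := P.mem_zHat_iff.mp hz
      have hc : k * y = y * k := mem_centralizer_of_mem_kStar hk hy
      refine ⟨⟨⟨mul_mem (mul_mem hm (hZM _ hz)) (inv_mem hm), m * y * m⁻¹,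
        Coprime.conj_mem (le_normalizer_sigmaCore M hm) hy.1,
        fun e => hy1 (conj_eq_one_iff.mp e), ?_⟩, ?_⟩, ?_⟩
      · calc m * (k * y) * m⁻¹ * (m * y * m⁻¹) = m * ((k * y) * y) * m⁻¹ := by group
          _ = m * (y * (k * y)) * m⁻¹ := by rw [← mul_assoc y k y, ← hc]
          _ = _ := by group
      · rintro ⟨k', hk', -, m', -, he⟩
        obtain ⟨-, j, hj⟩ := P.exists_pow hk hy
        obtain ⟨p, hp, hd⟩ := Nat.exists_prime_and_dvd (fun e => hy1 (orderOf_eq_one_iff.mp e))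
        refine P.data.not_sigma hp ?_ (sigma_of_mem hy.1 hp hd)
        refine (hd.trans ?_).trans (orderOf_dvd_natCard _ hk')
        have e1 : orderOf (m * (k * y) * m⁻¹) = orderOf (k * y) :=
          orderOf_injective (MulAut.conj m).toMonoidHom (MulAut.conj m).injective (k * y)
        have e2 : orderOf (m' * k' * m'⁻¹) = orderOf k' :=
          orderOf_injective (MulAut.conj m').toMonoidHom (MulAut.conj m').injective k'
        rw [← e2, ← he, e1]
        exact (congrArg orderOf hj) ▸ orderOf_pow_dvd (x := k * y) j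
      · rintro ⟨-, hN⟩
        have h1 : k * y ∈ N := by
          have := Coprime.conj_mem (hnN (inv_mem hm)) (hN : m * (k * y) * m⁻¹ ∈ N)
          simpa [mul_assoc] using this
        have h2 : k ∈ K ⊓ N := ⟨hk, by
          simpa using mul_mem h1 (inv_mem (mem_sup_right (mem_inf.mp hy).1 : y ∈ N))⟩
        rw [P.data.inf_UMσ F hKU, mem_bot] at h2
        exact hk1 h2
    · rintro ⟨⟨⟨haM, hex⟩, hnK⟩, hnA⟩
      have haN : a ∉ N := fun h => hnA ⟨⟨haM, hex⟩, h⟩
      -- some prime of `a` lies in `κ(M)`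
      obtain ⟨p, hp, hd, hpκ⟩ : ∃ p : ℕ, p.Prime ∧ p ∣ orderOf a ∧ p ∈ Cfsg.kappa M := by
        by_contra hno
        push Not at hno
        refine haN ?_
        have hrel : N.relIndex M ∣ Nat.card K := by
          haveI : (N.subgroupOf M).Normal := normal_subgroupOf_of_le_normalizer hnN
          have hsup : M ≤ N ⊔ K := fun m hm => by
            obtain ⟨u, hu, b, hb, rfl⟩ := hKU.compl.2.2.2 m hm
            exact mul_mem (mem_sup_left (mem_sup_left hu))
              ((sup_le le_sup_right (le_sup_right.trans le_sup_left) :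
                K ⊔ Cfsg.sigmaCore M ≤ N ⊔ K) hb)
          have htop : N.subgroupOf M ⊔ K.subgroupOf M = ⊤ := by
            rw [← subgroupOf_sup hNM P.data.le, subgroupOf_eq_top]
            exact hsup
          rw [relIndex, ← relIndex_top_right, ← htop, relIndex_sup_left]
          exact (relIndex_dvd_card _ _).trans
            (dvd_of_eq (Nat.card_congr (subgroupOfEquivOfLe P.data.le).toEquiv))
        haveI : (N.subgroupOf M).Normal := normal_subgroupOf_of_le_normalizer hnN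
        have h1 : a ^ N.relIndex M ∈ N := pow_index_mem (N.subgroupOf M) ⟨a, haM⟩
        have hc : (orderOf a).Coprime (N.relIndex M) :=
          Nat.coprime_of_dvd fun q hq h2 h3 => hno q hq h2 (P.data.prime_mem hq (h3.trans hrel))
        obtain ⟨i, hi⟩ := exists_pow_eq_self_of_coprime hc.symm
        rw [← hi]
        exact pow_mem h1 i
      obtain ⟨i, hi⟩ := exists_pow_orderOf_eq hp hd
      obtain ⟨H, hH, haH⟩ := exists_hallOf_ge (π := Cfsg.kappa M)
        (isSolvable_max F.minSimple hM) (zpowers_le.mpr (pow_mem haM i) : zpowers (a ^ i) ≤ M)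
        (fun q hq hq' => by
          rw [Nat.card_zpowers, hi, Nat.prime_dvd_prime_iff_eq hq hp] at hq'
          exact hq' ▸ hpκ)
      obtain ⟨m, hm, he⟩ := Coprime.exists_conj_hallOf (isSolvable_max F.minSimple hM) P.data.hall hH
      have hb : m⁻¹ * (a ^ i) * m ∈ K := by
        have h1 : a ^ i ∈ cj m K := he.ge (haH (mem_zpowers _))
        exact mem_cj.mp h1
      set b := m⁻¹ * (a ^ i) * m with hbdef
      have hb1 : b ≠ 1 := by
        intro e
        refine hp.ne_one ?_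
        rw [← hi, orderOf_eq_one_iff]
        calc a ^ i = m * b * m⁻¹ := by rw [hbdef]; group
          _ = 1 := by rw [e]; group
      have hz : m⁻¹ * a * m ∈ K ⊔ kStar M K := by
        refine P.data.inf_centralizer_le F hb hb1 (mem_inf.mpr ⟨mul_mem (mul_mem (inv_mem hm) haM) hm,
          mem_centralizer_singleton_iff.mpr ?_⟩)
        calc m⁻¹ * a * m * b = m⁻¹ * (a * a ^ i) * m := by rw [hbdef]; group
          _ = m⁻¹ * (a ^ i * a) * m := by rw [(Commute.self_pow a i).eq]
          _ = _ := by rw [hbdef]; group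
      refine ⟨m, hm, m⁻¹ * a * m, ⟨hz, ?_⟩, by group⟩
      rintro (h | h)
      · rcases eq_or_ne a 1 with rfl | ha1
        · exact haN (one_mem _)
        · refine hnK ⟨_, h, fun e => ha1 ?_, m, hm, by group⟩
          calc a = m * (m⁻¹ * a * m) * m⁻¹ := by group
            _ = 1 := by rw [e]; group
      · refine haN ?_
        have h2 := Coprime.conj_mem (hnN hm) (mem_sup_right (mem_inf.mp h).1 : m⁻¹ * a * m ∈ N)
        simpa [mul_assoc] using h2
  refine ⟨heq, ?_⟩
  rw [← heq]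
  intro g hg x hx hgx
  refine absurd ?_ hg
  obtain ⟨m, hm, z, hz, rfl⟩ := hx
  obtain ⟨m', hm', z', hz', he⟩ := hgx
  have hgM : g ∈ M := by
    have h1 : m'⁻¹ * g * m ∈ K ⊔ kStar M K := by
      refine P.mem_of_conj_mem_zHat F hz ?_
      have : m'⁻¹ * g * m * z * (m'⁻¹ * g * m)⁻¹ = z' := by
        calc m'⁻¹ * g * m * z * (m'⁻¹ * g * m)⁻¹ = m'⁻¹ * (g * (m * z * m⁻¹) * g⁻¹) * m' := by group
          _ = z' := by rw [he]; group
      rw [this]
      exact hz'.1
    have := mul_mem (mul_mem hm' (P.data.sup_le_max h1)) (inv_mem hm)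
    simpa [mul_assoc] using this
  refine mem_set_normalizer_iff.mpr fun a => ⟨?_, ?_⟩
  · rintro ⟨n, hn, w, hw, rfl⟩
    exact ⟨g * n, mul_mem hgM hn, w, hw, by group⟩
  · rintro ⟨n, hn, w, hw, he'⟩
    refine ⟨g⁻¹ * n, mul_mem (inv_mem hgM) hn, w, hw, ?_⟩
    calc a = g⁻¹ * (g * a * g⁻¹) * g := by group
      _ = _ := by rw [he']; group

end Cfsg.Agent.OddOrder.BG14
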