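import Cfsg.Agent.OddOrder.BG14.PairProps
import Cfsg.Agent.OddOrder.BG14.Count
import Cfsg.Agent.OddOrder.BG15.Nilp

/-!
# BG 14.8: the tilde sets and the conjugates of `Ẑ` cover the group
-/

set_option autoImplicit false
set_option linter.style.haveILetI false
set_option linter.unusedSectionVars false

universe u

namespace Cfsg.Agent.OddOrder.BG14

open Subgroup
open Cfsg.Agent.H40 (cj mem_cj cj_mul cj_one conj_mem_cj cj_eq_iff card_cj)

variable {G : Type u} [Group G] [Finite G]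

/-- The tilde set of `M`. -/
noncomputable abbrev tildeSigma (M : Subgroup G) : Set G :=
  Cfsg.tildeOf M ((Cfsg.sigmaCore M : Set G) \ {1})

theorem conj_mem_tilde {M : Subgroup G} {g : G} (u : G) (h : g ∈ tildeSigma M) :
    u * g * u⁻¹ ∈ tildeSigma M := by
  obtain ⟨a, ha, r, hr, y, rfl⟩ := h
  exact ⟨a, ha, r, hr, u * y, by group⟩

theorem mem_tilde_of_conj {M : Subgroup G} {g : G} (u : G) (h : u * g * u⁻¹ ∈ tildeSigma M) :
    g ∈ tildeSigma M := by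
  have := conj_mem_tilde u⁻¹ h
  simpa [mul_assoc] using this

theorem tilde_of_map (F : TildeFacts G) {M : Subgroup G} (hM : IsCoatom M) (w : G) {g : G}
    (h : g ∈ tildeSigma (M.map (MulAut.conj w).toMonoidHom)) : g ∈ tildeSigma M := by
  obtain ⟨y, x, r, hx, hx1, hr, rfl⟩ := (mem_tilde_iff F (isCoatom_map _ hM)).1 h
  refine (mem_tilde_iff F hM).2 ⟨y * w, x, r, ?_, hx1, ?_, rfl⟩
  · rwa [show M.map (MulAut.conj (y * w)).toMonoidHom = cj y (cj w M) from cj_mul y w M]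
  · rwa [show M.map (MulAut.conj (y * w)).toMonoidHom = cj y (cj w M) from cj_mul y w M]

theorem prime_dvd_left {x w : G} {p : ℕ} (hp : p.Prime) (hc : Commute x w)
    (hco : ∀ q : ℕ, q.Prime → q ∣ orderOf x → ¬ q ∣ orderOf w) (hd : p ∣ orderOf x) :
    p ∣ orderOf (x * w) := by
  rw [hc.orderOf_mul_eq_mul_orderOf_of_coprime (Nat.coprime_of_dvd hco)]
  exact hd.mul_right _

/-- A `σ(M)'`-element of `M` commuting with `x ∈ M_σ`: the product is covered. -/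
theorem cover_of_mem (F : Inputs G) {M : Subgroup G} (hM : IsCoatom M) {x w : G}
    (hx : x ∈ Cfsg.sigmaCore M) (hx1 : x ≠ 1) (hw : w ∈ M ⊓ centralizer ({x} : Set G))
    (hσ : ∀ p : ℕ, p.Prime → p ∣ orderOf w → p ∉ Cfsg.sigma M) :
    (∃ N : Subgroup G, IsCoatom N ∧ x * w ∈ tildeSigma N) ∨
      ∃ H KH : Subgroup G, KData H KH ∧ x * w ∈ zHat H KH := by
  by_cases hw1 : w = 1
  · refine Or.inl ⟨M, hM, x, ⟨hx, hx1⟩, 1, one_mem _, 1, ?_⟩
    simp [hw1]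
  have hwx : w * x = x * w := mem_centralizer_singleton_iff.mp hw.2
  rcases F.tilde.s1432 M hM x hx hx1 w hw hw1 hσ with ⟨hκ, -⟩ | ⟨-, ⟨L, hL, hLσ⟩, hCw, huniq⟩
  · right
    obtain ⟨KH, hKH, hle⟩ := exists_hallOf_ge (π := Cfsg.kappa M)
      (isSolvable_max F.minSimple hM) (zpowers_le.mpr hw.1)
      (fun q hq hd => hκ q hq (Nat.card_zpowers w ▸ hd))
    have hwK : w ∈ KH := hle (mem_zpowers w)
    have D : KData M KH := ⟨hM, hKH, fun e => hw1 (mem_bot.mp (e ▸ hwK))⟩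
    have hxK : x ∈ kStar M KH := D.mem_kStar_of_centralizes F hwK hw1 hx hwx
    refine ⟨M, KH, D, ⟨mul_mem (mem_sup_right hxK) (mem_sup_left hwK), ?_⟩⟩
    rintro (h | h)
    · exact hx1 (mem_bot.mp (D.inf_sigmaCore.le
        ⟨by simpa using KH.mul_mem h (inv_mem hwK), hx⟩))
    · exact hw1 (mem_bot.mp (D.inf_sigmaCore.le
        ⟨hwK, by simpa using mul_mem (inv_mem hx) h.1⟩))
  · left
    obtain ⟨t, ht⟩ := F.tilde.s1425 L hL (zpowers w) (fun e => hw1 (zpowers_eq_bot.mp e))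
      (fun p hp hd => hLσ p hp (Nat.card_zpowers w ▸ hd))
    set L' := L.map (MulAut.conj t⁻¹).toMonoidHom with hL'
    have hL'c : IsCoatom L' := isCoatom_map _ hL
    have hwL : w ∈ Cfsg.sigmaCore L' := by
      rw [hL', ← OddOrder.sigmaCore_map]
      exact ⟨t * w * t⁻¹, ht ⟨w, mem_zpowers w, rfl⟩, by simp [mul_assoc]⟩
    have hne : L' ≠ M := fun e => by
      obtain ⟨p, hp, hd⟩ := Nat.exists_prime_and_dvd (fun e' => hw1 (orderOf_eq_one_iff.1 e'))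
      exact hσ p hp hd (e ▸ sigma_of_mem hwL hp hd)
    refine ⟨L', hL'c, w, ⟨hwL, hw1⟩, x, ?_, 1, by rw [hwx]; simp⟩
    rcases support_cases F.tilde hL'c hwL hw1 with ⟨hC, -⟩ | ⟨N, hN, hwN, -, -, hR, -⟩
    · exact absurd (huniq L' hL'c hC) hne
    · obtain rfl := huniq N hN hwN
      rw [hR]
      exact ⟨hx, mem_centralizer_singleton_iff.mpr hwx.symm⟩

/-- Every nonidentity element lies in a tilde set or in a conjugate of some `Ẑ`. -/
theorem exists_cover (F : Inputs G) {g : G} (hg : g ≠ 1) :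
    (∃ N : Subgroup G, IsCoatom N ∧ g ∈ tildeSigma N) ∨
      ∃ H KH : Subgroup G, KData H KH ∧ ∃ u : G, u * g * u⁻¹ ∈ zHat H KH := by
  obtain ⟨p, hp, hpd⟩ := Nat.exists_prime_and_dvd (fun e => hg (orderOf_eq_one_iff.1 e))
  obtain ⟨M, hM, hpM⟩ := F.tilde.s1378.1 p hp (hpd.trans (orderOf_dvd_natCard g))
  obtain ⟨x, w, rfl, hxg, hwg, hxπ, hwπ⟩ := BG15.exists_pi_parts (Cfsg.sigma M) g
  have hc : Commute x w := by
    obtain ⟨i, hi⟩ := mem_zpowers_iff.mp hxg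
    obtain ⟨j, hj⟩ := mem_zpowers_iff.mp hwg
    have h := (Commute.refl (x * w)).zpow_zpow i j
    rwa [hi, hj] at h
  have hx1 : x ≠ 1 := fun e => hwπ p hp (by rwa [e, one_mul] at hpd) hpM
  obtain ⟨u, hu⟩ := F.tilde.s1425 M hM (zpowers x) (fun e => hx1 (zpowers_eq_bot.mp e))
    (fun q hq hd => hxπ q hq (Nat.card_zpowers x ▸ hd))
  have ho : ∀ a v : G, orderOf (v * a * v⁻¹) = orderOf a := fun a v =>
    orderOf_injective (MulAut.conj v).toMonoidHom (MulAut.conj v).injective a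
  -- it is enough to treat `x ∈ M_σ` and any conjugate of `w` under `C(x)`
  suffices key : ∀ a b : G, a ∈ Cfsg.sigmaCore M → a ≠ 1 → Commute a b →
      (∀ q : ℕ, q.Prime → q ∣ orderOf b → q ∉ Cfsg.sigma M) →
      (∃ N : Subgroup G, IsCoatom N ∧ a * b ∈ tildeSigma N) ∨
        ∃ H KH : Subgroup G, KData H KH ∧ ∃ v : G, v * (a * b) * v⁻¹ ∈ zHat H KH by
    have he : u * (x * w) * u⁻¹ = u * x * u⁻¹ * (u * w * u⁻¹) := by group
    rcases key (u * x * u⁻¹) (u * w * u⁻¹) (hu ⟨x, mem_zpowers x, rfl⟩)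
      (fun e => hx1 (conj_eq_one_iff.1 e)) (hc.map (MulAut.conj u).toMonoidHom)
      (fun q hq hd => hwπ q hq (ho w u ▸ hd)) with ⟨N, hN, h⟩ | ⟨H, KH, D, v, h⟩
    · exact Or.inl ⟨N, hN, mem_tilde_of_conj u (he.symm ▸ h)⟩
    · refine Or.inr ⟨H, KH, D, v * u, ?_⟩
      rw [show v * u * (x * w) * (v * u)⁻¹ = v * (u * (x * w) * u⁻¹) * v⁻¹ by group, he]
      exact h
  clear hg hpd hxg hwg hxπ hwπ hc hx1 hu
  intro a b ha ha1 hab hbσ
  by_cases hbM : b ∈ M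
  · rcases cover_of_mem F hM ha ha1 ⟨hbM, mem_centralizer_singleton_iff.mpr hab.eq.symm⟩ hbσ with
      h | ⟨H, KH, D, h⟩
    · exact Or.inl h
    · exact Or.inr ⟨H, KH, D, 1, by simpa using h⟩
  have hbC : b ∈ centralizer ({a} : Set G) := mem_centralizer_singleton_iff.mpr hab.eq.symm
  have hnot : ¬ centralizer ({a} : Set G) ≤ M := fun h => hbM (h hbC)
  obtain ⟨L, ⟨hL, hCL⟩, huL, hF, hn, hD, hF', -⟩ := F.tilde.s1375 M hM a ha ha1 hnot
  have hR : Cfsg.supportR M a = Cfsg.sigmaCore L ⊓ centralizer ({a} : Set G) := by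
    rw [PF8.supportR_eq hnot hL hCL ⟨L, ⟨hL, hCL⟩, fun L' hL' => huL L' hL'.1 hL'.2⟩, hF]
  have hMD : ∀ q : ℕ, q.Prime → q ∣ Nat.card ↥(M ⊓ centralizer ({a} : Set G)) →
      q ∉ Cfsg.sigma L := fun q hq hd =>
    BG11.not_mem_sigma_of_dvd_compl (F.tilde.s1350 L hL).1 hF' hq
      (hd.trans (card_dvd_of_le (le_inf inf_le_left (inf_le_right.trans hCL))))
  obtain ⟨b₁, b₂, hb, hb₁, hb₂, hb₁π, hb₂π⟩ := BG15.exists_pi_parts (Cfsg.sigma L) b
  by_cases hb₂1 : b₂ = 1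
  · left
    rw [hb₂1, mul_one] at hb
    refine ⟨M, hM, a, ⟨ha, ha1⟩, b, ?_, 1, by simp⟩
    rw [hR]
    refine ⟨mem_sigmaCore_of_primes F.tilde hL (hCL hbC) fun q hq hd => hb₁π q hq (hb ▸ hd), hbC⟩
  have hb₂C : b₂ ∈ centralizer ({a} : Set G) :=
    (zpowers_le.mpr hbC) hb₂
  have hsol : Group.IsSolvable ↥(centralizer ({a} : Set G)) :=
    isSolvable_of_le_max F.minSimple hL hCL
  have hHall : Cfsg.IsPiHallOf {q | q.Prime ∧ q ∉ Cfsg.sigma L}
      (M ⊓ centralizer ({a} : Set G)) (centralizer ({a} : Set G)) := by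
    refine ⟨inf_le_right, fun q hq hd => ⟨hq, hMD q hq hd⟩, fun q hq hqπ hd => ?_⟩
    rw [(H41.IsComplIn.relIndex_eq hD).2] at hd
    exact hqπ.2 (sigmaCore_isPiNumber L q hq (hd.trans (card_dvd_of_le inf_le_left)))
  obtain ⟨H₂, hH₂, hle⟩ := exists_hallOf_ge (π := {q | q.Prime ∧ q ∉ Cfsg.sigma L}) hsol
    (zpowers_le.mpr hb₂C) fun q hq hd => ⟨hq, hb₂π q hq (Nat.card_zpowers b₂ ▸ hd)⟩
  obtain ⟨c, hc, hce⟩ := Coprime.exists_conj_hallOf hsol hH₂ hHall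
  set b' := c * b * c⁻¹ with hb'
  set d := c * b₂ * c⁻¹ with hd'
  have hdM : d ∈ M ⊓ centralizer ({a} : Set G) := hce.le ⟨b₂, hle (mem_zpowers b₂), rfl⟩
  have hd1 : d ≠ 1 := fun e => hb₂1 (conj_eq_one_iff.1 e)
  have hdσ : ∀ q : ℕ, q.Prime → q ∣ orderOf d → q ∉ Cfsg.sigma M := fun q hq hd => by
    rw [hd', ho] at hd
    exact hbσ q hq (hd.trans (orderOf_dvd_of_mem_zpowers hb₂))
  have hb'M : b' ∈ M := by
    rcases F.tilde.s1432 M hM a ha ha1 d hdM hd1 hdσ with ⟨-, hC⟩ | ⟨-, -, hC, -⟩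
    · exact absurd hC hnot
    · refine hC (mem_centralizer_singleton_iff.mpr ?_)
      obtain ⟨j, rfl⟩ := mem_zpowers_iff.mp hb₂
      exact ((Commute.refl b).zpow_right j).map (MulAut.conj c).toMonoidHom |>.eq
  have hb'C : b' ∈ centralizer ({a} : Set G) := mul_mem (mul_mem hc hbC) (inv_mem hc)
  have he : c * (a * b) * c⁻¹ = a * b' := by
    rw [hb', show c * (a * b) * c⁻¹ = c * a * c⁻¹ * (c * b * c⁻¹) by group,
      show c * a = a * c from mem_centralizer_singleton_iff.mp hc]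
    group
  rcases cover_of_mem F hM ha ha1 ⟨hb'M, hb'C⟩ (fun q hq hd => hbσ q hq (ho b c ▸ hd)) with
    ⟨N, hN, h⟩ | ⟨H, KH, D, h⟩
  · exact Or.inl ⟨N, hN, mem_tilde_of_conj c (he.symm ▸ h)⟩
  · exact Or.inr ⟨H, KH, D, c, he.symm ▸ h⟩

theorem zHat_map {M K : Subgroup G} (t : G) {z : G} (hz : z ∈ zHat M K) :
    t * z * t⁻¹ ∈ zHat (cj t M) (cj t K) := by
  have hs : cj t (kStar M K) = kStar (cj t M) (cj t K) := by
    rw [kStar, kStar, BG11.cj_inf, BG11.cj_centralizer, cj, OddOrder.sigmaCore_map]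
  refine ⟨?_, ?_⟩
  · rw [← hs, SetLike.mem_coe, cj, cj, ← Subgroup.map_sup]
    exact ⟨z, hz.1, rfl⟩
  · rintro (h | h)
    · exact hz.2 (Or.inl (by simpa [mul_assoc] using mem_cj.mp h))
    · rw [SetLike.mem_coe, ← hs] at h
      exact hz.2 (Or.inr (by simpa [mul_assoc] using mem_cj.mp h))

theorem conj_mem_zHat_of {H K K' : Subgroup G} {c z : G} (hH : cj c H = H) (hK : cj c K = K')
    (hz : z ∈ zHat H K) : c * z * c⁻¹ ∈ zHat H K' := by
  have h := zHat_map c hz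
  rwa [hH, hK] at h

/-- Any two `Ẑ` belonging to conjugate maximal subgroups are conjugate. -/
theorem exists_conj_zHat (F : Inputs G) {H KH M K : Subgroup G} (D : KData H KH) (D' : KData M K)
    {t : G} (ht : H = cj t M) {z : G} (hz : z ∈ zHat H KH) : ∃ v : G, v * z * v⁻¹ ∈ zHat M K := by
  have hH' : cj t⁻¹ H = M := by rw [ht, BG11.cj_inv_cj]
  have hKt : Cfsg.IsPiHallOf (Cfsg.kappa M) (cj t⁻¹ KH) M := by
    refine ⟨(Subgroup.map_mono D.le).trans hH'.le, fun q hq hd => ?_, fun q hq hκ hd => ?_⟩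
    · rw [card_cj] at hd
      have := D.prime_mem hq hd
      rwa [ht, cj, OddOrder.kappa_map] at this
    · have e : (cj t⁻¹ KH).relIndex M = KH.relIndex H := by
        conv_lhs => rw [← hH']
        exact relIndex_map_map_of_injective _ _ (MulAut.conj t⁻¹).injective
      refine D.hall.2.2 q hq ?_ (e ▸ hd)
      rwa [ht, cj, OddOrder.kappa_map]
  obtain ⟨m, hm, he⟩ := Coprime.exists_conj_hallOf (isSolvable_max F.minSimple D'.max) hKt D'.hall
  have h1 := zHat_map t⁻¹ hz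
  rw [hH'] at h1
  refine ⟨m * t⁻¹, ?_⟩
  rw [show m * t⁻¹ * z * (m * t⁻¹)⁻¹ = m * (t⁻¹ * z * t⁻¹⁻¹) * m⁻¹ by group]
  exact conj_mem_zHat_of (BG11.cj_eq_of_mem hm) he h1

/-- BG 14.8 (statement shape of S1379). -/
theorem cover (F : Inputs G) {M K U : Subgroup G} (hM : IsCoatom M)
    (hd : Cfsg.IsSigmaDecomposition M K U) (hK : K ≠ ⊥) :
    (∀ g : G, g ≠ 1 → (∃ N : Subgroup G, IsCoatom N ∧ g ∈ tildeSigma N) ∨
        ∃ y : G, ∃ z ∈ zHat M K, g = y * z * y⁻¹) ∧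
      ∀ N : Subgroup G, IsCoatom N → ∀ y : G, ∀ z ∈ zHat M K, y * z * y⁻¹ ∉ tildeSigma N := by
  have D := kdata_of_decomp hM hd hK
  obtain ⟨M', P, -⟩ := D.exists_pair F
  have hsym : zHat M' (kStar M K) = zHat M K := by
    show (_ : Set G) = _
    rw [zHat, zHat, P.sup_eq, P.star, Set.union_comm]
  refine ⟨fun g hg => ?_, fun N hN y z hz hmem => ?_⟩
  · refine (exists_cover F hg).imp_right fun ⟨H, KH, DH, u, hu⟩ => ?_
    obtain ⟨v, hv⟩ : ∃ v : G, v * (u * g * u⁻¹) * v⁻¹ ∈ zHat M K := by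
      have hne : (Cfsg.kappa H).Nonempty := by
        obtain ⟨x, hx, hxp⟩ := exists_mem_orderOf_prime DH.ne_bot
        exact ⟨_, DH.prime_mem hxp (orderOf_dvd_natCard _ hx)⟩
      obtain ⟨t, ht | ht⟩ := P.exists_conj_of_kappa F DH.max hne
      · exact exists_conj_zHat F DH D ht hu
      · exact hsym ▸ exists_conj_zHat F DH P.data' ht hu
    exact ⟨(v * u)⁻¹, _, hv, by group⟩
  · obtain ⟨s, x, r, hx, hx1, hr, he⟩ := (mem_tilde_iff F.tilde hN).1 hmem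
    have hN' : IsCoatom (cj s N) := isCoatom_map _ hN
    obtain ⟨p, hp, hpx⟩ := Nat.exists_prime_and_dvd (fun e => hx1 (orderOf_eq_one_iff.1 e))
    have hpN : p ∈ Cfsg.sigma N := sigma_map_conj (M := N) s ▸ sigma_of_mem hx hp hpx
    have hpz : p ∣ orderOf z := by
      obtain ⟨⟨k, hk⟩, -⟩ := exists_pow_left F.tilde hN' hx hx1 hr
      rw [← hk] at hpx
      have h := hpx.trans (orderOf_pow_dvd k)
      rwa [← he, show orderOf (y * z * y⁻¹) = orderOf z from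
        orderOf_injective (MulAut.conj y).toMonoidHom (MulAut.conj y).injective z] at h
    have hO := P.data.isOwner
    have hzZ : z ∈ zHatOf (K ⊔ kStar M K) := P.zHat_eq F ▸ hz
    rcases P.sigma_of_dvd hp (hpz.trans (orderOf_dvd_natCard _ hz.1)) with h | h
    · obtain ⟨w, rfl⟩ := F.res.sigma_disjoint M N hM hN ⟨p, h, hpN⟩
      exact hO.not_mem_tilde F hO hzZ y (tilde_of_map F.tilde hM w hmem)
    · obtain ⟨w, rfl⟩ := F.res.sigma_disjoint M' N P.data'.max hN ⟨p, h, hpN⟩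
      exact hO.not_mem_tilde F P.owner' hzZ y (tilde_of_map F.tilde P.data'.max w hmem)

end Cfsg.Agent.OddOrder.BG14
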