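import Cfsg.Agent.OddOrder.BG14.Transitive

/-!
# BG 14.13: two maximal subgroups over a centralizer
-/

set_option autoImplicit false
set_option linter.style.haveILetI false
set_option linter.unusedSectionVars false
set_option linter.unusedVariables false

universe u

namespace Cfsg.Agent.OddOrder.BG14

open Subgroup H40 BG11
open scoped commutatorElement

variable {G : Type u} [Group G] [Finite G]

/-- Elements of order `p` in `O_{q'}(M)` centralize the normal `q`-subgroups of `M`. -/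
theorem mem_centralizer_of_pPrimeCore {M S : Subgroup G} {q : ℕ} [hq : Fact q.Prime] (hSM : S ≤ M)
    (hS : IsPGroup q S) (hn : M ≤ normalizer (S : Set G)) {y : G} (hy : y ∈ M) {p : ℕ}
    (hp : p.Prime) (hyo : orderOf y = p) (hd : ¬ p ∣ (Cfsg.pPrimeCore q ↥M).index) :
    y ∈ centralizer (S : Set G) := by
  have hyO : (⟨y, hy⟩ : M) ∈ Cfsg.pPrimeCore q ↥M := by
    have h1 := (Cfsg.pPrimeCore q ↥M).pow_index_mem ⟨y, hy⟩
    have h2 : (orderOf (⟨y, hy⟩ : M)).Coprime (Cfsg.pPrimeCore q ↥M).index := by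
      rw [Subgroup.orderOf_mk, hyo]
      exact hp.coprime_iff_not_dvd.mpr hd
    obtain ⟨k, hk⟩ := exists_pow_eq_self_of_coprime h2.symm
    rw [← hk]
    exact pow_mem h1 k
  refine mem_centralizer_iff.mpr fun s hs => ?_
  set y' : M := ⟨y, hy⟩
  set s' : M := ⟨s, hSM hs⟩
  have hnormal : (Cfsg.pPrimeCore q ↥M).Normal := inferInstance
  have hc : y' * s' * y'⁻¹ * s'⁻¹ ∈ Cfsg.pPrimeCore q ↥M := by
    rw [mul_assoc y' s', mul_assoc]
    exact mul_mem hyO (hnormal.conj_mem _ (inv_mem hyO) s')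
  have hcS : y * s * y⁻¹ * s⁻¹ ∈ S :=
    mul_mem ((mem_normalizer_iff.mp (hn hy) s).mp hs) (inv_mem hs)
  have h1 : y' * s' * y'⁻¹ * s'⁻¹ = 1 := by
    rw [← orderOf_eq_one_iff]
    obtain ⟨k, hk⟩ := IsPGroup.iff_orderOf.mp hS ⟨_, hcS⟩
    rw [Subgroup.orderOf_mk] at hk
    refine Nat.eq_one_of_dvd_coprimes
      ((Cores.coprime_card_pPrimeCore (p := q) (G := ↥M)).pow_right k)
      (orderOf_dvd_natCard _ hc) ?_
    rw [← hk, ← Subgroup.orderOf_coe]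
    exact dvd_rfl
  have h2 : y * s * y⁻¹ * s⁻¹ = 1 := congrArg Subtype.val h1
  rw [mul_inv_eq_one, mul_inv_eq_iff_eq_mul] at h2
  exact h2.symm

variable (h : BG13.Hyp G) (R : BG13.Results G) {M : Subgroup G}
include h R

theorem signalizer_not_dvd {N : Subgroup G} {x z : G} (D : Signalizer M N x z) {p : ℕ}
    (hp : p ∈ Cfsg.sigma N) : ¬ p ∣ Nat.card ↥(M ⊓ N) := fun hd =>
  not_mem_sigma_of_dvd_compl (h.s10.sigmaCore_hall N D.coatom).1 D.compl hp.1 hd hp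

/-- `κ(M)` avoids `σ(N)`. -/
theorem kappa_not_sigma (hM : IsCoatom M) {N : Subgroup G} {x z : G} (D : Signalizer M N x z)
    {p : ℕ} (hp : p ∈ Cfsg.kappa M) : p ∉ Cfsg.sigma N := by
  intro hpN
  haveI := Fact.mk hp.1
  obtain ⟨⟨a, ha⟩, hao⟩ := exists_prime_orderOf_dvd_card' (G := M) p hp.2.1
  rw [Subgroup.orderOf_mk] at hao
  set X := zpowers a
  have hXM : X ≤ M := zpowers_le.mpr ha
  have hXc : Nat.card X = p := by rw [Nat.card_zpowers, hao]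
  have hX0 : X ≠ ⊥ := BG13.ne_bot_of_prime_card (hXc ▸ hp.1)
  obtain ⟨H, hH, hNH⟩ := exists_coatom_ge
    (normalizer_ne_top' h.s10.minSimple hX0 (ne_top_of_le_coatom hM hXM))
  obtain ⟨hpH, hnc, hXs⟩ := mem_sigma_of_kappa h R hM hp hXM hXc hH hNH
  obtain ⟨g, rfl⟩ := R.sigma_disjoint N H D.coatom hH ⟨p, hpN, hpH⟩
  obtain ⟨w, ⟨hws, hwc⟩, hwp⟩ := exists_prime_elem (exists_fixed_of_kappa h.s10 hp hXM hXc)
  haveI := Fact.mk hwp
  obtain ⟨⟨hCw, -⟩, -⟩ :=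
    R.fixed_element M hM p (OddOrder.kappa_subset_tau13 M hp) X hXM hXc w hws hwc hwp
  have hwH : w ∈ cj g N := (centralizer_le_normalizer _).trans hNH hwc
  have hwσ : orderOf w ∈ Cfsg.sigma M :=
    sigmaCore_isPiNumber M _ hwp (orderOf_dvd_natCard _ hws)
  set W := cj g⁻¹ (zpowers w)
  have hWN : W ≤ N := (cj_mono _ (zpowers_le.mpr hwH)).trans (cj_inv_cj g N).le
  obtain ⟨E, hE, hWE⟩ := h.s10.exists_compl_ge D.coatom hWN fun q hq hd => by
    rw [card_cj, Nat.card_zpowers] at hd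
    exact (Nat.prime_dvd_prime_iff_eq hq hwp).mp hd ▸
      not_sigma_of_nonconj h R hM D.coatom D.nonconj hwσ
  obtain ⟨n, hn, e⟩ := Coprime.exists_conj_hallOf (h.s10.isSolvable_max D.coatom)
    (compl_isPiHallOf (h.s10.sigmaCore_hall N D.coatom).1 hE)
    (compl_isPiHallOf (h.s10.sigmaCore_hall N D.coatom).1 D.compl)
  have hk : cj (n * g⁻¹) (zpowers w) ≤ M ⊓ N :=
    (cj_mul n g⁻¹ _).le.trans ((cj_mono n hWE).trans e.le)
  obtain ⟨m, hm, c, hc, e'⟩ := (h.s10.sigma_trans M hM _ hwσ (zpowers w)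
    (IsPGroup.of_card (n := 1) (by rw [Nat.card_zpowers, pow_one]))
    (BG13.ne_bot_of_prime_card (by rw [Nat.card_zpowers]; exact hwp))
    (zpowers_le.mpr (sigmaCore_le M hws))).1 (n * g⁻¹) (hk.trans inf_le_left)
  rw [BG13.centralizer_zpowers] at hc
  have hkM : n * g⁻¹ ∈ M := e'.symm ▸ M.mul_mem hm (hCw hc)
  have h1 : cj (n * g⁻¹) X ≤ Cfsg.sigmaCore N := by
    refine (cj_mono _ hXs).trans (le_of_eq ?_)
    rw [cj, OddOrder.sigmaCore_map]
    show Cfsg.sigmaCore (cj (n * g⁻¹) (cj g N)) = _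
    rw [cj_mul, cj_inv_cj, cj_eq_of_mem hn]
  have h2 : cj (n * g⁻¹) X ≤ M := (cj_mono _ hXM).trans (cj_eq_of_mem hkM).le
  refine BG13.ne_bot_of_prime_card (X := cj (n * g⁻¹) X) (by rw [card_cj, hXc]; exact hp.1)
    (eq_bot_iff.mpr fun t ht => mem_bot.mpr (D.eq_one_of_mem (h1 ht) (h2 ht)))

/-- With `M_σ` nilpotent, `σ(N)` avoids `M'` and meets `π(M)` only in `β(N)`. -/
theorem sigma_inter_of_nilpotent (hM : IsCoatom M) {N : Subgroup G} {x z : G}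
    (D : Signalizer M N x z) (hzσ : orderOf z ∈ Cfsg.sigma M)
    (hnil : Group.IsNilpotent (Cfsg.sigmaCore M)) {p : ℕ} (hpN : p ∈ Cfsg.sigma N)
    (hd : p ∣ Nat.card M) : ¬ p ∣ Nat.card ↥⁅M, M⁆ ∧ p ∈ Cfsg.beta N := by
  haveI := Fact.mk hpN.1
  haveI := Fact.mk hzσ.1
  set q := orderOf z
  obtain ⟨A, hA, hAe, hA2⟩ := exists_elemAb_compl h.s10 D.coatom D.compl D.tau2
  obtain ⟨-, ⟨hCA, hFA, -⟩, -⟩ := h.s10.compl_structure D.coatom D.compl D.tau2 ⟨hA, hAe, hA2⟩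
  have hCA' : centralizer (A : Set G) ≤ M ⊓ N := hCA.trans hFA.le
  have hqb : q ∉ Cfsg.beta M := h.s10.not_mem_beta hAe hA2
    (h.s10.eq_of_elemAb_ge D.coatom D.tau2.2.1 (hA.trans inf_le_right) hAe hA2) M
  obtain ⟨S, hS, hAS⟩ := exists_sylowOf_ge' (elemAb_isPGroup hAe) (hA.trans inf_le_left)
  have hSn : M ≤ normalizer (S : Set G) := (h.s10.normalizer_sylow_of_nilpotent hM hzσ hnil hS).ge
  have hout : ∀ y : G, orderOf y = p → y ∉ centralizer (S : Set G) := fun y hyo hyc =>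
    signalizer_not_dvd h R D hpN (hyo ▸ orderOf_dvd_natCard _ (hCA' (centralizer_le hAS hyc)))
  have hpq : p ≠ q := fun e => D.tau2.2.1 (show q ∈ Cfsg.sigma N from e ▸ hpN)
  constructor
  · intro hd'
    obtain ⟨⟨y, hy⟩, hyo⟩ := exists_prime_orderOf_dvd_card' (G := ↥⁅M, M⁆) p hd'
    rw [Subgroup.orderOf_mk] at hyo
    have hSM' : S ≤ ⁅M, M⁆ :=
      (h.s10.le_sigmaCore_of_isPGroup hM hzσ hS.1 hS.2.1).trans (h.s10.sigmaCore_le_derived M hM)
    exact hout y hyo (h.s10.le_centralizer_of_not_beta hM hpq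
      (IsPGroup.of_card (n := 1) (by rw [Nat.card_zpowers, hyo, pow_one]) : IsPGroup p (zpowers y))
      hS.2.1 (zpowers_le.mpr hy) hSM' ((zpowers_le.mpr (derived_le M hy)).trans hSn) hqb
      (mem_zpowers y))
  · by_contra hpb
    obtain ⟨⟨y, hy⟩, hyo⟩ := exists_prime_orderOf_dvd_card' (G := M) p hd
    rw [Subgroup.orderOf_mk] at hyo
    have hdi : p ∣ (Cfsg.pPrimeCore q ↥M).index := by_contra fun hdi =>
      hout y hyo (mem_centralizer_of_pPrimeCore hS.1 hS.2.1 hSn hy hpN.1 hyo hdi)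
    have hqM : q ∣ Nat.card M := hzσ.2.1
    have hle1 : p ≤ q := ((h.s10.betaCore_spec M hM).2.2.2.2 q hzσ.1 hqM hqb).2.2 p hpN.1 hdi
    obtain ⟨T, hT⟩ := exists_sylowOf p N
    obtain ⟨hnilN, -, -, hCN, -, -⟩ :=
      h.s10.tauTwo_structure D.coatom D.tau2 ⟨hA.trans inf_le_right, hAe, hA2⟩
    have hTn : N ≤ normalizer (T : Set G) :=
      (h.s10.normalizer_sylow_of_nilpotent D.coatom hpN hnilN hT).ge
    have hdiN : q ∣ (Cfsg.pPrimeCore p ↥N).index := by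
      by_contra hdi
      refine sylowOf_ne_bot hT hpN.2.1 (eq_bot_iff.mpr (le_trans (le_inf
        (h.s10.le_sigmaCore_of_isPGroup D.coatom hpN hT.1 hT.2.1) ?_) hCN.le))
      rw [le_centralizer_iff]
      intro a ha
      rcases eq_or_ne a 1 with rfl | ha1
      · exact one_mem _
      exact mem_centralizer_of_pPrimeCore hT.1 hT.2.1 hTn (hA.trans inf_le_right ha) hzσ.1
        (orderOf_eq_prime (hAe.2 a ha) ha1) hdi
    have hle2 : q ≤ p :=
      ((h.s10.betaCore_spec N D.coatom).2.2.2.2 p hpN.1 hpN.2.1 hpb).2.2 q hzσ.1 hdiN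
    exact hpq (le_antisymm hle1 hle2)

/-- A prime of `σ(N) ∩ π(M)` leaves no room for `τ₂(M)`. -/
theorem tau2_eq_empty_of_inter (hM : IsCoatom M) {N : Subgroup G} {x z : G}
    (D : Signalizer M N x z) (hzσ : orderOf z ∈ Cfsg.sigma M) {p : ℕ} (hpN : p ∈ Cfsg.sigma N)
    (hd : p ∣ Nat.card M) : Cfsg.tau2 M = ∅ := by
  refine Set.eq_empty_of_forall_notMem fun r hr => ?_
  haveI := Fact.mk hr.1
  haveI := Fact.mk hpN.1
  haveI := Fact.mk hzσ.1
  have hps : p ∉ Cfsg.sigma M := fun hp => not_sigma_of_nonconj h R hM D.coatom D.nonconj hp hpN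
  obtain ⟨B₀, hB₀M, hB₀, hB₀2⟩ := exists_elemAb_sq hr.2.2.2
  have hnil := (h.s10.tauTwo_structure hM hr ⟨hB₀M, hB₀, hB₀2⟩).1
  obtain ⟨hpd, hpb⟩ := sigma_inter_of_nilpotent h R hM D hzσ hnil hpN hd
  have hrank : Cfsg.PRankLE p 1 M := h.rank_one_of_ideal hM hps hpb.2
  have hp1 : p ∈ Cfsg.tau1 M := ⟨hpN.1, hps, hd, hpd, hrank⟩
  have hpr : p ≠ r := fun e => hr.2.2.2 (e ▸ hrank)
  have hrN : r ∉ Cfsg.sigma N := fun hrN => by
    have hrd : r ∣ Nat.card M := dvd_of_not_pRankLE hr.2.2.2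
    exact hr.2.2.2 (h.rank_one_of_ideal hM hr.2.1 (sigma_inter_of_nilpotent h R hM D hzσ hnil hrN hrd).2.2)
  obtain ⟨⟨a, ha⟩, hao⟩ := exists_prime_orderOf_dvd_card' (G := M) p hd
  rw [Subgroup.orderOf_mk] at hao
  set X := zpowers a
  have hXM : X ≤ M := zpowers_le.mpr ha
  have hXc : Nat.card X = p := by rw [Nat.card_zpowers, hao]
  have hXp : IsPGroup p X := IsPGroup.of_card (n := 1) (by rw [hXc, pow_one])
  have hfix : Cfsg.sigmaCore M ⊓ centralizer (X : Set G) = ⊥ := by_contra fun hne =>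
    kappa_not_sigma h R hM D (mem_kappa_of_fixed h.s10 (Or.inl hp1) hXM hXc hne) hpN
  obtain ⟨E, hE, hXE⟩ := h.s10.exists_compl_ge hM hXM fun q hq hq' =>
    (Nat.prime_dvd_prime_iff_eq hq hpN.1).mp (hXc ▸ hq') ▸ hps
  obtain ⟨B, hB⟩ := exists_elemAb_compl h.s10 hM hE hr
  obtain ⟨hBE, hBe, hB2⟩ := hB
  have hB0 : B ≠ ⊥ := ne_bot_of_card (hB2 ▸ one_lt_pow₀ hr.1.one_lt two_ne_zero)
  obtain ⟨⟨hEB, -⟩, -, huniq⟩ := h.s10.compl_structure hM hE hr ⟨hBE, hBe, hB2⟩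
  obtain ⟨L, hL, hNL⟩ := exists_coatom_ge
    (normalizer_ne_top' h.s10.minSimple hB0 (ne_top_of_le_coatom hM (hBE.trans hE.1)))
  obtain ⟨hrL, hLM, hEL⟩ := sigma_of_normalizer_elemAb h.s10 hM hE hr ⟨hBE, hBe, hB2⟩ hL hNL
  have hLN : ∀ g : G, L ≠ cj g N := fun g e => hrN (by
    rw [← OddOrder.sigma_map (MulAut.conj g) N]
    rwa [e] at hrL)
  obtain ⟨H, hH, hNH⟩ := exists_coatom_ge (normalizer_ne_top' h.s10.minSimple
    (BG13.ne_bot_of_prime_card (hXc ▸ hpN.1)) (ne_top_of_le_coatom hM hXM))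
  obtain ⟨hnc, hcase, -⟩ := (R.normalizer_tau13 M hM p (Or.inl hp1) X hXM hXc).2 H hH hNH
  have hpH : p ∈ Cfsg.sigma H :=
    hcase.resolve_right fun h2 => h2.2.2.2 (h.rank_one_of_ideal hH h2.2.1 hpb.2)
  obtain ⟨g, rfl⟩ := R.sigma_disjoint N H D.coatom hH ⟨p, hpN, hpH⟩
  have hBM : B ≤ M := hBE.trans hE.1
  have hrX : ¬ B ≤ centralizer (X : Set G) := fun hle => by
    have hrH : r ∉ Cfsg.sigma (cj g N) := by
      rw [cj, OddOrder.sigma_map]; exact hrN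
    have hBH : B ≤ cj g N := (hle.trans (centralizer_le_normalizer _)).trans hNH
    obtain ⟨-, -, -, -, h5, -⟩ := h.s10.tauTwo_structure hH
      (⟨hr.1, hrH, h.s10.pRankLE_two hH hrH, not_pRankLE_one hBe hB2 hBH⟩ : r ∈ Cfsg.tau2 (cj g N))
      ⟨hBH, hBe, hB2⟩
    refine BG13.ne_bot_of_prime_card (hXc ▸ hpN.1) (eq_bot_iff.mpr ?_)
    rw [← h5 M hM (fun e => hnc 1 (e.symm.trans (cj_one M).symm)) hBM]
    exact le_inf (h.s10.le_sigmaCore_of_isPGroup hH hpH (le_normalizer.trans hNH) hXp) hXM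
  have hXB : X ≤ normalizer (B : Set G) := hXE.trans hEB
  have hrMs : ¬ r ∣ Nat.card (Cfsg.sigmaCore M) := fun hd' =>
    hr.2.1 (sigmaCore_isPiNumber M r hr.1 hd')
  have hB1le : ⁅B, X⁆ ≤ centralizer (Cfsg.sigmaCore M : Set G) := by
    rw [Subgroup.commutator_comm]
    exact BG11.commutator_le_centralizer_of_fpf' hnil hXc
      (hXM.trans (le_normalizer_sigmaCore M))
      (fun hd' => hps (sigmaCore_isPiNumber M p hpN.1 hd')) hfix
      (hBM.trans (le_normalizer_sigmaCore M)) hXB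
      (coprime_card_of_isPGroup (elemAb_isPGroup hBe) hrMs)
      (fun hd' => hpr (Nat.prime_eq_prime_of_dvd_pow hpN.1 hr.1 (hB2 ▸ hd'))) (h.odd_sub B)
  have hBC : ¬ B ≤ centralizer (Cfsg.sigmaCore M : Set G) := fun hle => by
    obtain ⟨-, -, -, h4, -, -⟩ := h.s10.tauTwo_structure hM hr ⟨hBM, hBe, hB2⟩
    exact h.s10.sigmaCore_ne_bot M hM (eq_bot_iff.mpr
      ((le_inf le_rfl (le_centralizer_iff.mp hle)).trans h4.le))
  haveI := hBe.1
  obtain ⟨hdisj, hsup⟩ := Coprime.abelian_decomposition hXB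
    (coprime_card_of_isPGroup hXp fun hd' => hpr
      (Nat.prime_eq_prime_of_dvd_pow hpN.1 hr.1 (hB2 ▸ hd')))
  set Y := B ⊓ centralizer (X : Set G) with hY
  set B₁ := ⁅B, X⁆ with hB₁
  have hB₁B : B₁ ≤ B := Coprime.commutator_le_left_of_normalizer hXB
  have hline : ∀ {Z : Subgroup G}, Z ≤ B → Z ≠ ⊥ → Z ≠ B → Nat.card Z = r := by
    intro Z hZ h0 hne
    obtain ⟨i, hi, hic⟩ := (Nat.dvd_prime_pow hr.1).mp (hB2 ▸ card_dvd_of_le hZ)
    have hi2 : i ≠ 2 := fun e => hne (eq_of_le_of_card_ge hZ (by rw [hic, e, hB2]))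
    have hi0 : i ≠ 0 := fun e => h0 (eq_bot_of_card_eq _ (by rw [hic, e, pow_zero]))
    rw [hic, show i = 1 by omega, pow_one]
  have hY0 : Y ≠ ⊥ := fun e => hBC (by rw [e, bot_sup_eq] at hsup; exact hsup.ge.trans hB1le)
  have hB₁0 : B₁ ≠ ⊥ := fun e => hrX (by
    rw [e, sup_bot_eq] at hsup
    exact hsup.ge.trans inf_le_right)
  have hYc := hline inf_le_left hY0 fun e => hrX (e.ge.trans inf_le_right)
  have hB₁c := hline hB₁B hB₁0 fun e => hBC (e.ge.trans hB1le)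
  obtain ⟨hCB₁, huB₁⟩ := huniq B₁ hB₁B hB₁c fun e => h.s10.sigmaCore_ne_bot M hM
    (eq_bot_iff.mpr ((le_inf le_rfl (le_centralizer_iff.mp hB1le)).trans e.le))
  obtain ⟨A, hA, hAe, hA2⟩ := exists_elemAb_compl h.s10 D.coatom D.compl D.tau2
  obtain ⟨⟨hFA', -⟩, ⟨hCA, hFA, -⟩, -⟩ :=
    h.s10.compl_structure D.coatom D.compl D.tau2 ⟨hA, hAe, hA2⟩
  have hAs : A ≤ Cfsg.sigmaCore M :=
    h.s10.le_sigmaCore_of_isPGroup hM hzσ (hA.trans inf_le_left) (elemAb_isPGroup hAe)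
  have hB₁N : B₁ ≤ N :=
    ((hB1le.trans (centralizer_le hAs)).trans (hCA.trans hFA.le)).trans inf_le_right
  have hrankN : Cfsg.PRankLE r 1 N := by
    by_contra hr1
    have hr2 : r ∈ Cfsg.tau2 N := ⟨hr.1, hrN, h.s10.pRankLE_two D.coatom hrN, hr1⟩
    obtain ⟨B', hB', hB'e, hB'2⟩ := exists_elemAb_compl h.s10 D.coatom D.compl hr2
    obtain ⟨⟨hFB', -⟩, -, -⟩ := h.s10.compl_structure D.coatom D.compl hr2 ⟨hB', hB'e, hB'2⟩
    obtain ⟨-, -, -, h4, -, -⟩ :=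
      h.s10.tauTwo_structure hM hr ⟨hB'.trans inf_le_left, hB'e, hB'2⟩
    have hdis : A ⊓ B' = ⊥ := Coprime.inf_eq_bot (coprime_card_of_isPGroup (elemAb_isPGroup hAe)
      fun hd' => hr.2.1 (Nat.prime_eq_prime_of_dvd_pow hzσ.1 hr.1 (hB'2 ▸ hd') ▸ hzσ))
    have hcomm : A ≤ centralizer (B' : Set G) := fun v hv => mem_centralizer_iff.mpr fun w hw => by
      have h1 : v * w * v⁻¹ * w⁻¹ ∈ A := by
        rw [show v * w * v⁻¹ * w⁻¹ = v * (w * v⁻¹ * w⁻¹) by group]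
        exact mul_mem hv ((mem_normalizer_iff.mp (hFA' (hB' hw)) v⁻¹).mp (inv_mem hv))
      have h2 : v * w * v⁻¹ * w⁻¹ ∈ B' :=
        mul_mem ((mem_normalizer_iff.mp (hFB' (hA hv)) w).mp hw) (inv_mem hw)
      have h3 := mem_bot.mp (hdis.le ⟨h1, h2⟩)
      rw [mul_inv_eq_one, mul_inv_eq_iff_eq_mul] at h3
      exact h3.symm
    exact ne_bot_of_card (hA2 ▸ one_lt_pow₀ hzσ.1.one_lt two_ne_zero)
      (eq_bot_iff.mpr ((le_inf hAs hcomm).trans h4.le))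
  have hYH : Y ≤ cj g N := (inf_le_right.trans (centralizer_le_normalizer _)).trans hNH
  have hY' : cj g⁻¹ Y ≤ N := (cj_mono _ hYH).trans (cj_inv_cj g N).le
  obtain ⟨S, hS, hBS⟩ := exists_sylowOf_ge'
    (IsPGroup.of_card (n := 1) (by rw [hB₁c, pow_one]) : IsPGroup r B₁) hB₁N
  obtain ⟨n, hn, hle⟩ := BG11.exists_conj_le hS
    (IsPGroup.of_card (n := 1) (by rw [card_cj, hYc, pow_one]) : IsPGroup r ↥(cj g⁻¹ Y)) hY'
  have heq : cj n (cj g⁻¹ Y) = B₁ := H41.eq_of_card_eq_of_le_cyclic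
    (BG11.isCyclic_of_pRankLE_one (ne_two_of_mem_card h.s10.minSimple (hr.2.2.2 |>
      dvd_of_not_pRankLE)) hS.2.1 (BG11.pRankLE_of_le hS.1 hrankN))
    hle hBS (by rw [card_cj, card_cj, hYc, hB₁c])
  rw [← cj_mul] at heq
  have hBL : B ≤ L := le_normalizer.trans hNL
  have hpL : p ∉ Cfsg.sigma L := fun hp' => by
    obtain ⟨k, hk⟩ := R.sigma_disjoint N L D.coatom hL ⟨p, hpN, hp'⟩
    exact hLN k hk
  have hp13 : p ∈ Cfsg.tau1 L ∪ Cfsg.tau3 L := by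
    have hdL : p ∣ Nat.card L := hXc ▸ card_dvd_of_le (hXE.trans hEL)
    rcases tau_cases' h.s10 hL hpN.1 hdL hpL with h' | h' | h'
    · exact Or.inl h'
    · exact absurd (h.rank_one_of_ideal hL hpL hpb.2) h'.2.2.2
    · exact Or.inr h'
  obtain ⟨y, hy, hy1⟩ := H41.exists_ne_one hY0
  have hYs : Y ≤ Cfsg.sigmaCore L := h.s10.le_sigmaCore_of_isPGroup hL hrL (inf_le_left.trans hBL)
    (IsPGroup.of_card (n := 1) (by rw [hYc, pow_one]))
  have hYeq : zpowers y = Y := BG13.zpowers_eq_of_prime_card (hYc ▸ hr.1) hy hy1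
  have hCY : centralizer (Y : Set G) ≤ L := by
    rw [← hYeq, BG13.centralizer_zpowers]
    exact (R.fixed_element L hL p hp13 X (hXE.trans hEL) hXc y (hYs hy) hy.2
      (by rw [← Nat.card_zpowers, hYeq, hYc]; exact hr.1)).1.1
  obtain ⟨l, hl, c, hc, e⟩ := (h.s10.sigma_trans L hL r hrL Y
    (IsPGroup.of_card (n := 1) (by rw [hYc, pow_one])) hY0 (inf_le_left.trans hBL)).1 (n * g⁻¹)
      (heq.le.trans (hB₁B.trans hBL))
  have hkL : n * g⁻¹ ∈ L := e.symm ▸ L.mul_mem hl (hCY hc)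
  refine hLM (huB₁ L hL ?_)
  rw [← heq, ← BG11.cj_centralizer]
  exact (cj_mono _ hCY).trans (cj_eq_of_mem hkL).le

theorem kappa_eq_empty_of_inter (hM : IsCoatom M) {N : Subgroup G} {x z : G}
    (D : Signalizer M N x z) (hzσ : orderOf z ∈ Cfsg.sigma M) {p : ℕ} (hpN : p ∈ Cfsg.sigma N)
    (hd : p ∣ Nat.card M) : Cfsg.kappa M = ∅ := by
  refine Set.eq_empty_of_forall_notMem fun r hr => ?_
  haveI := Fact.mk hpN.1
  have hps : p ∉ Cfsg.sigma M := fun hp => not_sigma_of_nonconj h R hM D.coatom D.nonconj hp hpN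
  rcases tau_cases' h.s10 hM hpN.1 hd hps with h' | h' | h'
  · exact kappa_not_sigma h R hM D (tau1_subset_kappa h R hM ⟨r, hr⟩ h') hpN
  · exact absurd h' (by rw [tau2_eq_empty_of_inter h R hM D hzσ hpN hd]; exact Set.notMem_empty p)
  · obtain ⟨⟨a, ha⟩, hao⟩ := exists_prime_orderOf_dvd_card' (G := M) p hd
    rw [Subgroup.orderOf_mk] at hao
    have hXc : Nat.card (zpowers a) = p := by rw [Nat.card_zpowers, hao]
    have hfix : Cfsg.sigmaCore M ⊓ centralizer (zpowers a : Set G) = ⊥ := by_contra fun hne =>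
      kappa_not_sigma h R hM D
        (mem_kappa_of_fixed h.s10 (Or.inr h') (zpowers_le.mpr ha) hXc hne) hpN
    have hnil : Group.IsNilpotent (Cfsg.sigmaCore M) :=
      BG3.isNilpotent_of_fpf_subgroup (E := zpowers a) (hXc.symm ▸ hpN.1)
        ((zpowers_le.mpr ha).trans (le_normalizer_sigmaCore M)) fun e he he1 v hv hc => by
          have : v ∈ Cfsg.sigmaCore M ⊓ centralizer (zpowers a : Set G) := by
            refine ⟨hv, ?_⟩
            rw [← BG13.zpowers_eq_of_prime_card (hXc.symm ▸ hpN.1) he he1, BG13.centralizer_zpowers]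
            exact mem_centralizer_singleton_iff.mpr hc.symm
          rwa [hfix, mem_bot] at this
    exact (sigma_inter_of_nilpotent h R hM D hzσ hnil hpN hd).1 h'.2.2.1

/-- BG 14.13 (statement shape of S1436). -/
theorem two_maximals (hM : IsCoatom M) {x : G} (hx : x ∈ Cfsg.sigmaCore M) (hx1 : x ≠ 1)
    (hxM : ¬ centralizer ({x} : Set G) ≤ M) {N : Subgroup G} (hN : IsCoatom N)
    (hxN : centralizer ({x} : Set G) ≤ N) :
    ((∃ p ∈ Cfsg.sigma N, p ∣ Nat.card M) → Cfsg.kappa M = ∅ ∧ Cfsg.tau2 M = ∅) ∧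
      ∀ (y : G) (N' : Subgroup G) (g : G), y ∈ Cfsg.sigmaCore M → y ≠ 1 →
        ¬ centralizer ({y} : Set G) ≤ M → IsCoatom N' → centralizer ({y} : Set G) ≤ N' →
        cj g N' = N → ∃ m ∈ M, cj m N' = N := by
  have key : ∀ {v : G}, v ∈ Cfsg.sigmaCore M → v ≠ 1 → ¬ centralizer ({v} : Set G) ≤ M →
      ∀ {L : Subgroup G}, IsCoatom L → centralizer ({v} : Set G) ≤ L →
        ∃ z : G, Signalizer M L v z ∧ orderOf z ∈ Cfsg.sigma M := by
    intro v hv hv1 hvM L hL hvL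
    obtain ⟨q, hq, hqd⟩ := Nat.exists_prime_and_dvd (fun e => hv1 (orderOf_eq_one_iff.mp e))
    obtain ⟨i, hi⟩ := exists_pow_prime hqd
    haveI := Fact.mk hq
    obtain ⟨L', D⟩ := exists_signalizer h R hM hv (hi.symm ▸ hq)
      (fun hle => hvM ((centralizer_singleton_le_pow v i).trans hle))
    obtain ⟨-, hu, -⟩ := signalizer_unique h R hM hv hv1 (pow_mem (mem_zpowers v) i) D hvM
    obtain rfl := hu L hL hvL
    exact ⟨_, D, sigmaCore_isPiNumber M _ (hi.symm ▸ hq) (orderOf_dvd_natCard _ (pow_mem hv i))⟩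
  obtain ⟨z, D, hzσ⟩ := key hx hx1 hxM hN hxN
  refine ⟨fun ⟨p, hpN, hd⟩ => ⟨kappa_eq_empty_of_inter h R hM D hzσ hpN hd,
    tau2_eq_empty_of_inter h R hM D hzσ hpN hd⟩, fun y N' g hy hy1 hyM hN' hyN' hg => ?_⟩
  obtain ⟨w, D', hwσ⟩ := key hy hy1 hyM hN' hyN'
  haveI := Fact.mk hwσ.1
  obtain ⟨A, hA, hAe, hA2⟩ := exists_elemAb_compl h.s10 hN' D'.compl D'.tau2
  obtain ⟨-, ⟨hCA, hFA, -⟩, -⟩ := h.s10.compl_structure hN' D'.compl D'.tau2 ⟨hA, hAe, hA2⟩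
  have hAg : cj g A ≤ N := (cj_mono g (hA.trans inf_le_right)).trans hg.le
  obtain ⟨E, hE, hAE⟩ := h.s10.exists_compl_ge hN hAg fun q hq hd => by
    rw [card_cj, hA2] at hd
    rw [Nat.prime_eq_prime_of_dvd_pow hq hwσ.1 hd]
    exact not_sigma_of_nonconj h R hM hN D.nonconj hwσ
  obtain ⟨n, hn, e⟩ := Coprime.exists_conj_hallOf (h.s10.isSolvable_max hN)
    (compl_isPiHallOf (h.s10.sigmaCore_hall N hN).1 hE)
    (compl_isPiHallOf (h.s10.sigmaCore_hall N hN).1 D.compl)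
  obtain ⟨m, hm, c, hc, e'⟩ := (h.s10.sigma_trans M hM _ hwσ A (elemAb_isPGroup hAe)
    (ne_bot_of_card (hA2 ▸ one_lt_pow₀ hwσ.1.one_lt two_ne_zero)) (hA.trans inf_le_left)).1 (n * g)
      (((cj_mul n g A).le.trans ((cj_mono n hAE).trans e.le)).trans inf_le_left)
  refine ⟨m, hm, ?_⟩
  have hcN : cj c N' = N' := cj_eq_of_mem ((hCA.trans hFA.le).trans inf_le_right hc)
  calc cj m N' = cj m (cj c N') := by rw [hcN]
    _ = cj (n * g) N' := by rw [← cj_mul, ← e']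
    _ = N := by rw [cj_mul, hg, cj_eq_of_mem hn]

end Cfsg.Agent.OddOrder.BG14
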