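import Cfsg.Agent.OddOrder.BG13.Main
import Cfsg.Agent.OddOrder.BG13.Instance
import Cfsg.Agent.OddOrder.BG14.Embedded
import Cfsg.Agent.OddOrder.BG14.TildeFacts
import Cfsg.Agent.OddOrder.BG14.Inputs
import Cfsg.Agent.S1350
import Cfsg.Agent.S1425
import Cfsg.Agent.S1429

/-!
# The inputs of BG §14 hold unconditionally
-/

set_option autoImplicit false
set_option linter.unusedSectionVars false

universe u

namespace Cfsg.Agent.OddOrder.BG14

open Subgroup

variable {G : Type u} [Group G] [Finite G] (hG : Cfsg.IsMinSimpleOddOrder G)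
include hG

/-- The results of §13. -/
theorem results13 : BG13.Results G := (BG13.hyp hG).results

/-- Statement shape of S1378: `σ` partitions the prime divisors of `|G|`. -/
theorem sigma_partition :
    (∀ p : ℕ, p.Prime → p ∣ Nat.card G → ∃ M : Subgroup G, IsCoatom M ∧ p ∈ Cfsg.sigma M) ∧
      ∀ M N : Subgroup G, IsCoatom M → IsCoatom N → (Cfsg.sigma M ∩ Cfsg.sigma N).Nonempty →
        ∃ g : G, N = M.map (MulAut.conj g).toMonoidHom := by
  refine ⟨fun p hp hd => ?_, fun M N hM hN hne => (results13 hG).sigma_disjoint M N hM hN hne⟩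
  have : Fact p.Prime := ⟨hp⟩
  obtain ⟨P⟩ : Nonempty (Sylow p G) := inferInstance
  obtain ⟨M, hM, -, hσ, -⟩ := BG11.exists_sigma_maximal hG P fun e => by
    have h1 := P.card_eq_multiplicity
    rw [e, card_bot] at h1
    exact (hp.factorization_pos_of_dvd Nat.card_pos.ne' hd).ne'
      ((Nat.pow_eq_one.mp h1.symm).resolve_left hp.one_lt.ne')
  exact ⟨M, hM, hσ⟩

/-- The inputs of BG 14.5 and 14.6. -/
theorem tildeFacts : TildeFacts G where
  s1350 := fun M hM => S1350.result hG M hM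
  s1374 := fun M hM x hx hx1 =>
    centralizer_complement (BG13.hyp hG) (results13 hG) hM hx hx1
  s1375 := fun M hM x hx hx1 hxM =>
    centralizer_not_le (BG13.hyp hG) (results13 hG) hM hx hx1 hxM
  s1378 := sigma_partition hG
  s1432 := fun M hM x hx hx1 x' hx' hx'1 hσ =>
    sigma_element_cases (BG13.hyp hG) (results13 hG) hM hx hx1 hx' hx'1 hσ
  s1425 := fun M hM Y hY1 hY => S1425.result hG M hM Y hY1 hY

/-- Statement shape of S1430. -/
theorem kappaHall_action {M : Subgroup G} (hM : IsCoatom M) {K : Subgroup G}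
    (hK : Cfsg.IsPiHallOf (Cfsg.kappa M) K M) (hK1 : K ≠ ⊥) :
    (∀ k ∈ K, k ≠ 1 → Cfsg.sigmaCore M ⊓ centralizer ({k} : Set G) =
        Cfsg.sigmaCore M ⊓ centralizer (K : Set G)) ∧
      (∃ U : Subgroup G, IsMulCommutative U ∧ Cfsg.IsPiHallOf (restPrimes M) U M ∧
        K ≤ normalizer (U : Set G) ∧ ∀ k ∈ K, k ≠ 1 → U ⊓ centralizer ({k} : Set G) = ⊥) ∧
      ∀ X : Subgroup G, X ≤ K → (Nat.card X).Prime →
        M ⊓ normalizer (X : Set G) = K ⊔ (Cfsg.sigmaCore M ⊓ centralizer (K : Set G)) ∧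
        M ⊓ normalizer (K : Set G) = K ⊔ (Cfsg.sigmaCore M ⊓ centralizer (K : Set G)) ∧
        ∀ L : Subgroup G, IsCoatom L → normalizer (X : Set G) ≤ L → X ≤ Cfsg.sigmaCore L := by
  have h := BG13.hyp hG
  have R := results13 hG
  obtain ⟨E, U, D⟩ := exists_split h R hM hK
  exact ⟨(kappaHall_semiprime h R hM D hK1).1,
    ⟨U, isMulCommutative_rest h R hM D hK1, D.uHall, D.le.trans D.uNormal,
      inf_centralizer_eq_bot h R hM hK D.uHall.1 fun p hp hd => (D.uHall.2.1 p hp hd).2⟩,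
    fun X hX hXp => ⟨inf_normalizer_eq h R hM hK hK1 hX hXp, inf_normalizer_hall_eq h R hM hK hK1,
      fun L hL hN => (mem_sigma_of_kappa h R hM (hK.2.1 _ hXp (card_dvd_of_le hX)) (hX.trans hK.1)
        rfl hL hN).2.2⟩⟩

/-- The inputs of 14.7 and 14.12. -/
theorem inputs : Inputs G where
  hyp := BG13.hyp hG
  res := results13 hG
  tilde := tildeFacts hG
  s1429 := fun M hM hP1 p _ hpM hp S => S1429.result hG M hM hP1 p hpM hp S
  s1430 := fun M hM K hK hK1 => kappaHall_action hG hM hK hK1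
  s1431 := fun M hM K hK hK1 =>
    ⟨fun _ hg => kappaStar_inf_conj (BG13.hyp hG) (results13 hG) hM hK hK1 hg,
      fun _ hgM hg => kappaHall_inf_conj (BG13.hyp hG) (results13 hG) hM hK hK1 hgM hg,
      fun _ hp hd S => sylow_kappaStar (BG13.hyp hG) (results13 hG) hM hK hK1 hp hd S,
      fun _ hY hne => le_sigmaCore_of_inf_kappaStar (BG13.hyp hG) (results13 hG) hM hK hK1 hY hne⟩

/-- The first half of S1436. -/
theorem embeddingKappa : EmbeddingKappa G := fun _ hM _ hx hx1 hxM _ hN hxN =>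
  (two_maximals (BG13.hyp hG) (results13 hG) hM hx hx1 hxM hN hxN).1

end Cfsg.Agent.OddOrder.BG14
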