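import Cfsg.Agent.OddOrder.BG14.Support

/-!
# The sets x R(x) are pairwise disjoint (Bender-Glauberman 14.5)
-/

set_option autoImplicit false

namespace Cfsg.Agent.OddOrder.BG14

open Subgroup

variable {G : Type*} [Group G] [Finite G]

omit [Finite G] in
/-- A prime dividing the order of a product of commuting elements divides one of the orders. -/
theorem prime_dvd_mul {a b : G} (h : Commute a b) {p : ℕ} (hp : p.Prime)
    (hd : p ∣ orderOf (a * b)) : p ∣ orderOf a ∨ p ∣ orderOf b :=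
  hp.dvd_mul.1 (hd.trans h.orderOf_mul_dvd_mul_orderOf)

omit [Finite G] in
/-- An element whose order involves no prime is the identity. -/
theorem eq_one_of_no_prime {a : G} (h : ∀ p : ℕ, p.Prime → ¬ p ∣ orderOf a) : a = 1 := by
  by_contra ha
  obtain ⟨p, hp, hd⟩ := Nat.exists_prime_and_dvd (fun e => ha (orderOf_eq_one_iff.1 e))
  exact h p hp hd

omit [Finite G] in
/-- If `x r = y s` for commuting elements and the primes of `x, y` avoid those of `r, s`, then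
`x = y`. -/
theorem eq_of_mul_eq {x r y s : G} (hxy : Commute x y) (hrs : Commute r s) 
    (he : x * r = y * s) (π : Set ℕ) (hx : ∀ p : ℕ, p.Prime → p ∣ orderOf x → p ∈ π)
    (hy : ∀ p : ℕ, p.Prime → p ∣ orderOf y → p ∈ π)
    (hr : ∀ p : ℕ, p.Prime → p ∣ orderOf r → p ∉ π)
    (hs : ∀ p : ℕ, p.Prime → p ∣ orderOf s → p ∉ π) : x = y := by
  have e : y⁻¹ * x = s * r⁻¹ := by
    rw [eq_mul_inv_iff_mul_eq, mul_assoc, he, inv_mul_cancel_left]
  refine (inv_mul_eq_one.1 (eq_one_of_no_prime fun p hp hd => ?_)).symm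
  have h1 : p ∈ π := by
    rcases prime_dvd_mul (hxy.symm.inv_left) hp hd with h | h
    · exact hy p hp (orderOf_inv y ▸ h)
    · exact hx p hp h
  rw [e] at hd
  rcases prime_dvd_mul hrs.symm.inv_right hp hd with h | h
  · exact hs p hp h h1
  · exact hr p hp (orderOf_inv r ▸ h) h1

variable {M : Subgroup G}

omit [Finite G] in
theorem supportR_le (M : Subgroup G) (x : G) :
    Cfsg.supportR M x ≤ centralizer ({x} : Set G) :=
  PF8.supportR_le_centralizer M x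

/-- A nontrivial element of `R(x)`: its primes lie in `σ(L)`, which misses `σ(M)`. -/
theorem mem_support_spec (F : TildeFacts G) (hM : IsCoatom M) {x : G}
    (hx : x ∈ Cfsg.sigmaCore M) (hx1 : x ≠ 1) {r : G} (hr : r ∈ Cfsg.supportR M x) (hr1 : r ≠ 1) :
    ∃ L : Subgroup G, IsCoatom L ∧ centralizer ({x} : Set G) ≤ L ∧
      (∀ L' : Subgroup G, IsCoatom L' → centralizer ({x} : Set G) ≤ L' → L' = L) ∧
      r ∈ Cfsg.sigmaCore L ∧ x ∉ Cfsg.sigmaCore L ∧ M ⊓ L ⊓ Cfsg.sigmaCore L = ⊥ ∧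
      (∀ p : ℕ, p ∈ Cfsg.sigma M → p ∉ Cfsg.sigma L) ∧
      ∀ p : ℕ, p.Prime → p ∣ orderOf r → p ∈ Cfsg.sigma L := by
  rcases support_cases F hM hx hx1 with ⟨-, hR⟩ | ⟨L, hL, hxL, -, hu, hR, hxσ, hinf, -⟩
  · rw [hR, mem_bot] at hr
    exact absurd hr hr1
  · rw [hR] at hr
    refine ⟨L, hL, hxL, hu, hr.1, hxσ, hinf, fun p hpM hpL => hxσ ?_,
      fun p hp hd => sigma_of_mem hr.1 hp hd⟩
    obtain ⟨g, rfl⟩ := F.s1378.2 M L hM hL ⟨p, hpM, hpL⟩
    exact mem_sigmaCore_of_primes F hL (hxL (mem_centralizer_self x))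
      fun q hq hd => by rw [sigma_map_conj]; exact sigma_of_mem hx hq hd

theorem coprime_of_support (F : TildeFacts G) (hM : IsCoatom M) {x : G}
    (hx : x ∈ Cfsg.sigmaCore M) (hx1 : x ≠ 1) {r : G} (hr : r ∈ Cfsg.supportR M x) :
    (orderOf x).Coprime (orderOf r) := by
  by_cases hr1 : r = 1
  · rw [hr1, orderOf_one]
    exact Nat.coprime_one_right _
  · obtain ⟨L, -, -, -, -, -, -, hd, hrL⟩ := mem_support_spec F hM hx hx1 hr hr1
    exact Nat.coprime_of_dvd fun p hp h1 h2 => hd p (sigma_of_mem hx hp h1) (hrL p hp h2)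

omit [Finite G] in
theorem commute_of_support {x r : G} (hr : r ∈ Cfsg.supportR M x) : Commute x r :=
  (mem_centralizer_singleton_iff.1 (supportR_le M x hr)).symm

theorem exists_pow_left (F : TildeFacts G) (hM : IsCoatom M) {x : G} (hx : x ∈ Cfsg.sigmaCore M)
    (hx1 : x ≠ 1) {r : G} (hr : r ∈ Cfsg.supportR M x) :
    (∃ k : ℕ, (x * r) ^ k = x) ∧ ∃ k : ℕ, (x * r) ^ k = r := by
  have hc := commute_of_support hr
  have hcop := coprime_of_support F hM hx hx1 hr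
  obtain ⟨k, hk1, hk0⟩ := Nat.chineseRemainder hcop 1 0
  obtain ⟨j, hj0, hj1⟩ := Nat.chineseRemainder hcop 0 1
  exact ⟨⟨k, by rw [hc.mul_pow, pow_eq_pow_iff_modEq.2 hk1, pow_eq_pow_iff_modEq.2 hk0, pow_one,
      pow_zero, mul_one]⟩,
    ⟨j, by rw [hc.mul_pow, pow_eq_pow_iff_modEq.2 hj0, pow_eq_pow_iff_modEq.2 hj1, pow_one,
      pow_zero, one_mul]⟩⟩

omit [Finite G] in
theorem commute_of_pow_eq {z a b : G} (ha : ∃ k : ℕ, z ^ k = a) (hb : ∃ k : ℕ, z ^ k = b) :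
    Commute a b := by
  obtain ⟨k, rfl⟩ := ha
  obtain ⟨j, rfl⟩ := hb
  exact Commute.pow_pow_self z k j

variable {N : Subgroup G}

theorem sigma_eq_of_common (F : TildeFacts G) (hM : IsCoatom M) (hN : IsCoatom N) {p : ℕ}
    (hpM : p ∈ Cfsg.sigma M) (hpN : p ∈ Cfsg.sigma N) : Cfsg.sigma N = Cfsg.sigma M := by
  obtain ⟨g, rfl⟩ := F.s1378.2 M N hM hN ⟨p, hpM, hpN⟩
  exact sigma_map_conj g

/-- The case in which one of the two factors outside is trivial. -/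
theorem eq_of_trivial (F : TildeFacts G) (hM : IsCoatom M) (hN : IsCoatom N) {x y : G}
    (hx : x ∈ Cfsg.sigmaCore M) (hy : y ∈ Cfsg.sigmaCore N) (hy1 : y ≠ 1) {s : G}
    (hs : s ∈ Cfsg.supportR N y) (he : x = y * s) : x = y := by
  by_cases hs1 : s = 1
  · rw [he, hs1, mul_one]
  exfalso
  obtain ⟨L', -, -, -, -, -, -, hd, hsL⟩ := mem_support_spec F hN hy hy1 hs hs1
  obtain ⟨⟨k, hk⟩, ⟨j, hj⟩⟩ := exists_pow_left F hN hy hy1 hs
  rw [← he] at hk hj
  obtain ⟨p, hp, hpy⟩ : ∃ p : ℕ, p.Prime ∧ p ∣ orderOf y :=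
    Nat.exists_prime_and_dvd (fun e => hy1 (orderOf_eq_one_iff.1 e))
  obtain ⟨q, hq, hqs⟩ : ∃ q : ℕ, q.Prime ∧ q ∣ orderOf s :=
    Nat.exists_prime_and_dvd (fun e => hs1 (orderOf_eq_one_iff.1 e))
  have hyx : orderOf y ∣ orderOf x := hk ▸ orderOf_pow_dvd k
  have hsx : orderOf s ∣ orderOf x := hj ▸ orderOf_pow_dvd j
  have e := sigma_eq_of_common F hM hN (sigma_of_mem hx hp (hpy.trans hyx)) (sigma_of_mem hy hp hpy)
  exact hd q (e ▸ sigma_of_mem hx hq (hqs.trans hsx)) (hsL q hq hqs)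

/-- S1433. -/
theorem support_disjoint (F : TildeFacts G) (hM : IsCoatom M) (hN : IsCoatom N) {x y : G}
    (hx : x ∈ Cfsg.sigmaCore M) (hy : y ∈ Cfsg.sigmaCore N) (hx1 : x ≠ 1) (hy1 : y ≠ 1)
    (hxy : x ≠ y) {r : G} (hr : r ∈ Cfsg.supportR M x) {s : G} (hs : s ∈ Cfsg.supportR N y) :
    x * r ≠ y * s := by
  intro he
  by_cases hr1 : r = 1
  · rw [hr1, mul_one] at he
    exact hxy (eq_of_trivial F hM hN hx hy hy1 hs he)
  by_cases hs1 : s = 1
  · rw [hs1, mul_one] at he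
    exact hxy (eq_of_trivial F hN hM hy hx hx1 hr he.symm).symm
  obtain ⟨L, hL, hxL, hu, hrσ, -, hinf, hd, hrL⟩ := mem_support_spec F hM hx hx1 hr hr1
  obtain ⟨L', hL', hyL', hu', hsσ, -, hinf', hd', hsL⟩ := mem_support_spec F hN hy hy1 hs hs1
  obtain ⟨hxz, hrz⟩ := exists_pow_left F hM hx hx1 hr
  obtain ⟨hyz, hsz⟩ := exists_pow_left F hN hy hy1 hs
  rw [← he] at hyz hsz
  have hcxy := commute_of_pow_eq hxz hyz
  have hcrs := commute_of_pow_eq hrz hsz
  have hcys := commute_of_support hs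
  have hdvd : ∀ {w : G}, (∃ k : ℕ, (x * r) ^ k = w) → ∀ p : ℕ, p.Prime → p ∣ orderOf w →
      p ∈ Cfsg.sigma M ∨ p ∈ Cfsg.sigma L := by
    rintro w ⟨k, rfl⟩ p hp hpd
    rcases prime_dvd_mul (commute_of_support hr) hp (hpd.trans (orderOf_pow_dvd k)) with h | h
    · exact Or.inl (sigma_of_mem hx hp h)
    · exact Or.inr (hrL p hp h)
  obtain ⟨p, hp, hpy⟩ : ∃ p : ℕ, p.Prime ∧ p ∣ orderOf y :=
    Nat.exists_prime_and_dvd (fun e => hy1 (orderOf_eq_one_iff.1 e))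
  rcases hdvd hyz p hp hpy with hpM | hpL
  · have e := sigma_eq_of_common F hM hN hpM (sigma_of_mem hy hp hpy)
    exact hxy (eq_of_mul_eq hcxy hcrs he (Cfsg.sigma M) (fun q hq h => sigma_of_mem hx hq h)
      (fun q hq h => e ▸ sigma_of_mem hy hq h) (fun q hq h h' => hd q h' (hrL q hq h))
      (fun q hq h h' => hd' q (e ▸ h') (hsL q hq h)))
  · have e := sigma_eq_of_common F hL hN hpL (sigma_of_mem hy hp hpy)
    have hsM : ∀ q : ℕ, q.Prime → q ∣ orderOf s → q ∈ Cfsg.sigma M := fun q hq h =>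
      (hdvd hsz q hq h).resolve_right fun h' => hd' q (e ▸ h') (hsL q hq h)
    have hxs : x = s := by
      refine eq_of_mul_eq (commute_of_pow_eq hxz hsz) (commute_of_pow_eq hrz hyz)
        (he.trans hcys.eq) (Cfsg.sigma M) (fun q hq h => sigma_of_mem hx hq h) hsM
        (fun q hq h h' => hd q h' (hrL q hq h)) fun q hq h h' => hd q h' ?_
      exact e ▸ sigma_of_mem hy hq h
    have hyr : y = r := by
      rw [hxs] at he
      exact (mul_left_cancel (he.trans hcys.eq)).symm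
    obtain ⟨q, hq, hqs⟩ : ∃ q : ℕ, q.Prime ∧ q ∣ orderOf s :=
      Nat.exists_prime_and_dvd (fun e' => hs1 (orderOf_eq_one_iff.1 e'))
    have e' := sigma_eq_of_common F hM hL' (hsM q hq hqs) (hsL q hq hqs)
    have hxL'σ : x ∈ Cfsg.sigmaCore L' := hxs ▸ hsσ
    have hne : ¬ centralizer ({x} : Set G) ≤ L' := by
      intro h
      have := hu L' hL' h
      subst this
      exact hd q (hsM q hq hqs) (hsL q hq hqs)
    rcases support_cases F hL' hxL'σ hx1 with ⟨h, -⟩ | ⟨L₂, hL₂, hxL₂, -, hu₂, -, -, hinf₂, -⟩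
    · exact hne h
    · rw [← hu₂ L hL hxL] at hinf₂
      have hmem : y ∈ L' ⊓ L ⊓ Cfsg.sigmaCore L :=
        ⟨⟨hyL' (mem_centralizer_self y), hxL (mem_centralizer_singleton_iff.2 hcxy.symm.eq)⟩,
          hyr ▸ hrσ⟩
      rw [hinf₂, mem_bot] at hmem
      exact hy1 hmem

end Cfsg.Agent.OddOrder.BG14
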