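import Cfsg.Agent.OddOrder.BG14.Inputs
import Cfsg.Agent.OddOrder.BG13.Basic
import Cfsg.Agent.OddOrder.BG11.TauTwo
import Cfsg.Agent.OddOrder.BG11.Abelian
import Cfsg.Agent.Coprime.Hall

/-!
# A Hall `κ(M)`-subgroup `K` and `K* = C_{M_σ}(K)`: elementary consequences of 14.2
-/

set_option autoImplicit false

universe u

namespace Cfsg.Agent.OddOrder.BG14

open Subgroup
open Cfsg.Agent.H40 (cj mem_cj cj_mul cj_one conj_mem_cj cj_eq_iff card_cj)

variable {G : Type u} [Group G] [Finite G]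

/-- `K* = M_σ ∩ C_G(K)`. -/
abbrev kStar (M K : Subgroup G) : Subgroup G := Cfsg.sigmaCore M ⊓ centralizer (K : Set G)

/-- `M` is of `κ`-type with Hall `κ(M)`-subgroup `K`. -/
structure KData (M K : Subgroup G) : Prop where
  max : IsCoatom M
  hall : Cfsg.IsPiHallOf (Cfsg.kappa M) K M
  ne_bot : K ≠ ⊥

theorem exists_mem_orderOf_prime {X : Subgroup G} (h : X ≠ ⊥) :
    ∃ x ∈ X, (orderOf x).Prime := by
  obtain ⟨p, hp, hd⟩ := Nat.exists_prime_and_dvd (fun e => h (card_eq_one.mp e))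
  haveI := Fact.mk hp
  obtain ⟨x, hx⟩ := exists_prime_orderOf_dvd_card' (G := ↥X) p hd
  exact ⟨x, x.2, by rwa [orderOf_coe, hx]⟩

/-- A power of prime order, with prime in any given divisor. -/
theorem exists_pow_orderOf_eq {x : G} {p : ℕ} (hp : p.Prime) (h : p ∣ orderOf x) :
    ∃ i : ℕ, orderOf (x ^ i) = p := by
  have h0 : orderOf x ≠ 0 := (orderOf_pos x).ne'
  refine ⟨orderOf x / p, ?_⟩
  rw [orderOf_pow_of_dvd (Nat.div_ne_zero_iff.mpr ⟨hp.ne_zero, Nat.le_of_dvd (Nat.pos_of_ne_zero h0) h⟩)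
    (Nat.div_dvd_of_dvd h), Nat.div_div_self h h0]

theorem exists_hallOf_ge {M U : Subgroup G} {π : Set ℕ} (hs : Group.IsSolvable M) (hU : U ≤ M)
    (hπ : ∀ q : ℕ, q.Prime → q ∣ Nat.card U → q ∈ π) :
    ∃ H : Subgroup G, Cfsg.IsPiHallOf π H M ∧ U ≤ H := by
  obtain ⟨H, hH, hUH⟩ := (Hall.hallDom_of_isSolvable π M).exists_le (U := U.subgroupOf M)
    (fun q hq hd => hπ q hq (hd.trans (dvd_of_eq (Nat.card_congr (subgroupOfEquivOfLe hU).toEquiv))))
  exact ⟨H.map M.subtype, Coprime.isPiHallOf_iff.mpr ⟨map_subtype_le _, by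
    rwa [subgroupOf, comap_map_eq_self_of_injective M.subtype_injective]⟩,
    fun u hu => ⟨⟨u, hU hu⟩, hUH hu, rfl⟩⟩

theorem mem_centralizer_of_mem_kStar {M K : Subgroup G} {k y : G} (hk : k ∈ K)
    (hy : y ∈ kStar M K) : k * y = y * k := mem_centralizer_iff.mp hy.2 k hk

theorem kStar_le_max {M K : Subgroup G} : kStar M K ≤ M := inf_le_left.trans (sigmaCore_le M)

theorem le_centralizer_kStar {M K : Subgroup G} : K ≤ centralizer (kStar M K : Set G) :=
  fun _ hk => mem_centralizer_iff.mpr fun _ hy => (mem_centralizer_of_mem_kStar hk hy).symm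

theorem le_normalizer_kStar {M K : Subgroup G} : K ≤ normalizer (kStar M K : Set G) :=
  le_centralizer_kStar.trans (H41.centralizer_le_normalizer _)

theorem mem_kSup_iff {M K : Subgroup G} {z : G} :
    z ∈ K ⊔ kStar M K ↔ ∃ k ∈ K, ∃ y ∈ kStar M K, z = k * y := by
  constructor
  · intro hz
    rw [sup_comm, Coprime.mem_sup_iff le_normalizer_kStar] at hz
    obtain ⟨y, hy, k, hk, h⟩ := hz
    exact ⟨k, hk, y, hy, by rw [← h, mem_centralizer_of_mem_kStar hk hy]⟩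
  · rintro ⟨k, hk, y, hy, rfl⟩
    exact mul_mem_sup hk hy

namespace KData

variable {M K : Subgroup G} (D : KData M K)
include D

theorem le : K ≤ M := D.hall.1

theorem sup_le_max : K ⊔ kStar M K ≤ M := sup_le D.le kStar_le_max

theorem prime_mem {p : ℕ} (hp : p.Prime) (h : p ∣ Nat.card K) : p ∈ Cfsg.kappa M :=
  D.hall.2.1 p hp h

theorem not_sigma {p : ℕ} (hp : p.Prime) (h : p ∣ Nat.card K) : p ∉ Cfsg.sigma M :=
  (D.prime_mem hp h).2.2.1

theorem dvd_card {p : ℕ} (h : p ∈ Cfsg.kappa M) : p ∣ Nat.card K := by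
  have h1 := BG13.card_mul_relIndex D.le
  exact (h.1.dvd_mul.mp (h1.symm ▸ h.2.1)).resolve_right (D.hall.2.2 p h.1 h)

theorem coprime_sigmaCore : (Nat.card K).Coprime (Nat.card (Cfsg.sigmaCore M)) :=
  Nat.coprime_of_dvd fun _ hp h1 h2 => D.not_sigma hp h1 (sigmaCore_isPiNumber M _ hp h2)

theorem coprime_kStar : (Nat.card K).Coprime (Nat.card (kStar M K)) :=
  D.coprime_sigmaCore.coprime_dvd_right (card_dvd_of_le inf_le_left)

theorem inf_sigmaCore : K ⊓ Cfsg.sigmaCore M = ⊥ := Coprime.inf_eq_bot D.coprime_sigmaCore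

theorem inf_kStar : K ⊓ kStar M K = ⊥ := Coprime.inf_eq_bot D.coprime_kStar

theorem card_sup : Nat.card ↥(K ⊔ kStar M K) = Nat.card (kStar M K) * Nat.card K := by
  rw [sup_comm]
  exact Coprime.card_sup le_normalizer_kStar ((inf_comm _ _).trans D.inf_kStar)

theorem sup_inf_sigmaCore : (K ⊔ kStar M K) ⊓ Cfsg.sigmaCore M = kStar M K := by
  refine le_antisymm (fun z hz => ?_) (le_inf le_sup_right inf_le_left)
  obtain ⟨k, hk, y, hy, rfl⟩ := mem_kSup_iff.mp hz.1
  have hyσ : y ∈ Cfsg.sigmaCore M := hy.1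
  have hzσ : k * y ∈ Cfsg.sigmaCore M := hz.2
  have : k ∈ K ⊓ Cfsg.sigmaCore M := ⟨hk, by simpa using mul_mem hzσ (inv_mem hyσ)⟩
  rw [D.inf_sigmaCore, mem_bot] at this
  rwa [this, one_mul]

/-- An element of `K K*` without `σ(M)`-primes lies in `K`. -/
theorem mem_of_mem_sup {z : G} (hz : z ∈ K ⊔ kStar M K)
    (h : ∀ p : ℕ, p.Prime → p ∣ orderOf z → p ∉ Cfsg.sigma M) : z ∈ K := by
  obtain ⟨k, hk, y, hy, rfl⟩ := mem_kSup_iff.mp hz
  have hc : (orderOf k).Coprime (orderOf y) :=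
    (D.coprime_kStar.coprime_dvd_left (orderOf_dvd_natCard _ hk)).coprime_dvd_right
      (orderOf_dvd_natCard _ hy)
  have ho := (show Commute k y from mem_centralizer_of_mem_kStar hk hy).orderOf_mul_eq_mul_orderOf_of_coprime hc
  rcases eq_or_ne (orderOf y) 1 with h1 | h1
  · rw [orderOf_eq_one_iff.mp h1, mul_one]; exact hk
  · obtain ⟨p, hp, hd⟩ := Nat.exists_prime_and_dvd h1
    exact absurd (sigmaCore_isPiNumber M p hp (hd.trans (orderOf_dvd_natCard _ hy.1)))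
      (h p hp (ho ▸ hd.trans (dvd_mul_left _ _)))

theorem le_of_le_sup {X : Subgroup G} (hX : X ≤ K ⊔ kStar M K)
    (h : ∀ p : ℕ, p.Prime → p ∣ Nat.card X → p ∉ Cfsg.sigma M) : X ≤ K := fun _ hx =>
  D.mem_of_mem_sup (hX hx) fun p hp hd => h p hp (hd.trans (orderOf_dvd_natCard _ hx))

/-- `K` has only one subgroup of each prime order. -/
theorem eq_of_prime_card (F : Inputs G) {X Y : Subgroup G} (hX : X ≤ K) (hY : Y ≤ K)
    (hp : (Nat.card X).Prime) (he : Nat.card Y = Nat.card X) : Y = X := by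
  set p := Nat.card X with hpdef
  haveI := Fact.mk hp
  have hn : Y ≤ normalizer (X : Set G) := by
    have h := ((F.s1430 M D.max K D.hall D.ne_bot).2.2 X hX hp).1
    exact (hY.trans le_sup_left).trans (h.ge.trans inf_le_right)
  have hXp : IsPGroup p X := IsPGroup.of_card (n := 1) (by rw [pow_one])
  have hYp : IsPGroup p Y := IsPGroup.of_card (n := 1) (by rw [pow_one, he])
  obtain ⟨S, hS, hle⟩ := BG11.exists_sylowOf_ge' (hYp.to_sup_of_normal_right' hXp hn)
    ((sup_le hY hX).trans D.le)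
  obtain ⟨T, hT⟩ := BG11.exists_sylow_eq hS
  obtain ⟨hc, -⟩ := (D.prime_mem hp (card_dvd_of_le hX)).2.2.2 T
  have hcS : IsCyclic S := by
    rw [← hT]
    exact isCyclic_of_surjective (equivMapOfInjective (T : Subgroup M) M.subtype M.subtype_injective)
      (MulEquiv.surjective _)
  exact H41.eq_of_card_eq_of_le_cyclic hcS (le_sup_left.trans hle) (le_sup_right.trans hle) he

variable (F : Inputs G)
include F

theorem mem_kStar_of_centralizes {k y : G} (hk : k ∈ K) (hk1 : k ≠ 1)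
    (hy : y ∈ Cfsg.sigmaCore M) (h : k * y = y * k) : y ∈ kStar M K :=
  ((F.s1430 M D.max K D.hall D.ne_bot).1 k hk hk1).le ⟨hy, mem_centralizer_singleton_iff.mpr h.symm⟩

theorem kStar_ne_bot : kStar M K ≠ ⊥ := by
  obtain ⟨k, hk, hkp⟩ := exists_mem_orderOf_prime D.ne_bot
  set p := orderOf k with hp
  haveI := Fact.mk hkp
  obtain ⟨P, hP, hkP⟩ := BG11.exists_sylowOf_ge' (U := zpowers k)
    (IsPGroup.of_card (n := 1) (by rw [Nat.card_zpowers, pow_one]))
    ((zpowers_le.mpr hk).trans D.le)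
  obtain ⟨T, hT⟩ := BG11.exists_sylow_eq hP
  obtain ⟨hc, x, hxT, hx1, y, hy, hy1, hxy⟩ := (D.prime_mem hkp (orderOf_dvd_natCard _ hk)).2.2.2 T
  have hxP : (x : G) ∈ P := hT ▸ ⟨x, hxT, rfl⟩
  have hcP : IsCyclic P := by
    rw [← hT]
    exact isCyclic_of_surjective (equivMapOfInjective (T : Subgroup M) M.subtype M.subtype_injective)
      (MulEquiv.surjective _)
  -- `⟨k⟩` is the subgroup of order `p` of `⟨x⟩`
  obtain ⟨j, hj⟩ := IsPGroup.iff_orderOf.mp hP.2.1 ⟨(x : G), hxP⟩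
  rw [Subgroup.orderOf_mk] at hj
  have hd : p ∣ orderOf (x : G) := by
    rcases j with _ | j
    · exact absurd (Subtype.ext (orderOf_eq_one_iff.mp (hj.trans (pow_zero p)))) hx1
    · exact hj ▸ dvd_pow_self p j.succ_ne_zero
  obtain ⟨i, hi⟩ := exists_pow_orderOf_eq hkp hd
  have heq : zpowers ((x : G) ^ i) = zpowers k :=
    H41.eq_of_card_eq_of_le_cyclic hcP (zpowers_le.mpr (pow_mem hxP i)) hkP
      (by rw [Nat.card_zpowers, Nat.card_zpowers, hi])
  obtain ⟨e, he⟩ := mem_zpowers_iff.mp (heq ▸ mem_zpowers k : k ∈ zpowers ((x : G) ^ i))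
  have hky : k * y = y * k := by
    rw [← he]
    exact (((show Commute (x : G) y from hxy).pow_left i).zpow_left e).eq
  intro h0
  have hk1 : k ≠ 1 := fun e => hkp.ne_one (hp ▸ orderOf_eq_one_iff.mpr e)
  have := D.mem_kStar_of_centralizes F hk hk1 hy hky
  rw [h0, mem_bot] at this
  exact hy1 this

theorem mem_of_conj_mem {g y : G} (hy : y ∈ kStar M K) (hy1 : y ≠ 1) (h : y ∈ cj g M) : g ∈ M := by
  by_contra hg
  have := (F.s1431 M D.max K D.hall D.ne_bot).1 g hg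
  exact hy1 (mem_bot.mp (this ▸ ⟨hy, h⟩ : y ∈ (⊥ : Subgroup G)))

theorem normalizer_le {Y : Subgroup G} (hY : Y ≤ kStar M K) (hY1 : Y ≠ ⊥) :
    normalizer (Y : Set G) ≤ M := fun g hg => by
  obtain ⟨y, hy, hy1⟩ := Y.ne_bot_iff_exists_ne_one.mp hY1 |> fun ⟨y, h⟩ =>
    (⟨y, y.2, fun e => h (Subtype.ext e)⟩ : ∃ y, y ∈ Y ∧ y ≠ 1)
  refine D.mem_of_conj_mem F (hY hy) hy1 ?_
  have h1 : y ∈ cj g Y := (cj_eq_iff.mpr hg).ge hy
  exact map_mono (hY.trans kStar_le_max) h1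

theorem centralizer_le {y : G} (hy : y ∈ kStar M K) (hy1 : y ≠ 1) :
    centralizer ({y} : Set G) ≤ M := by
  rw [← BG13.centralizer_zpowers]
  exact (H41.centralizer_le_normalizer _).trans
    (D.normalizer_le F (zpowers_le.mpr hy) (zpowers_ne_bot.mpr hy1))

theorem inf_normalizer_eq {X : Subgroup G} (hX : X ≤ K) (hp : (Nat.card X).Prime) :
    M ⊓ normalizer (X : Set G) = K ⊔ kStar M K :=
  ((F.s1430 M D.max K D.hall D.ne_bot).2.2 X hX hp).1

theorem inf_centralizer_le {k : G} (hk : k ∈ K) (hk1 : k ≠ 1) :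
    M ⊓ centralizer ({k} : Set G) ≤ K ⊔ kStar M K := by
  obtain ⟨p, hp, hd⟩ := Nat.exists_prime_and_dvd (fun e => hk1 (orderOf_eq_one_iff.mp e))
  obtain ⟨i, hi⟩ := exists_pow_orderOf_eq hp hd
  rw [← D.inf_normalizer_eq F (X := zpowers (k ^ i)) (zpowers_le.mpr (pow_mem hk i))
    (by rwa [Nat.card_zpowers, hi])]
  have hle : centralizer ({k} : Set G) ≤ centralizer (zpowers (k ^ i) : Set G) := by
    intro c hc
    rw [BG13.centralizer_zpowers, mem_centralizer_singleton_iff]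
    exact ((show Commute k c from (mem_centralizer_singleton_iff.mp hc).symm).pow_left i).eq.symm
  exact inf_le_inf_left _ (hle.trans (H41.centralizer_le_normalizer _))

theorem tau13 {X : Subgroup G} (hX : X ≤ K) (hp : (Nat.card X).Prime) :
    Nat.card X ∈ Cfsg.tau1 M ∪ Cfsg.tau3 M :=
  kappa_subset_tau13 M (D.prime_mem hp (card_dvd_of_le hX))

end KData

end Cfsg.Agent.OddOrder.BG14
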