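import Cfsg.Agent.OddOrder.BG14.KappaStructure

/-!
# BG 14.2 (c), (d): intersections with `K*`; `σ(M)`-subgroups are conjugate into `M_σ`
-/

set_option autoImplicit false
set_option linter.style.haveILetI false
set_option linter.unusedSectionVars false
set_option linter.unusedVariables false

universe u

namespace Cfsg.Agent.OddOrder.BG14

open Subgroup H40 BG11

variable {G : Type u} [Group G] [Finite G] (h : BG13.Hyp G) (R : BG13.Results G) {M : Subgroup G}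
include h R

/-- `σ`-primes of nonconjugate maximal subgroups differ. -/
theorem not_sigma_of_nonconj (hM : IsCoatom M) {H : Subgroup G} (hH : IsCoatom H)
    (hne : ∀ g : G, H ≠ cj g M) {p : ℕ} (hp : p ∈ Cfsg.sigma M) : p ∉ Cfsg.sigma H := fun hpH => by
  obtain ⟨g, hg⟩ := R.sigma_disjoint M H hM hH ⟨p, hp, hpH⟩
  exact hne g hg

/-- BG 14.0: a nontrivial `σ(M)`-subgroup is conjugate into `M_σ`. -/
theorem exists_conj_le_sigmaCore (hM : IsCoatom M) {Y : Subgroup G} (hY1 : Y ≠ ⊥)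
    (hY : ∀ p : ℕ, p.Prime → p ∣ Nat.card Y → p ∈ Cfsg.sigma M) :
    ∃ g : G, cj g Y ≤ Cfsg.sigmaCore M := by
  suffices hsuf : ∃ g : G, cj g Y ≤ M by
    obtain ⟨g, hg⟩ := hsuf
    exact ⟨g, h.s10.le_sigmaCore hM hg fun q hq hd => hY q hq (by rwa [card_cj] at hd)⟩
  have hG := h.s10.minSimple
  have hYtop : Y ≠ ⊤ := fun e => by
    obtain ⟨r, hr, hrd⟩ := Nat.exists_prime_and_dvd (fun e' : M.index = 1 => hM.1 (index_eq_one.mp e'))
    have : Fact r.Prime := ⟨hr⟩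
    exact OddOrder.not_dvd_index_of_mem_sigma
      (hY r hr ((hrd.trans M.index_dvd_card).trans (by rw [e, card_top]))) hrd
  have hsol : Group.IsSolvable Y := isSolvable_of_ne_top hG hYtop
  obtain ⟨q, hq, X, hXY, hXn, hXq, hX0⟩ : ∃ q : ℕ, q.Prime ∧ ∃ X : Subgroup G, X ≤ Y ∧
      Y ≤ normalizer (X : Set G) ∧ IsPGroup q X ∧ X ≠ ⊥ := by
    have := hsol
    have : Nontrivial Y := (nontrivial_iff_ne_bot Y).mpr hY1
    obtain ⟨N, q, hN, hN1, hq, hNq, -, -⟩ := Hall.exists_minimal_normal_pgroup (G := Y)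
    exact ⟨q, hq, N.map Y.subtype, map_subtype_le _, Components.le_normalizer_map_subtype _,
      hNq.map _, fun e => hN1 ((map_eq_bot_iff_of_injective _ Y.subtype_injective).mp e)⟩
  haveI := Fact.mk hq
  have hqσ := hY q hq ((BG13.dvd_card_of_pGroup hXq hX0).trans (card_dvd_of_le hXY))
  obtain ⟨g₀, hg₀⟩ : ∃ g : G, cj g X ≤ M := by
    obtain ⟨P, hP⟩ := exists_sylowOf q M
    obtain ⟨S, hS⟩ := BG11.Section10.sylow_top hqσ hP
    obtain ⟨g, hg⟩ := BG11.exists_conj_le (BG11.isSylowOf_top S) hXq le_top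
    exact ⟨g, (hg.2.trans hS.le).trans hP.1⟩
  have hX0' : cj g₀ X ≠ ⊥ := fun e => hX0
    ((map_eq_bot_iff_of_injective _ (MulAut.conj g₀).injective).mp e)
  have hYN : cj g₀ Y ≤ normalizer (cj g₀ X : Set G) :=
    (cj_mono g₀ hXn).trans (BG11.cj_normalizer g₀ X).le
  obtain ⟨H, hH, hNH⟩ := exists_coatom_ge (normalizer_ne_top' hG hX0' (ne_top_of_le_coatom hM hg₀))
  by_cases hHM : H = M
  · exact ⟨g₀, hHM ▸ hYN.trans hNH⟩
  obtain ⟨hnc, -, hcompl⟩ := R.embedding_tau2 M hM q hqσ _ (hXq.map _) hX0' hg₀ H hH hHM hNH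
  obtain ⟨E, hE, hYE⟩ := h.s10.exists_compl_ge hH (hYN.trans hNH) fun p hp hd =>
    not_sigma_of_nonconj h R hM hH hnc (hY p hp (by rwa [card_cj] at hd))
  obtain ⟨m, hm, e⟩ := Coprime.exists_conj_hallOf (h.s10.isSolvable_max hH)
    (compl_isPiHallOf (h.s10.sigmaCore_hall H hH).1 hE)
    (compl_isPiHallOf (h.s10.sigmaCore_hall H hH).1 hcompl)
  exact ⟨m * g₀, (cj_mul m g₀ Y).le.trans (((cj_mono m hYE).trans e.le).trans inf_le_left)⟩

/-- An element of prime order of `K*` has its centralizer in `M` only. -/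
theorem fixed_centralizer (hM : IsCoatom M) {p : ℕ} (hp : p ∈ Cfsg.kappa M) {X : Subgroup G}
    (hXM : X ≤ M) (hX : Nat.card X = p) {z : G} (hz : z ∈ Cfsg.sigmaCore M)
    (hzc : z ∈ centralizer (X : Set G)) (hz1 : z ≠ 1) : centralizer ({z} : Set G) ≤ M := by
  obtain ⟨r, hr, hrd⟩ := Nat.exists_prime_and_dvd (fun e => hz1 (orderOf_eq_one_iff.mp e))
  obtain ⟨i, hi⟩ := exists_pow_prime hrd
  exact (centralizer_singleton_le_pow z i).trans
    (R.fixed_element M hM p (OddOrder.kappa_subset_tau13 M hp) X hXM hX (z ^ i) (pow_mem hz i)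
      (pow_mem hzc i) (hi ▸ hr)).1.1

/-- `K*` meets no other conjugate of `M`. -/
theorem kappaStar_inf_conj (hM : IsCoatom M) {K : Subgroup G}
    (hK : Cfsg.IsPiHallOf (Cfsg.kappa M) K M) (hK1 : K ≠ ⊥) {g : G} (hg : g ∉ M) :
    (Cfsg.sigmaCore M ⊓ centralizer (K : Set G)) ⊓ cj g M = ⊥ := by
  by_contra hne
  obtain ⟨z, ⟨⟨hzs, hzK⟩, hzg⟩, hzp⟩ := exists_prime_elem hne
  haveI := Fact.mk hzp
  obtain ⟨x, hx, hxp⟩ := exists_prime_elem hK1
  have hκ : orderOf x ∈ Cfsg.kappa M := hK.2.1 _ hxp (orderOf_dvd_natCard _ hx)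
  have hCz := fixed_centralizer h R hM hκ (zpowers_le.mpr (hK.1 hx)) (Nat.card_zpowers x) hzs
    (centralizer_le (zpowers_le.mpr hx) hzK)
    (fun e => hzp.ne_one (orderOf_eq_one_iff.mpr e))
  have hzσ : orderOf z ∈ Cfsg.sigma M :=
    sigmaCore_isPiNumber M _ hzp (orderOf_dvd_natCard _ hzs)
  obtain ⟨m, hm, c, hc, e⟩ := (h.s10.sigma_trans M hM _ hzσ (zpowers z)
    (IsPGroup.of_card (n := 1) (by rw [Nat.card_zpowers, pow_one]))
    (fun e => hzp.ne_one (orderOf_eq_one_iff.mpr (zpowers_eq_bot.mp e)))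
    (zpowers_le.mpr (sigmaCore_le M hzs))).1 g⁻¹
      ((cj_mono _ (zpowers_le.mpr hzg)).trans (cj_inv_cj g M).le)
  rw [BG13.centralizer_zpowers] at hc
  exact hg (inv_mem_iff.mp (e.symm ▸ M.mul_mem hm (hCz hc)))

/-- `K` meets no conjugate under `M` outside `K × K*`. -/
theorem kappaHall_inf_conj (hM : IsCoatom M) {K : Subgroup G}
    (hK : Cfsg.IsPiHallOf (Cfsg.kappa M) K M) (hK1 : K ≠ ⊥) {g : G} (hgM : g ∈ M)
    (hg : g ∉ K ⊔ (Cfsg.sigmaCore M ⊓ centralizer (K : Set G))) : K ⊓ cj g K = ⊥ := by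
  by_contra hne
  obtain ⟨z, ⟨hzK, hzg⟩, hzp⟩ := exists_prime_elem hne
  haveI := Fact.mk hzp
  obtain ⟨E, U, D⟩ := exists_split h R hM hK
  obtain ⟨-, hnorm⟩ := kappaHall_semiprime h R hM D hK1
  have hκ : orderOf z ∈ Cfsg.kappa M := hK.2.1 _ hzp (orderOf_dvd_natCard _ hzK)
  have hY : cj g⁻¹ (zpowers z) ≤ K :=
    (cj_mono _ (zpowers_le.mpr hzg)).trans (cj_inv_cj g K).le
  have hXc : Nat.card (zpowers z) = orderOf z := Nat.card_zpowers z
  have hYc : Nat.card ↥(cj g⁻¹ (zpowers z)) = orderOf z := by rw [card_cj, hXc]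
  have heq : cj g⁻¹ (zpowers z) = zpowers z :=
    eq_of_prime_card (ne_two_of_mem_card h.s10.minSimple hκ.2.1) (OddOrder.kappa_pRankLE_one hκ)
      (hY.trans hK.1) (zpowers_le.mpr (hK.1 hzK)) hYc hXc
      (hY.trans (hnorm _ (zpowers_le.mpr hzK) (hXc ▸ hzp)))
  refine hg ?_
  rw [← inf_normalizer_eq h R hM hK hK1 (zpowers_le.mpr hzK) (hXc ▸ hzp)]
  exact ⟨hgM, by simpa using inv_mem (cj_eq_iff.mp heq)⟩

/-- The Sylow subgroups of `M_σ` for the primes of `K*`. -/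
theorem sylow_kappaStar (hM : IsCoatom M) {K : Subgroup G}
    (hK : Cfsg.IsPiHallOf (Cfsg.kappa M) K M) (hK1 : K ≠ ⊥) {p : ℕ} (hp : p.Prime)
    (hd : p ∣ Nat.card ↥(Cfsg.sigmaCore M ⊓ centralizer (K : Set G)))
    (S : Sylow p ↥(Cfsg.sigmaCore M)) :
    Cfsg.InUniqueMaximal ((S : Subgroup ↥(Cfsg.sigmaCore M)).map (Cfsg.sigmaCore M).subtype) ∧
      (S : Subgroup ↥(Cfsg.sigmaCore M)).map (Cfsg.sigmaCore M).subtype ≤ M ∧
      ¬ (S : Subgroup ↥(Cfsg.sigmaCore M)).map (Cfsg.sigmaCore M).subtype ≤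
        Cfsg.sigmaCore M ⊓ centralizer (K : Set G) := by
  haveI := Fact.mk hp
  obtain ⟨⟨z, hz⟩, hzo⟩ := exists_prime_orderOf_dvd_card'
    (G := ↥(Cfsg.sigmaCore M ⊓ centralizer (K : Set G))) p hd
  rw [Subgroup.orderOf_mk] at hzo
  subst hzo
  obtain ⟨x, hx, hxp⟩ := exists_prime_elem hK1
  have hκ : orderOf x ∈ Cfsg.kappa M := hK.2.1 _ hxp (orderOf_dvd_natCard _ hx)
  obtain ⟨-, hU⟩ := R.fixed_element M hM _ (OddOrder.kappa_subset_tau13 M hκ) (zpowers x)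
    (zpowers_le.mpr (hK.1 hx)) (Nat.card_zpowers x) z hz.1 (centralizer_le (zpowers_le.mpr hx) hz.2) hp
  refine ⟨hU S, (map_subtype_le _).trans (sigmaCore_le M), fun hle => ?_⟩
  obtain ⟨H, hH, hNH⟩ := exists_coatom_ge (normalizer_ne_top' h.s10.minSimple
    (BG13.ne_bot_of_prime_card (by rw [Nat.card_zpowers]; exact hxp))
    (ne_top_of_le_coatom hM (zpowers_le.mpr (hK.1 hx))))
  have hSH : (S : Subgroup ↥(Cfsg.sigmaCore M)).map (Cfsg.sigmaCore M).subtype ≤ H :=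
    ((hle.trans inf_le_right).trans ((centralizer_le (zpowers_le.mpr hx)).trans
      (centralizer_le_normalizer _))).trans hNH
  have := ExistsUnique.unique (hU S) ⟨hH, hSH⟩ ⟨hM, (map_subtype_le _).trans (sigmaCore_le M)⟩
  exact (mem_sigma_of_kappa h R hM hκ (zpowers_le.mpr (hK.1 hx)) (Nat.card_zpowers x) hH hNH).2.1 1
    (by rw [cj_one]; exact this)

/-- A `σ(M)`-subgroup meeting `K*` lies in `M_σ`. -/
theorem le_sigmaCore_of_inf_kappaStar (hM : IsCoatom M) {K : Subgroup G}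
    (hK : Cfsg.IsPiHallOf (Cfsg.kappa M) K M) (hK1 : K ≠ ⊥) {Y : Subgroup G}
    (hY : ∀ p : ℕ, p.Prime → p ∣ Nat.card Y → p ∈ Cfsg.sigma M)
    (hne : Y ⊓ (Cfsg.sigmaCore M ⊓ centralizer (K : Set G)) ≠ ⊥) :
    Y ≤ Cfsg.sigmaCore M := by
  obtain ⟨g, hg⟩ := exists_conj_le_sigmaCore h R hM (ne_bot_of_le_ne_bot hne inf_le_left) hY
  have hle : Y ≤ cj g⁻¹ M := le_cj_iff.mpr (by rw [inv_inv]; exact hg.trans (sigmaCore_le M))
  by_cases hgM : g⁻¹ ∈ M
  · exact h.s10.le_sigmaCore hM (hle.trans (cj_eq_of_mem hgM).le) hY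
  · refine absurd (eq_bot_iff.mpr ?_) hne
    rw [← kappaStar_inf_conj h R hM hK hK1 hgM]
    exact le_inf inf_le_right (inf_le_left.trans hle)

end Cfsg.Agent.OddOrder.BG14
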