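import Cfsg.Agent.OddOrder.BG14.KappaHall

/-!
# BG 14.7: the maximal subgroups attached to `Z = K K*`

If `X ≤ K` has prime order and `M*` is a maximal subgroup containing `N_G(X)`, then `M*` has a Hall
`κ(M*)`-subgroup `K₁` containing `K*` with `K₁ K₁* = K K*`.  An *owner* of `Z` is a maximal subgroup
`H` with a Hall `κ(H)`-subgroup `K_H ≠ 1` such that `K_H K_H* = Z`; two owners meet in `Z`.
-/

set_option autoImplicit false

universe u

namespace Cfsg.Agent.OddOrder.BG14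

open Subgroup
open Cfsg.Agent.H40 (cj mem_cj cj_mul cj_one conj_mem_cj cj_eq_iff card_cj)

variable {G : Type u} [Group G] [Finite G]

theorem normalizer_le_of_exists_coatom {X M : Subgroup G}
    (F : Inputs G) (hX : X ≠ ⊥) (hM : IsCoatom M) (hXM : X ≤ M) :
    ∃ L, IsCoatom L ∧ normalizer (X : Set G) ≤ L :=
  BG11.exists_coatom_ge (BG11.normalizer_ne_top' F.minSimple hX (BG11.ne_top_of_le_coatom hM hXM))

/-- Maximal subgroups with disjoint `σ` have cores that meet trivially. -/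
theorem inf_sigmaCore_eq_bot {M N : Subgroup G}
    (h : ∀ p, p ∈ Cfsg.sigma M → p ∉ Cfsg.sigma N) :
    Cfsg.sigmaCore M ⊓ Cfsg.sigmaCore N = ⊥ :=
  Coprime.inf_eq_bot (Nat.coprime_of_dvd fun p hp h1 h2 =>
    h p (sigmaCore_isPiNumber M p hp h1) (sigmaCore_isPiNumber N p hp h2))

/-- `M_σ ∩ N` and `N_σ ∩ M` commute when the cores meet trivially. -/
theorem commute_inf_cores {M N : Subgroup G}
    (h : Cfsg.sigmaCore M ⊓ Cfsg.sigmaCore N = ⊥) {a b : G}
    (ha : a ∈ Cfsg.sigmaCore M ⊓ N) (hb : b ∈ Cfsg.sigmaCore N ⊓ M) : a * b = b * a := by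
  have h1 : a * b * a⁻¹ * b⁻¹ ∈ Cfsg.sigmaCore M ⊓ Cfsg.sigmaCore N := by
    refine mem_inf.mpr ⟨?_, ?_⟩
    · rw [mul_assoc (a * b), mul_assoc a b]
      refine (Cfsg.sigmaCore M).mul_mem ha.1 ?_
      rw [← mul_assoc]
      exact Coprime.conj_mem (le_normalizer_sigmaCore M hb.2) (inv_mem ha.1)
    · exact (Cfsg.sigmaCore N).mul_mem (Coprime.conj_mem (le_normalizer_sigmaCore N ha.2) hb.1)
        (inv_mem hb.1)
  rw [h, mem_bot, mul_inv_eq_one, mul_inv_eq_iff_eq_mul] at h1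
  exact h1

namespace KData

variable {M K : Subgroup G} (D : KData M K) (F : Inputs G)
include D F

/-- A maximal subgroup over the normalizer of `X ≤ K` of prime order has `X ≤ M*_σ`. -/
theorem le_sigmaCore_partner {X M' : Subgroup G} (hX : X ≤ K) (hp : (Nat.card X).Prime)
    (hM' : IsCoatom M') (hNX : normalizer (X : Set G) ≤ M') : X ≤ Cfsg.sigmaCore M' :=
  ((F.s1430 M D.max K D.hall D.ne_bot).2.2 X hX hp).2.2 M' hM' hNX

theorem disjoint_partner {X M' : Subgroup G} (hX : X ≤ K) (hp : (Nat.card X).Prime)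
    (hM' : IsCoatom M') (hNX : normalizer (X : Set G) ≤ M') :
    ∀ q, q ∈ Cfsg.sigma M → q ∉ Cfsg.sigma M' := by
  intro q h1 h2
  obtain ⟨g, rfl⟩ := F.res.sigma_disjoint M M' D.max hM' ⟨q, h1, h2⟩
  refine D.not_sigma hp (card_dvd_of_le hX) ?_
  rw [← sigma_map (MulAut.conj g) M]
  exact sigmaCore_isPiNumber _ _ hp (card_dvd_of_le (D.le_sigmaCore_partner F hX hp hM' hNX))

theorem sup_le_partner {X M' : Subgroup G} (hX : X ≤ K) (hp : (Nat.card X).Prime)
    (hNX : normalizer (X : Set G) ≤ M') : K ⊔ kStar M K ≤ M' :=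
  ((D.inf_normalizer_eq F hX hp).ge.trans inf_le_right).trans hNX

/-- Half of 14.7: `K*` is a `κ(M*)`-subgroup, inside a Hall subgroup with star containing `X`. -/
theorem exists_hall_partner {X M' : Subgroup G} (hX : X ≤ K) (hp : (Nat.card X).Prime)
    (hM' : IsCoatom M') (hNX : normalizer (X : Set G) ≤ M') :
    ∃ K₁, KData M' K₁ ∧ kStar M K ≤ K₁ ∧ X ≤ kStar M' K₁ ∧
      K₁ ≤ K ⊔ kStar M K ∧ kStar M' K₁ = Cfsg.sigmaCore M' ⊓ M ∧
      Cfsg.sigmaCore M ⊓ M' = kStar M K := by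
  have hsup := D.sup_le_partner F hX hp hNX
  have hXs := D.le_sigmaCore_partner F hX hp hM' hNX
  have hdis := D.disjoint_partner F hX hp hM' hNX
  obtain ⟨x, hx, hx1⟩ : ∃ x, x ∈ X ∧ x ≠ 1 := by
    obtain ⟨x, hx, hxp⟩ := exists_mem_orderOf_prime (BG13.ne_bot_of_prime_card hp)
    exact ⟨x, hx, fun e => hxp.ne_one (by rw [e, orderOf_one])⟩
  have hne : M' ≠ M := fun e =>
    D.not_sigma hp (card_dvd_of_le hX) (e ▸ sigmaCore_isPiNumber M' _ hp (card_dvd_of_le hXs))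
  -- the primes of `K*` lie in `κ(M*)`
  have hκ : ∀ q : ℕ, q.Prime → q ∣ Nat.card (kStar M K) → q ∈ Cfsg.kappa M' := by
    intro q hq hd
    haveI := Fact.mk hq
    obtain ⟨⟨y, hy⟩, hyq⟩ := exists_prime_orderOf_dvd_card' (G := ↥(kStar M K)) q hd
    rw [Subgroup.orderOf_mk] at hyq
    have hy1 : y ≠ 1 := fun e => hq.ne_one (by rw [← hyq, e, orderOf_one])
    have hxy : x * y = y * x := mem_centralizer_of_mem_kStar (hX hx) hy
    have hσ : ∀ r : ℕ, r.Prime → r ∣ orderOf y → r ∉ Cfsg.sigma M' := by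
      intro r hr hrd
      rw [hyq, Nat.prime_dvd_prime_iff_eq hr hq] at hrd
      subst hrd
      exact hdis r (sigmaCore_isPiNumber M r hr (hd.trans (card_dvd_of_le inf_le_left)))
    rcases F.tilde.s1432 M' hM' x (hXs hx) hx1 y
      ⟨hsup (mem_sup_right hy), mem_centralizer_singleton_iff.mpr hxy.symm⟩ hy1 hσ with
      ⟨h, -⟩ | ⟨-, -, -, huniq⟩
    · exact h q hq (hyq ▸ dvd_rfl)
    · exact absurd (huniq M D.max (D.centralizer_le F hy hy1)).symm hne
  obtain ⟨K₁, hK₁, hle⟩ := exists_hallOf_ge (isSolvable_max F.minSimple hM')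
    (le_sup_right.trans hsup) hκ
  have D₁ : KData M' K₁ := ⟨hM', hK₁, fun e => D.kStar_ne_bot F (le_bot_iff.mp (e ▸ hle))⟩
  obtain ⟨y, hy, hyp⟩ := exists_mem_orderOf_prime (D.kStar_ne_bot F)
  have hy1 : y ≠ 1 := fun e => hyp.ne_one (by rw [e, orderOf_one])
  have hstar : ∀ a ∈ Cfsg.sigmaCore M', y * a = a * y → a ∈ kStar M' K₁ := fun a ha h =>
    D₁.mem_kStar_of_centralizes F (hle hy) hy1 ha h
  have hXstar : X ≤ kStar M' K₁ := fun a ha =>
    hstar a (hXs ha) (mem_centralizer_of_mem_kStar (hX ha) hy).symm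
  have hT : Cfsg.sigmaCore M ⊓ M' = kStar M K := by
    refine le_antisymm (fun a ha => ?_) (le_inf inf_le_left (le_sup_right.trans hsup))
    have hc := commute_inf_cores (inf_sigmaCore_eq_bot hdis) ha
      (b := x) ⟨hXs hx, D.le (hX hx)⟩
    exact D.mem_kStar_of_centralizes F (hX hx) hx1 ha.1 hc.symm
  have hK₁M : K₁ ≤ M := by
    have hY : zpowers y ≤ K₁ := zpowers_le.mpr (hle hy)
    have hYp : (Nat.card (zpowers y)).Prime := by rwa [Nat.card_zpowers]
    exact ((le_sup_left.trans (D₁.inf_normalizer_eq F hY hYp).ge).trans inf_le_right).trans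
      (D.normalizer_le F (zpowers_le.mpr hy) (zpowers_ne_bot.mpr hy1))
  have hK₁Z : K₁ ≤ K ⊔ kStar M K := by
    rw [← D.inf_normalizer_eq F hX hp]
    exact le_inf hK₁M ((le_centralizer_kStar.trans (Subgroup.centralizer_le (SetLike.coe_subset_coe.mpr hXstar))).trans
      (H41.centralizer_le_normalizer _))
  refine ⟨K₁, D₁, hle, hXstar, hK₁Z, le_antisymm (le_inf inf_le_left fun a ha => ?_) ?_, hT⟩
  · exact D.centralizer_le F hy hy1 (mem_centralizer_singleton_iff.mpr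
      (mem_centralizer_of_mem_kStar (hle hy) ha).symm)
  · intro a ha
    exact hstar a ha.1 (commute_inf_cores (inf_sigmaCore_eq_bot hdis) (hT.ge hy) ha)

/-- **14.7, first step**: the partner has the same `Z`. -/
theorem exists_partner {X M' : Subgroup G} (hX : X ≤ K) (hp : (Nat.card X).Prime)
    (hM' : IsCoatom M') (hNX : normalizer (X : Set G) ≤ M') :
    ∃ K₁, KData M' K₁ ∧ kStar M K ≤ K₁ ∧ X ≤ kStar M' K₁ ∧ kStar M' K₁ ≤ K ∧
      K₁ ⊔ kStar M' K₁ = K ⊔ kStar M K ∧ kStar M' K₁ = Cfsg.sigmaCore M' ⊓ M ∧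
      Cfsg.sigmaCore M ⊓ M' = kStar M K := by
  obtain ⟨K₁, D₁, hle, hXstar, hK₁Z, hS, hT⟩ := D.exists_hall_partner F hX hp hM' hNX
  obtain ⟨y, hy, hyp⟩ := exists_mem_orderOf_prime (D.kStar_ne_bot F)
  have hY : zpowers y ≤ K₁ := zpowers_le.mpr (hle hy)
  have hYp : (Nat.card (zpowers y)).Prime := by rwa [Nat.card_zpowers]
  have hy1 : y ≠ 1 := fun e => hyp.ne_one (by rw [e, orderOf_one])
  obtain ⟨K₂, D₂, hle₂, -, -, -, -⟩ := D₁.exists_hall_partner F hY hYp D.max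
    (D.normalizer_le F (zpowers_le.mpr hy) (zpowers_ne_bot.mpr hy1))
  have hXK₂ : X ≤ K₂ := hXstar.trans hle₂
  have h₂Z : kStar M' K₁ ≤ K ⊔ kStar M K := by
    rw [← D.inf_normalizer_eq F hX hp]
    refine hle₂.trans (le_inf D₂.le ?_)
    exact le_sup_left.trans ((D₂.inf_normalizer_eq F hXK₂ hp).ge.trans inf_le_right)
  have hsK : kStar M' K₁ ≤ K := D.le_of_le_sup h₂Z fun r hr hd hσ =>
    D.disjoint_partner F hX hp hM' hNX r hσ
      (sigmaCore_isPiNumber M' r hr (hd.trans (card_dvd_of_le inf_le_left)))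
  refine ⟨K₁, D₁, hle, hXstar, hsK, le_antisymm (sup_le hK₁Z h₂Z) (sup_le ?_ ?_), hS, hT⟩
  · rw [← D₁.inf_normalizer_eq F hY hYp]
    refine le_inf (le_sup_left.trans (D.sup_le_partner F hX hp hNX)) ?_
    exact (le_centralizer_kStar.trans
      (Subgroup.centralizer_le (SetLike.coe_subset_coe.mpr (zpowers_le.mpr hy)))).trans
      (H41.centralizer_le_normalizer _)
  · exact hle.trans le_sup_left

end KData

/-- `H` is an owner of `Z`. -/
def IsOwner (Z H : Subgroup G) : Prop := ∃ K, KData H K ∧ K ⊔ kStar H K = Z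

theorem KData.isOwner {M K : Subgroup G} (D : KData M K) : IsOwner (K ⊔ kStar M K) M :=
  ⟨K, D, rfl⟩

/-- The part of `Z` belonging to `H`. -/
abbrev part (Z H : Subgroup G) : Subgroup G := Z ⊓ Cfsg.sigmaCore H

namespace IsOwner

variable {Z H H' : Subgroup G} (hO : IsOwner Z H) (F : Inputs G)
include hO

theorem max : IsCoatom H := by obtain ⟨_, D, -⟩ := hO; exact D.max

theorem le : Z ≤ H := by obtain ⟨_, D, e⟩ := hO; exact e ▸ D.sup_le_max

include F

theorem part_ne_bot : part Z H ≠ ⊥ := by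
  obtain ⟨K, D, rfl⟩ := hO
  rw [part, D.sup_inf_sigmaCore]
  exact D.kStar_ne_bot F

theorem eq_of_sigma (hO' : IsOwner Z H') {p : ℕ} (h : p ∈ Cfsg.sigma H) (h' : p ∈ Cfsg.sigma H') :
    H' = H := by
  obtain ⟨g, hg⟩ := F.res.sigma_disjoint H H' hO.max hO'.max ⟨p, h, h'⟩
  have hle := hO'.le
  obtain ⟨K, D, rfl⟩ := hO
  obtain ⟨y, hy, hyp⟩ := exists_mem_orderOf_prime (D.kStar_ne_bot F)
  have hgm : g ∈ H := D.mem_of_conj_mem F hy (fun e => hyp.ne_one (by rw [e, orderOf_one]))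
    (by have h := hle (mem_sup_right hy); rwa [hg] at h)
  rw [hg]
  exact BG11.cj_eq_of_mem hgm

theorem sigma_disjoint (hO' : IsOwner Z H') (hne : H' ≠ H) :
    ∀ p, p ∈ Cfsg.sigma H → p ∉ Cfsg.sigma H' := fun _ h h' => hne (hO.eq_of_sigma F hO' h h')

theorem part_le_hall {K : Subgroup G} (D : KData H K) (e : K ⊔ kStar H K = Z)
    (hO' : IsOwner Z H') (hne : H' ≠ H) : part Z H' ≤ K :=
  D.le_of_le_sup (inf_le_left.trans e.ge) fun p hp hd hσ => hO.sigma_disjoint F hO' hne p hσ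
    (sigmaCore_isPiNumber H' p hp (hd.trans (card_dvd_of_le inf_le_right)))

/-- Two owners meet in `Z`. -/
theorem inf_eq (hO' : IsOwner Z H') (hne : H' ≠ H) : H ⊓ H' = Z := by
  refine le_antisymm (fun d hd => ?_) (le_inf hO.le hO'.le)
  obtain ⟨K, D, e⟩ := hO
  obtain ⟨K', D', e'⟩ := hO'
  have hpart : part Z H = kStar H K := by rw [← e, part, D.sup_inf_sigmaCore]
  have hpart' : part Z H' = kStar H' K' := by rw [← e', part, D'.sup_inf_sigmaCore]
  -- `H` contains the normalizer of a subgroup of prime order of its part, which lies in `K'`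
  obtain ⟨y, hy, hyp⟩ := exists_mem_orderOf_prime (D.kStar_ne_bot F)
  have hyK' : y ∈ K' :=
    part_le_hall ⟨K', D', e'⟩ F D' e' ⟨K, D, e⟩ hne.symm (hpart ▸ hy)
  obtain ⟨K₁, -, -, -, -, -, -, hT⟩ := D'.exists_partner F (X := zpowers y)
    (zpowers_le.mpr hyK') (by rwa [Nat.card_zpowers]) D.max
    (D.normalizer_le F (zpowers_le.mpr hy)
      (zpowers_ne_bot.mpr fun h => hyp.ne_one (by rw [h, orderOf_one])))
  -- `d` normalises the part of `H'`, so each subgroup of prime order of it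
  obtain ⟨x, hx, hxp⟩ := exists_mem_orderOf_prime (D'.kStar_ne_bot F)
  have hxK : zpowers x ≤ K :=
    zpowers_le.mpr (part_le_hall ⟨K, D, e⟩ F D e ⟨K', D', e'⟩ hne (hpart' ▸ hx))
  have hxd : cj d (zpowers x) ≤ K := by
    refine (map_mono (zpowers_le.mpr hx)).trans ?_
    refine le_trans ?_ (part_le_hall ⟨K, D, e⟩ F D e ⟨K', D', e'⟩ hne)
    rw [hpart', ← hT]
    rintro _ ⟨a, ha, rfl⟩
    exact ⟨Coprime.conj_mem (le_normalizer_sigmaCore H' hd.2) ha.1,
      Coprime.conj_mem (le_normalizer hd.1) ha.2⟩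
  have heq := D.eq_of_prime_card F hxK hxd (by rwa [Nat.card_zpowers]) (card_cj d _)
  rw [← e, ← D.inf_normalizer_eq F hxK (by rwa [Nat.card_zpowers])]
  exact ⟨hd.1, cj_eq_iff.mp heq⟩

omit hO

/-- Every prime of `Z` belongs to an owner. -/
theorem exists_owner (hO : IsOwner Z H) {p : ℕ} (hp : p.Prime) (hd : p ∣ Nat.card Z) :
    ∃ H', IsOwner Z H' ∧ p ∈ Cfsg.sigma H' := by
  obtain ⟨K, D, e⟩ := hO
  rw [← e, D.card_sup] at hd
  rcases hp.dvd_mul.mp hd with h | h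
  · exact ⟨H, ⟨K, D, e⟩, sigmaCore_isPiNumber H p hp (h.trans (card_dvd_of_le inf_le_left))⟩
  · haveI := Fact.mk hp
    obtain ⟨⟨x, hx⟩, hxp⟩ := exists_prime_orderOf_dvd_card' (G := ↥K) p h
    rw [Subgroup.orderOf_mk] at hxp
    have hX : zpowers x ≤ K := zpowers_le.mpr hx
    have hXp : (Nat.card (zpowers x)).Prime := by rw [Nat.card_zpowers, hxp]; exact hp
    obtain ⟨L, hL, hNL⟩ := normalizer_le_of_exists_coatom F (BG13.ne_bot_of_prime_card hXp) D.max
      (hX.trans D.le)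
    obtain ⟨K₁, D₁, -, hXs, -, hZ, -, -⟩ := D.exists_partner F hX hXp hL hNL
    refine ⟨L, ⟨K₁, D₁, hZ.trans e⟩, sigmaCore_isPiNumber L p hp ?_⟩
    have h' := card_dvd_of_le (hXs.trans inf_le_left)
    rwa [Nat.card_zpowers, hxp] at h'

/-- Every owner of `Z` has a second one. -/
theorem exists_ne (hO : IsOwner Z H) : ∃ H', IsOwner Z H' ∧ H' ≠ H := by
  obtain ⟨K, D, e⟩ := hO
  obtain ⟨x, hx, hxp⟩ := exists_mem_orderOf_prime D.ne_bot
  obtain ⟨H', hH', hσ⟩ := exists_owner F ⟨K, D, e⟩ hxp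
    (((orderOf_dvd_natCard _ hx).trans (card_dvd_of_le le_sup_left)).trans (dvd_of_eq (by rw [e])))
  exact ⟨H', hH', fun h => D.not_sigma hxp (orderOf_dvd_natCard _ hx) (h ▸ hσ)⟩

end IsOwner

end Cfsg.Agent.OddOrder.BG14
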