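import Cfsg.Agent.OddOrder.BG14.PrimeKappa

/-!
# BG 14.7: the properties of the pair `M`, `M*`

The results have the shapes of S1351, S1366, S1367, S1368, S1369, S1370, S1371 and S1434.
-/

set_option autoImplicit false
set_option linter.style.haveILetI false

universe u

namespace Cfsg.Agent.OddOrder.BG14

open Subgroup
open Cfsg.Agent.H40 (cj mem_cj cj_mul cj_one conj_mem_cj cj_eq_iff card_cj)

variable {G : Type u} [Group G] [Finite G]

/-- `Ẑ = K K* \ (K ∪ K*)`. -/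
abbrev zHat (M K : Subgroup G) : Set G :=
  (↑(K ⊔ kStar M K) : Set G) \ ((K : Set G) ∪ ↑(kStar M K))

theorem kdata_of_decomp {M K U : Subgroup G} (hM : IsCoatom M)
    (h : Cfsg.IsSigmaDecomposition M K U) (hK : K ≠ ⊥) : KData M K := ⟨hM, h.hall, hK⟩

theorem decomp_le {M K U : Subgroup G} (h : Cfsg.IsSigmaDecomposition M K U) : U ≤ M := h.compl.1

/-- `U M_σ` is normal in `M = K U M_σ`. -/
theorem le_normalizer_UMσ {M K U : Subgroup G} (h : Cfsg.IsSigmaDecomposition M K U) :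
    M ≤ normalizer ((U ⊔ Cfsg.sigmaCore M : Subgroup G) : Set G) := by
  have hU := decomp_le h
  have hN := sup_le hU (sigmaCore_le M)
  intro m hm
  obtain ⟨a, ha, b, hb, rfl⟩ := h.compl.2.2.2 m hm
  refine mul_mem (le_normalizer (mem_sup_left ha)) ((sup_le ?_ ?_ :
    K ⊔ Cfsg.sigmaCore M ≤ normalizer ((U ⊔ Cfsg.sigmaCore M : Subgroup G) : Set G)) hb)
  · intro k hk
    refine cj_eq_iff.mp ?_
    show (U ⊔ Cfsg.sigmaCore M).map _ = _
    rw [Subgroup.map_sup]
    exact congrArg₂ (· ⊔ ·) (cj_eq_iff.mpr (h.normal hk))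
      (cj_eq_iff.mpr (le_normalizer_sigmaCore M (h.hall.1 hk)))
  · exact (le_sup_right.trans le_normalizer)

theorem KData.card_mul {M K U : Subgroup G} (D : KData M K)
    (h : Cfsg.IsSigmaDecomposition M K U) :
    Nat.card M = Nat.card U * (Nat.card (Cfsg.sigmaCore M) * Nat.card K) := by
  rw [H41.IsComplIn.card_eq h.compl, sup_comm K (Cfsg.sigmaCore M),
    Coprime.card_sup (D.le.trans (le_normalizer_sigmaCore M))
      ((inf_comm _ _).trans D.inf_sigmaCore)]

/-- `U` has no primes in `σ(M) ∪ κ(M)`. -/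
theorem KData.not_dvd_compl {M K U : Subgroup G} (D : KData M K) (F : Inputs G)
    (h : Cfsg.IsSigmaDecomposition M K U) {q : ℕ} (hq : q.Prime) (hd : q ∣ Nat.card U) :
    q ∉ Cfsg.sigma M ∧ q ∉ Cfsg.kappa M := by
  have hc := D.card_mul h
  refine ⟨fun hσ => ?_, fun hκ => ?_⟩
  · refine (F.tilde.s1350 M D.max).1.2.2 q hq hσ ?_
    have e := BG13.card_mul_relIndex (sigmaCore_le M)
    have : (Cfsg.sigmaCore M).relIndex M = Nat.card U * Nat.card K := by
      have h3 : Nat.card (Cfsg.sigmaCore M) * (Cfsg.sigmaCore M).relIndex M =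
          Nat.card (Cfsg.sigmaCore M) * (Nat.card U * Nat.card K) := by
        rw [e, hc]; ring
      exact Nat.eq_of_mul_eq_mul_left Nat.card_pos h3
    exact this ▸ hd.trans (dvd_mul_right _ _)
  · refine D.hall.2.2 q hq hκ ?_
    have e := BG13.card_mul_relIndex D.le
    have : K.relIndex M = Nat.card U * Nat.card (Cfsg.sigmaCore M) := by
      have h3 : Nat.card K * K.relIndex M =
          Nat.card K * (Nat.card U * Nat.card (Cfsg.sigmaCore M)) := by
        rw [e, hc]; ring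
      exact Nat.eq_of_mul_eq_mul_left Nat.card_pos h3
    exact this ▸ hd.trans (dvd_mul_right _ _)

theorem KData.allKappa_of_bot {M K U : Subgroup G} (D : KData M K)
    (h : Cfsg.IsSigmaDecomposition M K U) (hU : U = ⊥) : AllKappa M := by
  intro q hq hd hσ
  have hc := D.card_mul h
  rw [hU, card_bot, one_mul] at hc
  rcases hq.dvd_mul.mp (hc ▸ hd) with h1 | h1
  · exact absurd (sigmaCore_isPiNumber M q hq h1) hσ
  · exact D.prime_mem hq h1

theorem card_UMσ_dvd {M K U : Subgroup G} (h : Cfsg.IsSigmaDecomposition M K U) :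
    Nat.card ↥(U ⊔ Cfsg.sigmaCore M) ∣ Nat.card (Cfsg.sigmaCore M) * Nat.card U := by
  rw [sup_comm]
  exact BG13.card_sup_dvd ((decomp_le h).trans (le_normalizer_sigmaCore M))

theorem KData.inf_UMσ {M K U : Subgroup G} (D : KData M K) (F : Inputs G)
    (h : Cfsg.IsSigmaDecomposition M K U) : K ⊓ (U ⊔ Cfsg.sigmaCore M) = ⊥ := by
  refine Coprime.inf_eq_bot (Nat.coprime_of_dvd fun q hq h1 h2 => ?_)
  rcases hq.dvd_mul.mp (h2.trans (card_UMσ_dvd h)) with h3 | h3
  · exact D.not_sigma hq h1 (sigmaCore_isPiNumber M q hq h3)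
  · exact (D.not_dvd_compl F h hq h3).2 (D.prime_mem hq h1)

namespace Pair

variable {M K M' : Subgroup G} (P : Pair M K M') (F : Inputs G)
include P

theorem le' : K ≤ Cfsg.sigmaCore M' := P.star.ge.trans inf_le_left

theorem sup_eq : kStar M K ⊔ kStar M' (kStar M K) = K ⊔ kStar M K := by rw [P.star, sup_comm]

theorem owner' : IsOwner (K ⊔ kStar M K) M' := ⟨_, P.data', P.sup_eq⟩

include F

theorem ne : M' ≠ M := fun e => by
  obtain ⟨x, hx, hxp⟩ := exists_mem_orderOf_prime P.data.ne_bot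
  exact P.data.not_sigma hxp (orderOf_dvd_natCard _ hx) (e ▸ sigma_of_mem (P.le' hx) hxp dvd_rfl)

theorem disjoint : ∀ p, p ∈ Cfsg.sigma M → p ∉ Cfsg.sigma M' :=
  P.data.isOwner.sigma_disjoint F P.owner' (P.ne F)

theorem inf_eq : M ⊓ M' = K ⊔ kStar M K := P.data.isOwner.inf_eq F P.owner' (P.ne F)

theorem isMulCommutative : IsMulCommutative ↥(K ⊔ kStar M K) ∧ IsCyclic ↥(K ⊔ kStar M K) := by
  obtain ⟨M₁, P₁, -, -, -, -, hK, hS⟩ := P.data.exists_pair F
  obtain ⟨a, ha⟩ := hK.exists_generator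
  obtain ⟨b, hb⟩ := hS.exists_generator
  have hc : Commute (a : G) b := mem_centralizer_of_mem_kStar a.2 b.2
  have ho : (orderOf (a : G)).Coprime (orderOf (b : G)) :=
    (P.data.coprime_kStar.coprime_dvd_left (orderOf_dvd_natCard _ a.2)).coprime_dvd_right
      (orderOf_dvd_natCard _ b.2)
  have hcyc : IsCyclic ↥(K ⊔ kStar M K) := by
    refine isCyclic_of_orderOf_eq_card ⟨(a : G) * b, mul_mem_sup a.2 b.2⟩ ?_
    rw [Subgroup.orderOf_mk, hc.orderOf_mul_eq_mul_orderOf_of_coprime ho, P.data.card_sup,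
      orderOf_coe, orderOf_coe, orderOf_eq_card_of_forall_mem_zpowers ha,
      orderOf_eq_card_of_forall_mem_zpowers hb, mul_comm]
  haveI := hcyc
  exact ⟨inferInstance, hcyc⟩

theorem le_centralizer_of_mem {a : G} (ha : a ∈ K ⊔ kStar M K) :
    K ⊔ kStar M K ≤ centralizer ({a} : Set G) := fun z hz =>
  mem_centralizer_singleton_iff.mpr
    (congrArg Subtype.val (((P.isMulCommutative F).1).is_comm.comm ⟨z, hz⟩ ⟨a, ha⟩))

omit F in
/-- A component of an element of `K K*`. -/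
theorem exists_pow {k y : G} (hk : k ∈ K) (hy : y ∈ kStar M K) :
    (∃ i : ℕ, (k * y) ^ i = k) ∧ ∃ i : ℕ, (k * y) ^ i = y := by
  have hc : Commute k y := mem_centralizer_of_mem_kStar hk hy
  have ho : (orderOf k).Coprime (orderOf y) :=
    (P.data.coprime_kStar.coprime_dvd_left (orderOf_dvd_natCard _ hk)).coprime_dvd_right
      (orderOf_dvd_natCard _ hy)
  obtain ⟨i, hi1, hi0⟩ := Nat.chineseRemainder ho 1 0
  obtain ⟨j, hj0, hj1⟩ := Nat.chineseRemainder ho 0 1
  refine ⟨⟨i, ?_⟩, j, ?_⟩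
  · rw [hc.mul_pow, pow_eq_pow_iff_modEq.mpr hi1, pow_eq_pow_iff_modEq.mpr hi0, pow_one, pow_zero,
      mul_one]
  · rw [hc.mul_pow, pow_eq_pow_iff_modEq.mpr hj0, pow_eq_pow_iff_modEq.mpr hj1, pow_one, pow_zero,
      one_mul]

omit F in
theorem mem_zHat_iff {z : G} : z ∈ zHat M K ↔
    ∃ k ∈ K, k ≠ 1 ∧ ∃ y ∈ kStar M K, y ≠ 1 ∧ z = k * y := by
  constructor
  · rintro ⟨hz, hn⟩
    obtain ⟨k, hk, y, hy, rfl⟩ := mem_kSup_iff.mp hz
    refine ⟨k, hk, fun e => hn (Or.inr ?_), y, hy, fun e => hn (Or.inl ?_), rfl⟩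
    · rw [e, one_mul]; exact hy
    · rw [e, mul_one]; exact hk
  · rintro ⟨k, hk, hk1, y, hy, hy1, rfl⟩
    refine ⟨mul_mem_sup hk hy, ?_⟩
    rintro (h | h)
    · have h' : y ∈ K ⊓ kStar M K := ⟨by simpa using mul_mem (inv_mem hk) h, hy⟩
      rw [P.data.inf_kStar, mem_bot] at h'
      exact hy1 h'
    · have h' : k ∈ K ⊓ kStar M K := ⟨hk, by simpa using mul_mem h (inv_mem hy)⟩
      rw [P.data.inf_kStar, mem_bot] at h'
      exact hk1 h'

theorem zHat_eq : zHat M K = zHatOf (K ⊔ kStar M K) := by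
  obtain ⟨M₁, P₁, hO₁, -, hall, -⟩ := P.data.exists_pair F
  have hp : part (K ⊔ kStar M K) M = kStar M K := P.data.sup_inf_sigmaCore
  have hp' : part (K ⊔ kStar M K) M' = K := by
    rw [part, ← P.sup_eq, P.data'.sup_inf_sigmaCore, P.star]
  have hM₁ : M₁ = M' := by
    rcases hall M' P.owner' with h | h
    · exact absurd h (P.ne F)
    · exact h.symm
  ext z
  constructor
  · rintro ⟨hz, hn⟩
    refine ⟨hz, fun H hH => ?_⟩
    rcases hall H hH with rfl | rfl
    · rw [hp]; exact fun h => hn (Or.inr h)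
    · rw [hM₁, hp']; exact fun h => hn (Or.inl h)
  · rintro ⟨hz, hn⟩
    refine ⟨hz, ?_⟩
    rintro (h | h)
    · exact hn M' P.owner' (hp'.symm ▸ h)
    · exact hn M P.data.isOwner (hp.symm ▸ h)

theorem inf_centralizer_eq {x : G} (hx : x ∈ K) (hx1 : x ≠ 1) :
    M ⊓ centralizer ({x} : Set G) = K ⊔ kStar M K :=
  le_antisymm (P.data.inf_centralizer_le F hx hx1)
    (le_inf P.data.sup_le_max (P.le_centralizer_of_mem F (mem_sup_left hx)))

theorem inf_centralizer_eq' {y : G} (hy : y ∈ kStar M K) (hy1 : y ≠ 1) :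
    M' ⊓ centralizer ({y} : Set G) = K ⊔ kStar M K := by
  refine le_antisymm ?_ (le_inf P.owner'.le (P.le_centralizer_of_mem F (mem_sup_right hy)))
  exact (P.data'.inf_centralizer_le F hy hy1).trans P.sup_eq.le

theorem centralizer_zHat {x y : G} (hx : x ∈ K) (hx1 : x ≠ 1) (hy : y ∈ kStar M K) (hy1 : y ≠ 1) :
    centralizer ({x * y} : Set G) = K ⊔ kStar M K := by
  refine le_antisymm (fun c hc => ?_) (P.le_centralizer_of_mem F (mul_mem_sup hx hy))
  obtain ⟨⟨i, hi⟩, j, hj⟩ := P.exists_pow hx hy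
  have hcc : Commute c (x * y) := mem_centralizer_singleton_iff.mp hc
  have h1 : c ∈ centralizer ({x} : Set G) :=
    mem_centralizer_singleton_iff.mpr (hi ▸ (hcc.pow_right i).eq)
  have h2 : c ∈ centralizer ({y} : Set G) :=
    mem_centralizer_singleton_iff.mpr (hj ▸ (hcc.pow_right j).eq)
  exact P.data.inf_centralizer_le F hx hx1 ⟨P.data.centralizer_le F hy hy1 h2, h1⟩

theorem not_mem_conj {g : G} (hg : g ∉ M) {z : G} (hz : z ∈ zHat M K) : z ∉ cj g M := by
  intro h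
  obtain ⟨k, hk, -, y, hy, hy1, rfl⟩ := P.mem_zHat_iff.mp hz
  obtain ⟨-, j, hj⟩ := P.exists_pow hk hy
  exact hg (P.data.mem_of_conj_mem F hy hy1 (hj ▸ pow_mem h j))

theorem mem_of_conj_mem_zHat {z g : G} (hz : z ∈ zHat M K) (hg : g * z * g⁻¹ ∈ K ⊔ kStar M K) :
    g ∈ K ⊔ kStar M K :=
  P.data.isOwner.mem_of_conj_mem_zHat F (P.zHat_eq F ▸ hz) hg

theorem conj_mem_zHat {n z : G} (hn : n ∈ K ⊔ kStar M K) (hz : z ∈ zHat M K) :
    n * z * n⁻¹ ∈ zHat M K :=
  P.zHat_eq F ▸ P.data.isOwner.conj_mem_zHat hn (P.zHat_eq F ▸ hz)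

theorem zHat_nonempty : (zHat M K).Nonempty := by
  obtain ⟨k, hk, hkp⟩ := exists_mem_orderOf_prime P.data.ne_bot
  obtain ⟨y, hy, hyp⟩ := exists_mem_orderOf_prime (P.data.kStar_ne_bot F)
  exact ⟨k * y, P.mem_zHat_iff.mpr ⟨k, hk, fun e => hkp.ne_one (by rw [e, orderOf_one]), y, hy,
    fun e => hyp.ne_one (by rw [e, orderOf_one]), rfl⟩⟩

theorem ncard_zHat : (zHat M K).ncard =
    Nat.card K * Nat.card (kStar M K) - Nat.card K - Nat.card (kStar M K) + 1 := by
  have hsub : ((K : Set G) ∪ ↑(kStar M K)) ⊆ ↑(K ⊔ kStar M K) :=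
    Set.union_subset (SetLike.coe_subset_coe.mpr le_sup_left) (SetLike.coe_subset_coe.mpr le_sup_right)
  have h1 := Set.ncard_union_add_ncard_inter (K : Set G) ↑(kStar M K)
  rw [← coe_inf, P.data.inf_kStar, coe_bot, Set.ncard_singleton, ← Nat.card_coe_set_eq (K : Set G),
    ← Nat.card_coe_set_eq (kStar M K : Set G)] at h1
  have h2 := Set.ncard_sdiff hsub
  rw [← Nat.card_coe_set_eq (↑(K ⊔ kStar M K) : Set G)] at h2
  have h3 : Nat.card ↥(K ⊔ kStar M K) = Nat.card K * Nat.card (kStar M K) := by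
    rw [P.data.card_sup, mul_comm]
  change (zHat M K).ncard = Nat.card ↥(K ⊔ kStar M K) - ((K : Set G) ∪ ↑(kStar M K)).ncard at h2
  change ((K : Set G) ∪ ↑(kStar M K)).ncard + 1 = Nat.card K + Nat.card (kStar M K) at h1
  rw [h2, h3]
  have h4 : ((K : Set G) ∪ ↑(kStar M K)).ncard ≤ Nat.card ↥(K ⊔ kStar M K) := by
    rw [← SetLike.coe_sort_coe, Nat.card_coe_set_eq]
    exact Set.ncard_le_ncard hsub
  have hlb : ∀ X : Subgroup G, X ≠ ⊥ → 2 ≤ Nat.card X := fun X hX =>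
    (one_lt_card_iff_ne_bot X).mpr hX
  have hle := Nat.add_le_mul (hlb K P.data.ne_bot) (hlb _ (P.data.kStar_ne_bot F))
  omega

theorem ncard_conj : Nat.card K * Nat.card (kStar M K) *
      Set.ncard {a : G | ∃ g : G, ∃ z ∈ zHat M K, a = g * z * g⁻¹} =
    (Nat.card K * Nat.card (kStar M K) - Nat.card K - Nat.card (kStar M K) + 1) * Nat.card G ∧
    Nat.card G < 2 * Set.ncard {a : G | ∃ g : G, ∃ z ∈ zHat M K, a = g * z * g⁻¹} := by
  rw [ncard_conj_ti (zHat M K) (K ⊔ kStar M K) (fun n hn z hz => P.conj_mem_zHat F hn hz)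
    (fun g z hz h => P.mem_of_conj_mem_zHat F hz h.1)]
  have hZ := (K ⊔ kStar M K).card_mul_index
  rw [P.data.card_sup] at hZ
  rw [P.ncard_zHat F]
  have hlb : ∀ X : Subgroup G, X ≠ ⊥ → 3 ≤ Nat.card X := by
    intro X hX
    obtain ⟨m, hm⟩ := OddOrder.odd_card F.minSimple X
    have : Nat.card X ≠ 1 := fun e => hX (card_eq_one.mp e)
    omega
  have hk := hlb K P.data.ne_bot
  have hs := hlb _ (P.data.kStar_ne_bot F)
  set k := Nat.card K
  set s := Nat.card (kStar M K)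
  set i := (K ⊔ kStar M K).index
  have hne : k ≠ s := fun e => by
    have h := P.data.coprime_kStar
    change k.Coprime s at h
    rw [e, Nat.coprime_self] at h
    omega
  have hodd : Odd k := OddOrder.odd_card F.minSimple K
  have hodd' : Odd s := OddOrder.odd_card F.minSimple (kStar M K)
  have hle : k + s ≤ k * s := by nlinarith
  obtain ⟨n, hn⟩ : ∃ n, k * s = k + s + n := ⟨k * s - (k + s), by omega⟩
  have he : k * s - k - s + 1 = n + 1 := by omega
  refine ⟨by rw [he, ← hZ]; ring, ?_⟩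
  rw [he, ← hZ]
  have hi : 0 < i := Nat.pos_of_ne_zero index_ne_zero_of_finite
  have h5 : k * s < 2 * (n + 1) := by
    obtain ⟨a, ha⟩ := hodd
    obtain ⟨b, hb⟩ := hodd'
    rcases Nat.lt_or_ge k s with hlt | hge
    · have h6 : 1 * 3 ≤ (k - 2) * (s - 2) := Nat.mul_le_mul (by omega) (by omega)
      obtain ⟨c, hc⟩ : ∃ c, k = c + 2 := ⟨k - 2, by omega⟩
      obtain ⟨d, hd⟩ : ∃ d, s = d + 2 := ⟨s - 2, by omega⟩
      rw [show k - 2 = c by omega, show s - 2 = d by omega] at h6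
      rw [hc, hd] at hn ⊢
      nlinarith
    · have h6 : 3 * 1 ≤ (k - 2) * (s - 2) := Nat.mul_le_mul (by omega) (by omega)
      obtain ⟨c, hc⟩ : ∃ c, k = c + 2 := ⟨k - 2, by omega⟩
      obtain ⟨d, hd⟩ : ∃ d, s = d + 2 := ⟨s - 2, by omega⟩
      rw [show k - 2 = c by omega, show s - 2 = d by omega] at h6
      rw [hc, hd] at hn ⊢
      nlinarith
  nlinarith

omit F in
theorem sigma_of_dvd {p : ℕ} (hp : p.Prime) (h : p ∣ Nat.card ↥(K ⊔ kStar M K)) :
    p ∈ Cfsg.sigma M ∨ p ∈ Cfsg.sigma M' := by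
  rw [P.data.card_sup] at h
  rcases hp.dvd_mul.mp h with h | h
  · exact Or.inl (sigmaCore_isPiNumber M p hp (h.trans (card_dvd_of_le inf_le_left)))
  · exact Or.inr (sigmaCore_isPiNumber M' p hp (h.trans (card_dvd_of_le P.le')))

theorem exists_conj_of_kappa {H : Subgroup G} (hH : IsCoatom H) (hne : (Cfsg.kappa H).Nonempty) :
    ∃ g : G, H = M.map (MulAut.conj g).toMonoidHom ∨ H = M'.map (MulAut.conj g).toMonoidHom := by
  obtain ⟨KH, hKH, -⟩ := exists_hallOf_ge (π := Cfsg.kappa H) (isSolvable_max F.minSimple hH)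
    (bot_le : (⊥ : Subgroup G) ≤ H) (fun q hq hd => absurd (card_bot (G := G) ▸ hd) hq.not_dvd_one)
  obtain ⟨p, hp⟩ := hne
  have hKH1 : KH ≠ ⊥ := fun e => by
    have h1 := BG13.card_mul_relIndex hKH.1
    rw [e, card_bot, one_mul] at h1
    exact (e ▸ hKH).2.2 p hp.1 hp (h1 ▸ hp.2.1)
  obtain ⟨H', Q, -⟩ := (⟨hH, hKH, hKH1⟩ : KData H KH).exists_pair F
  -- two conjugate elements of the two sets
  obtain ⟨z, hz, z', hz', t, ht⟩ : ∃ z ∈ zHat M K, ∃ z' ∈ zHat H KH, ∃ t : G, z' = t * z * t⁻¹ := by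
    by_contra hno
    push Not at hno
    set A := {a : G | ∃ g : G, ∃ z ∈ zHat M K, a = g * z * g⁻¹}
    set B := {a : G | ∃ g : G, ∃ z ∈ zHat H KH, a = g * z * g⁻¹}
    have hdisj : Disjoint A B := by
      rw [Set.disjoint_left]
      rintro a ⟨g, z, hz, rfl⟩ ⟨g', z', hz', he⟩
      refine hno z hz z' hz' (g'⁻¹ * g) ?_
      calc z' = g'⁻¹ * (g' * z' * g'⁻¹) * g' := by group
        _ = g'⁻¹ * (g * z * g⁻¹) * g' := by rw [he]
        _ = _ := by group
    have h1 := Set.ncard_union_eq hdisj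
    have h2 : Nat.card G < 2 * A.ncard := (P.ncard_conj F).2
    have h3 : Nat.card G < 2 * B.ncard := (Q.ncard_conj F).2
    have h4 : (A ∪ B).ncard ≤ Nat.card G := by
      rw [← Set.ncard_univ]; exact Set.ncard_le_ncard (Set.subset_univ _)
    omega
  obtain ⟨q, hq, hqd, hqσ⟩ : ∃ q : ℕ, q.Prime ∧ q ∣ orderOf z' ∧ q ∈ Cfsg.sigma H := by
    by_contra hno
    push Not at hno
    exact hz'.2 (Or.inl (Q.data.mem_of_mem_sup hz'.1 hno))
  rw [ht, show orderOf (t * z * t⁻¹) = orderOf z from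
    orderOf_injective (MulAut.conj t).toMonoidHom (MulAut.conj t).injective z] at hqd
  rcases P.sigma_of_dvd hq (hqd.trans (orderOf_dvd_natCard _ hz.1)) with h | h
  · obtain ⟨g, hg⟩ := F.res.sigma_disjoint M H P.data.max hH ⟨q, h, hqσ⟩
    exact ⟨g, Or.inl hg⟩
  · obtain ⟨g, hg⟩ := F.res.sigma_disjoint M' H P.data'.max hH ⟨q, h, hqσ⟩
    exact ⟨g, Or.inr hg⟩

/-- `K*` is a Hall `σ(M)`-subgroup of `M*`. -/
theorem hall_sigma : Cfsg.IsPiHallOf (Cfsg.sigma M) (kStar M K) M' := by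
  have hprimes : ∀ q : ℕ, q.Prime → q ∣ Nat.card (kStar M K) → q ∈ Cfsg.sigma M := fun q hq hd =>
    sigmaCore_isPiNumber M q hq (hd.trans (card_dvd_of_le inf_le_left))
  have hle : kStar M K ≤ M' := P.data'.le
  obtain ⟨H, hH, hKH⟩ := exists_hallOf_ge (isSolvable_max F.minSimple P.data'.max) hle hprimes
  have hne : H ⊓ kStar M K ≠ ⊥ := by
    rw [inf_eq_right.mpr hKH]; exact P.data.kStar_ne_bot F
  have hsub : H ≤ Cfsg.sigmaCore M :=
    (F.s1431 M P.data.max K P.data.hall P.data.ne_bot).2.2.2 H hH.2.1 hne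
  have : H = kStar M K := by
    refine le_antisymm ?_ hKH
    rw [← P.data.sup_inf_sigmaCore, ← P.inf_eq F]
    exact le_inf (le_inf (hsub.trans (sigmaCore_le M)) hH.1) hsub
  exact this ▸ hH

omit P in
theorem kappa_eq_tau1 {U : Subgroup G} (P : Pair M K M') (h : Cfsg.IsSigmaDecomposition M K U) :
    Cfsg.kappa M = Cfsg.tau1 M := by
  obtain ⟨-, hcyc⟩ := P.isMulCommutative F
  set N := U ⊔ Cfsg.sigmaCore M
  have hNM : N ≤ M := sup_le (decomp_le h) (sigmaCore_le M)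
  have hder : ⁅M, M⁆ ≤ N := by
    have hMle : M ≤ N ⊔ K := fun m hm => by
      obtain ⟨a, ha, b, hb, rfl⟩ := h.compl.2.2.2 m hm
      exact mul_mem (mem_sup_left (mem_sup_left ha))
        ((sup_le le_sup_right (le_sup_right.trans le_sup_left) :
          K ⊔ Cfsg.sigmaCore M ≤ N ⊔ K) hb)
    refine (BG13.derived_le_sup hNM (le_normalizer_UMσ h) P.data.le hMle).trans (sup_le le_rfl ?_)
    refine commutator_le.mpr fun a ha b hb => ?_
    haveI := h.cyclic
    have hab : a * b = b * a := congrArg Subtype.val (mul_comm' (⟨a, ha⟩ : K) ⟨b, hb⟩)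
    rw [commutatorElement_eq_one_iff_mul_comm.mpr hab]
    exact one_mem _
  ext p
  constructor
  · intro hp
    refine ⟨hp.1, hp.2.2.1, hp.2.1, fun hd => ?_, kappa_pRankLE_one hp⟩
    haveI := Fact.mk hp.1
    obtain ⟨x, hx⟩ := exists_prime_orderOf_dvd_card' (G := ↥⁅M, M⁆) p hd
    have hxM : (x : G) ∈ M := hNM (hder x.2)
    have hxp : orderOf (x : G) = p := by rw [orderOf_coe, hx]
    obtain ⟨S, hS, hxS⟩ := BG11.exists_sylowOf_ge' (U := zpowers (x : G))
      (IsPGroup.of_card (n := 1) (by rw [Nat.card_zpowers, hxp, pow_one])) (zpowers_le.mpr hxM)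
    have hd' : p ∣ Nat.card N :=
      hxp ▸ orderOf_dvd_natCard N (hder x.2)
    have hd'' := hd'.trans (card_UMσ_dvd h)
    rcases hp.1.dvd_mul.mp hd'' with h1 | h1
    · exact hp.2.2.1 (sigmaCore_isPiNumber M p hp.1 h1)
    · exact (P.data.not_dvd_compl F h hp.1 h1).2 hp
  · rintro ⟨hp, hσ, hd, hder', -⟩
    by_contra hκ
    have hpU : p ∣ Nat.card U := by
      rw [P.data.card_mul h] at hd
      rcases hp.dvd_mul.mp hd with h1 | h1
      · exact h1
      · rcases hp.dvd_mul.mp h1 with h2 | h2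
        · exact absurd (sigmaCore_isPiNumber M p hp h2) hσ
        · exact absurd (P.data.prime_mem hp h2) hκ
    refine hder' (hpU.trans (card_dvd_of_le ?_))
    obtain ⟨k, hk, hkp⟩ := exists_mem_orderOf_prime P.data.ne_bot
    have hk1 : k ≠ 1 := fun e => hkp.ne_one (by rw [e, orderOf_one])
    let f : U → U := fun u => ⟨k * u * k⁻¹ * (u : G)⁻¹,
      mul_mem ((mem_normalizer_iff.mp (h.normal hk) _).mp u.2) (inv_mem u.2)⟩
    have hf : Function.Injective f := by
      intro u v huv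
      have he : k * u * k⁻¹ * (u : G)⁻¹ = k * v * k⁻¹ * (v : G)⁻¹ := congrArg Subtype.val huv
      have hw : k * ((v : G)⁻¹ * u) = ((v : G)⁻¹ * u) * k := by
        calc k * ((v : G)⁻¹ * u) = (k * v * k⁻¹ * (v:G)⁻¹ * v)⁻¹ * (k * u * k⁻¹ * (u:G)⁻¹ * u) * k := by
              group
          _ = _ := by rw [he]; group
      have hmem : (v : G)⁻¹ * u ∈ M ⊓ centralizer ({k} : Set G) :=
        ⟨decomp_le h (mul_mem (inv_mem v.2) u.2), mem_centralizer_singleton_iff.mpr hw.symm⟩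
      have hZ := P.data.inf_centralizer_le F hk hk1 hmem
      have hU1 : (v : G)⁻¹ * u ∈ U := mul_mem (inv_mem v.2) u.2
      have hK1 := P.data.mem_of_mem_sup hZ fun q hq hd =>
        (P.data.not_dvd_compl F h hq (hd.trans (orderOf_dvd_natCard _ hU1))).1
      have h1 : (v : G)⁻¹ * u ∈ K ⊓ (U ⊔ Cfsg.sigmaCore M) := ⟨hK1, mem_sup_left hU1⟩
      rw [P.data.inf_UMσ F h, mem_bot, inv_mul_eq_one] at h1
      exact Subtype.ext h1.symm
    intro u hu
    obtain ⟨v, hv⟩ := Finite.injective_iff_surjective.mp hf ⟨u, hu⟩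
    have he : k * v * k⁻¹ * (v : G)⁻¹ = u := congrArg Subtype.val hv
    rw [← he]
    exact commutator_mem_commutator (P.data.le hk) (decomp_le h v.2)

theorem unique_maximal {X : Subgroup G} (hX : X ≤ kStar M K) (hp : (Nat.card X).Prime) :
    centralizer (X : Set G) ≤ M ∧
      ∀ L : Subgroup G, IsCoatom L → centralizer (X : Set G) ≤ L → L = M := by
  obtain ⟨z, hz, hzp⟩ := exists_mem_orderOf_prime (BG13.ne_bot_of_prime_card hp)
  obtain ⟨k, hk, hkp⟩ := exists_mem_orderOf_prime P.data.ne_bot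
  have hY : zpowers k ≤ K := zpowers_le.mpr hk
  have hYp : (Nat.card (zpowers k)).Prime := by rwa [Nat.card_zpowers]
  have h := (F.res.fixed_element M P.data.max _ (P.data.tau13 F hY hYp) (zpowers k)
    (hY.trans P.data.le) rfl z (hX hz).1
    (by rw [BG13.centralizer_zpowers, mem_centralizer_singleton_iff]
        exact (mem_centralizer_of_mem_kStar hk (hX hz)).symm) hzp).1
  rwa [← BG13.centralizer_zpowers,
    BG13.zpowers_eq_of_prime_card hp hz (fun e => hzp.ne_one (by rw [e, orderOf_one]))] at h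

theorem unique_maximal' {Y : Subgroup G} (hY : Y ≤ K) (hp : (Nat.card Y).Prime) :
    centralizer (Y : Set G) ≤ M' ∧
      ∀ L : Subgroup G, IsCoatom L → centralizer (Y : Set G) ≤ L → L = M' :=
  (⟨P.data', by rw [P.star]; exact P.data, by rw [P.star]⟩ : Pair M' (kStar M K) M).unique_maximal F
    (X := Y) (by rw [P.star]; exact hY) hp

omit P in
/-- Uniqueness of the partner. -/
theorem eq_of_star (P : Pair M K M') {L : Subgroup G} (hL : IsCoatom L)
    (h : K = Cfsg.sigmaCore L ⊓ centralizer ((kStar M K : Subgroup G) : Set G)) : L = M' := by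
  obtain ⟨k, hk, hkp⟩ := exists_mem_orderOf_prime P.data.ne_bot
  have hkL : k ∈ Cfsg.sigmaCore L := (h.le hk).1
  obtain ⟨g, hg⟩ := F.res.sigma_disjoint M' L P.data'.max hL
    ⟨orderOf k, sigma_of_mem (P.le' hk) hkp dvd_rfl, sigma_of_mem hkL hkp dvd_rfl⟩
  have hgM : g ∈ M' := P.data'.mem_of_conj_mem F (P.star.ge hk)
    (fun e => hkp.ne_one (by rw [e, orderOf_one]))
    (by have := sigmaCore_le L hkL; rwa [hg] at this)
  rw [hg]
  exact BG11.cj_eq_of_mem hgM

end Pair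

end Cfsg.Agent.OddOrder.BG14
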