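import Cfsg.Prelude.Def_Transfer
import Mathlib.LinearAlgebra.LinearIndependent.Basic
import Mathlib.RingTheory.Ideal.Quotient.Basic
import Mathlib.GroupTheory.Perm.Cycle.Type
import Mathlib.Algebra.Ring.Subring.Basic

/-!
# Prime action of a Frobenius complement forces prime order

`A` abelian, `K` acts on `A` without fixed points, and `A K` acts on a nontrivial elementary
abelian `q`-group `V`, `q ∤ |A|`, with `C_V(A) = 1` and `C_V(k) = C_V(K)` for all `k ∈ K#`.
Then `K` has prime order.  (The `A K`-module is free over `K`; the proof below avoids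
dimensions and uses the independence of the characters `χ ∘ conj y`, `y ∈ K`.)
-/

set_option autoImplicit false
set_option linter.style.haveILetI false

namespace Cfsg.Agent.OddOrder.BG14

open Subgroup
open scoped IsMulCommutative

variable {G : Type*} [Group G]

/-- The action of `N_G(V)` on the abelian group `V`, additively. -/
def conjEnd (V : Subgroup G) [IsMulCommutative V] :
    ↥(normalizer (V : Set G)) →* AddMonoid.End (Additive ↥V) where
  toFun g :=
    { toFun := fun v => Additive.ofMul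
        ⟨(g : G) * (Additive.toMul v : ↥V) * (g : G)⁻¹,
          (mem_normalizer_iff.mp g.2 _).mp (Additive.toMul v).2⟩
      map_zero' := Additive.toMul.injective (Subtype.ext (by simp))
      map_add' := fun a b => Additive.toMul.injective (Subtype.ext (by simp [mul_assoc])) }
  map_one' := AddMonoidHom.ext fun v => Additive.toMul.injective (Subtype.ext (by simp; rfl))
  map_mul' g h := AddMonoidHom.ext fun v => Additive.toMul.injective (Subtype.ext (by
    show (g * h : G) * _ * (g * h : G)⁻¹ = (g : G) * ((h : G) * _ * (h : G)⁻¹) * (g : G)⁻¹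
    group))

theorem conjEnd_apply (V : Subgroup G) [IsMulCommutative V] (g : ↥(normalizer (V : Set G)))
    (v : Additive ↥V) :
    ((Additive.toMul (conjEnd V g v) : ↥V) : G) =
      (g : G) * ((Additive.toMul v : ↥V) : G) * (g : G)⁻¹ := rfl

theorem sum_eq_zero [Finite G] (V A : Subgroup G) [IsMulCommutative V] [Fintype ↥A]
    (hAV : A ≤ normalizer (V : Set G)) (hVA : V ⊓ centralizer (A : Set G) = ⊥) :
    ∑ a : ↥A, conjEnd V (inclusion hAV a) = 0 := by
  let ιA : ↥A →* AddMonoid.End (Additive ↥V) := (conjEnd V).comp (inclusion hAV)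
  show ∑ a : ↥A, ιA a = 0
  have hb : ∀ b : ↥A, ιA b * ∑ a : ↥A, ιA a = ∑ a : ↥A, ιA a := by
    intro b
    rw [Finset.mul_sum]
    exact Fintype.sum_equiv (Equiv.mulLeft b) _ _ fun a => (map_mul ιA b a).symm
  refine AddMonoidHom.ext fun v => ?_
  set w : G := ((Additive.toMul ((∑ a : ↥A, ιA a : AddMonoid.End (Additive ↥V)) v) : ↥V) : G)
    with hw
  have hwc : w ∈ V ⊓ centralizer (A : Set G) := by
    refine mem_inf.mpr ⟨SetLike.coe_mem _, mem_centralizer_iff.mpr fun b hb' => ?_⟩
    have h := congrArg (fun f : AddMonoid.End (Additive ↥V) =>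
      ((Additive.toMul (f v) : ↥V) : G)) (hb ⟨b, hb'⟩)
    exact mul_inv_eq_iff_eq_mul.mp (show b * w * b⁻¹ = w from h)
  rw [hVA, mem_bot] at hwc
  exact Additive.toMul.injective (Subtype.ext (hwc.trans rfl))

/-- `∑_{a} a N_L a⁻¹ = |A|` on `V` for a Frobenius group `A L` with `C_V(A) = 1`. -/
theorem sum_conj_norm [Finite G] (V A L : Subgroup G) [IsMulCommutative V] [IsMulCommutative A]
    [Fintype ↥A] [Fintype ↥L] (hAV : A ≤ normalizer (V : Set G)) (hLV : L ≤ normalizer (V : Set G))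
    (hLA : L ≤ normalizer (A : Set G))
    (hfree : ∀ k ∈ L, k ≠ 1 → A ⊓ centralizer ({k} : Set G) = ⊥)
    (hVA : V ⊓ centralizer (A : Set G) = ⊥) :
    ∑ a : ↥A, conjEnd V (inclusion hAV a) * (∑ x : ↥L, conjEnd V (inclusion hLV x)) *
        conjEnd V (inclusion hAV a⁻¹) = (Fintype.card ↥A : AddMonoid.End (Additive ↥V)) := by
  classical
  let ιA : ↥A →* AddMonoid.End (Additive ↥V) := (conjEnd V).comp (inclusion hAV)
  let ιK : ↥L →* AddMonoid.End (Additive ↥V) := (conjEnd V).comp (inclusion hLV)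
  let c : ↥L → (↥A →* ↥A) := fun y =>
    { toFun := fun a => ⟨(y : G) * (a : G) * (y : G)⁻¹,
        (mem_normalizer_iff.mp (hLA y.2) _).mp a.2⟩
      map_one' := Subtype.ext (by simp)
      map_mul' := fun a b => Subtype.ext (by simp [mul_assoc]) }
  have hconj : ∀ (y : ↥L) (a : ↥A), ιA (c y a) * ιK y = ιK y * ιA a := by
    intro y a
    show conjEnd V _ * conjEnd V _ = conjEnd V _ * conjEnd V _
    rw [← map_mul, ← map_mul]
    exact congrArg _ (Subtype.ext (show (y : G) * a * (y : G)⁻¹ * y = y * a by group))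
  have hsumA : ∑ a : ↥A, ιA a = 0 := sum_eq_zero V A hAV hVA
  show ∑ a : ↥A, ιA a * (∑ x : ↥L, ιK x) * ιA a⁻¹ = _
  simp only [Finset.mul_sum, Finset.sum_mul]
  rw [Finset.sum_comm, Finset.sum_eq_single (1 : ↥L)]
  · simp [← map_mul]
  · intro x _ hx
    set y : ↥L := x with hy
    have hy1 : (y : G) ≠ 1 := fun h => hx (Subtype.ext h)
    let f : ↥A →* ↥A :=
      { toFun := fun a => a * c y a⁻¹
        map_one' := by simp
        map_mul' := fun a b => by
          rw [mul_inv, map_mul]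
          exact mul_mul_mul_comm _ _ _ _ }
    have hf : Function.Injective f := by
      rw [← MonoidHom.ker_eq_bot_iff, eq_bot_iff]
      intro a ha
      have h : (a : G) * ((y : G) * (a : G)⁻¹ * (y : G)⁻¹) = 1 := congrArg Subtype.val ha
      have hac : (a : G) ∈ A ⊓ centralizer ({(y : G)} : Set G) := by
        refine mem_inf.mpr ⟨a.2, mem_centralizer_singleton_iff.mpr ?_⟩
        calc (a : G) * y = (a * ((y : G) * (a : G)⁻¹ * (y : G)⁻¹)) * y * a := by group
          _ = y * a := by rw [h, one_mul]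
      rw [hfree _ y.2 hy1, mem_bot] at hac
      exact mem_bot.mpr (Subtype.ext hac)
    have hstep : ∀ a : ↥A, ιA a * ιK y * ιA a⁻¹ = ιA (f a) * ιK y := by
      intro a
      rw [mul_assoc, ← hconj y a⁻¹, ← mul_assoc, ← map_mul]
      rfl
    calc ∑ a : ↥A, ιA a * ιK y * ιA a⁻¹ = ∑ a : ↥A, ιA (f a) * ιK y :=
          Finset.sum_congr rfl fun a _ => hstep a
      _ = (∑ a : ↥A, ιA (f a)) * ιK y := (Finset.sum_mul ..).symm
      _ = (∑ a : ↥A, ιA a) * ιK y := by
          rw [(Finite.injective_iff_bijective.mp hf).sum_comp (fun a => ιA a)]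
      _ = 0 := by rw [hsumA, zero_mul]
  · simp

/-- A Frobenius complement has fixed points on a module on which the kernel is fixed-point-free. -/
theorem centralizer_ne_bot_of_frobenius [Finite G] {q : ℕ} [hq : Fact q.Prime] (V A L : Subgroup G)
    (hV : IsElementaryAbelian q V) (hV1 : V ≠ ⊥) (hA : IsMulCommutative A)
    (hqA : ¬ q ∣ Nat.card A) (hAV : A ≤ normalizer (V : Set G))
    (hLV : L ≤ normalizer (V : Set G)) (hLA : L ≤ normalizer (A : Set G))
    (hfree : ∀ k ∈ L, k ≠ 1 → A ⊓ centralizer ({k} : Set G) = ⊥)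
    (hVA : V ⊓ centralizer (A : Set G) = ⊥) : V ⊓ centralizer (L : Set G) ≠ ⊥ := by
  classical
  haveI := hV.1
  haveI := hA
  haveI := Fintype.ofFinite ↥L
  haveI := Fintype.ofFinite ↥A
  intro hL
  set NL : AddMonoid.End (Additive ↥V) := ∑ x : ↥L, conjEnd V (inclusion hLV x) with hNL
  have hzero : NL = 0 := by
    have hfix : ∀ y : ↥L, conjEnd V (inclusion hLV y) * NL = NL := by
      intro y
      rw [hNL, Finset.mul_sum]
      refine Fintype.sum_equiv (Equiv.mulLeft y) _ _ fun z => ?_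
      rw [← map_mul, ← map_mul]
      rfl
    refine DFunLike.ext _ _ fun v => ?_
    set w : G := ((Additive.toMul (NL v) : ↥V) : G) with hw
    have hwc : w ∈ V ⊓ centralizer (L : Set G) := by
      refine mem_inf.mpr ⟨SetLike.coe_mem _, mem_centralizer_iff.mpr fun b hb => ?_⟩
      have h := congrArg (fun f : AddMonoid.End (Additive ↥V) =>
        ((Additive.toMul (f v) : ↥V) : G)) (hfix ⟨b, hb⟩)
      exact mul_inv_eq_iff_eq_mul.mp (show b * w * b⁻¹ = w from h)
    rw [hL, mem_bot] at hwc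
    exact Additive.toMul.injective (Subtype.ext (hwc.trans rfl))
  have h := sum_conj_norm V A L hAV hLV hLA hfree hVA
  rw [← hNL, hzero] at h
  simp only [mul_zero, zero_mul, Finset.sum_const_zero] at h
  obtain ⟨v, hv⟩ := V.ne_bot_iff_exists_ne_one.mp hV1
  have h0 : Fintype.card ↥A • Additive.ofMul v = (0 : Additive ↥V) := by
    have := DFunLike.congr_fun h (Additive.ofMul v)
    rw [AddMonoid.End.natCast_apply] at this
    exact this.symm
  have h1 : (v : G) ^ Fintype.card ↥A = 1 := congrArg Subtype.val h0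
  have hcop : Nat.gcd (Fintype.card ↥A) q = 1 :=
    Nat.Coprime.symm ((Nat.Prime.coprime_iff_not_dvd hq.out).mpr
      (by rwa [← Nat.card_eq_fintype_card]))
  exact hv (Subtype.ext (by
    simpa [hcop] using pow_gcd_eq_one.mpr ⟨h1, hV.2 _ v.2⟩))

/-- **Prime order from prime action.** -/
theorem prime_card_of_prime_action [Finite G] {q : ℕ} [hq : Fact q.Prime] (V A K : Subgroup G)
    (hV : IsElementaryAbelian q V) (hV1 : V ≠ ⊥) (hA : IsMulCommutative A)
    (hqA : ¬ q ∣ Nat.card A) (hAV : A ≤ normalizer (V : Set G))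
    (hKV : K ≤ normalizer (V : Set G)) (hKA : K ≤ normalizer (A : Set G)) (hK1 : K ≠ ⊥)
    (hfree : ∀ k ∈ K, k ≠ 1 → A ⊓ centralizer ({k} : Set G) = ⊥)
    (hVA : V ⊓ centralizer (A : Set G) = ⊥)
    (hprime : ∀ k ∈ K, k ≠ 1 →
      V ⊓ centralizer ({k} : Set G) = V ⊓ centralizer (K : Set G)) :
    (Nat.card K).Prime := by
  classical
  haveI := hV.1
  haveI := hA
  by_contra hcard
  -- a subgroup of prime order of `K`, necessarily proper
  obtain ⟨l, hl, hlK⟩ := Nat.exists_prime_and_dvd (n := Nat.card K)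
    (fun h => hK1 (card_eq_one.mp h))
  haveI := Fact.mk hl
  obtain ⟨x₀, hx₀⟩ := exists_prime_orderOf_dvd_card' (G := ↥K) l hlK
  have hx₀1 : (x₀ : G) ≠ 1 := by
    intro h
    exact hl.ne_one (hx₀ ▸ orderOf_eq_one_iff.mpr (Subtype.ext h))
  set L : Subgroup G := zpowers (x₀ : G) with hLdef
  have hLK : L ≤ K := zpowers_le.mpr x₀.2
  have hLcard : Nat.card L = l := by
    rw [hLdef, Nat.card_zpowers]
    rwa [orderOf_coe]
  obtain ⟨k₀, hk₀K, hk₀L⟩ : ∃ k, k ∈ K ∧ k ∉ L := by
    by_contra h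
    push Not at h
    exact hcard (le_antisymm hLK h ▸ hLcard ▸ hl)
  haveI := Fintype.ofFinite ↥L
  haveI := Fintype.ofFinite ↥A
  -- the representation
  set ρ := conjEnd V with hρdef
  let ιA : ↥A →* AddMonoid.End (Additive ↥V) := ρ.comp (inclusion hAV)
  let ιK : ↥K →* AddMonoid.End (Additive ↥V) := ρ.comp (inclusion hKV)
  let NL : AddMonoid.End (Additive ↥V) := ∑ x : ↥L, ιK (inclusion hLK x)
  -- conjugation of `A` by `K`
  let c : ↥K → (↥A →* ↥A) := fun y =>
    { toFun := fun a => ⟨(y : G) * (a : G) * (y : G)⁻¹,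
        (mem_normalizer_iff.mp (hKA y.2) _).mp a.2⟩
      map_one' := Subtype.ext (by simp)
      map_mul' := fun a b => Subtype.ext (by simp [mul_assoc]) }
  have hconj : ∀ (y : ↥K) (a : ↥A), ιA (c y a) * ιK y = ιK y * ιA a := by
    intro y a
    show ρ _ * ρ _ = ρ _ * ρ _
    rw [← map_mul, ← map_mul]
    exact congrArg _ (Subtype.ext (show (y : G) * a * (y : G)⁻¹ * y = y * a by group))
  -- `N_L` has values in `C_V(K)`
  have hfixL : ∀ x : ↥L, ιK (inclusion hLK x) * NL = NL := by
    intro x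
    rw [Finset.mul_sum]
    refine Fintype.sum_equiv (Equiv.mulLeft x) _ _ fun z => ?_
    rw [← map_mul, ← map_mul]
    rfl
  have hfix : ∀ y : ↥K, ιK y * NL = NL := by
    intro y
    refine AddMonoidHom.ext fun v => ?_
    set w : G := ((Additive.toMul (NL v) : ↥V) : G) with hw
    have hwc : w ∈ V ⊓ centralizer ({(x₀ : G)} : Set G) := by
      refine mem_inf.mpr ⟨(Additive.toMul (NL v)).2, mem_centralizer_singleton_iff.mpr ?_⟩
      have h := congrArg (fun f : AddMonoid.End (Additive ↥V) =>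
        ((Additive.toMul (f v) : ↥V) : G)) (hfixL ⟨x₀, mem_zpowers _⟩)
      have h' : (x₀ : G) * w * (x₀ : G)⁻¹ = w := h
      exact (mul_inv_eq_iff_eq_mul.mp h').symm
    rw [hprime _ x₀.2 hx₀1] at hwc
    have hyw : (y : G) * w = w * y := mem_centralizer_iff.mp hwc.2 _ y.2
    refine Additive.toMul.injective (Subtype.ext ?_)
    show (y : G) * w * (y : G)⁻¹ = w
    rw [hyw, mul_inv_cancel_right]
  -- `∑_A` kills `V`, and `∑ a N_L a⁻¹ = |A|`
  have hspan : ∑ a : ↥A, ιA a * NL * ιA a⁻¹ = (Fintype.card ↥A : AddMonoid.End (Additive ↥V)) :=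
    sum_conj_norm V A L hAV (hLK.trans hKV) (hLK.trans hKA) (fun k hk => hfree k (hLK hk)) hVA
  -- the commutative ring generated by the image of `A`
  have hcommA : ∀ a b : ↥A, ιA a * ιA b = ιA b * ιA a := fun a b => by
    rw [← map_mul, ← map_mul, mul_comm a b]
  let S : Subring (AddMonoid.End (Additive ↥V)) := Subring.closure (Set.range ιA)
  letI : CommRing ↥S := Subring.closureCommRingOfComm (by
    rintro _ ⟨a, rfl⟩ _ ⟨b, rfl⟩; exact hcommA a b)
  let σ : ↥A →* ↥S :=
    { toFun := fun a => ⟨ιA a, Subring.subset_closure ⟨a, rfl⟩⟩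
      map_one' := Subtype.ext (map_one ιA)
      map_mul' := fun a b => Subtype.ext (map_mul ιA a b) }
  haveI : Nontrivial (Additive ↥V) := by
    obtain ⟨v, hv1⟩ := V.ne_bot_iff_exists_ne_one.mp hV1
    exact ⟨⟨Additive.ofMul v, 0, fun h => hv1 (Additive.ofMul.injective h)⟩⟩
  haveI : Nontrivial (AddMonoid.End (Additive ↥V)) := by
    obtain ⟨v, hv⟩ := exists_ne (0 : Additive ↥V)
    exact ⟨⟨1, 0, fun h => hv (DFunLike.congr_fun h v)⟩⟩
  haveI : Nontrivial ↥S :=
    ⟨⟨0, 1, fun h => zero_ne_one (α := AddMonoid.End (Additive ↥V)) (congrArg Subtype.val h)⟩⟩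
  -- `q = 0`
  have hq0 : (q : ↥S) = 0 := by
    refine Subtype.ext ?_
    show ((q : ↥S) : AddMonoid.End (Additive ↥V)) = 0
    rw [show ((q : ↥S) : AddMonoid.End (Additive ↥V)) = (q : AddMonoid.End (Additive ↥V)) from
      map_natCast S.subtype q]
    refine DFunLike.ext _ _ fun v => ?_
    show ((q : AddMonoid.End (Additive ↥V))) v = (0 : Additive ↥V)
    rw [AddMonoid.End.natCast_apply]
    refine Additive.toMul.injective (Subtype.ext ?_)
    rw [toMul_nsmul, SubmonoidClass.coe_pow]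
    exact hV.2 _ (Additive.toMul v).2
  have hcardA : IsUnit (Fintype.card ↥A : ↥S) := by
    have hcop : Nat.gcd (Fintype.card ↥A) q = 1 :=
      Nat.Coprime.symm ((Nat.Prime.coprime_iff_not_dvd hq.out).mpr
        (by rwa [← Nat.card_eq_fintype_card]))
    refine isUnit_iff_exists_inv.mpr ⟨(Nat.gcdA (Fintype.card ↥A) q : ↥S), ?_⟩
    have h := congrArg (fun z : ℤ => (z : ↥S)) (Nat.gcd_eq_gcd_ab (Fintype.card ↥A) q)
    simp only [hcop, Int.cast_add, Int.cast_mul, Int.cast_natCast, hq0, zero_mul, add_zero,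
      Nat.cast_one, Int.cast_one] at h
    exact h.symm
  -- the relation
  let d : ↥K → ↥L → ↥K := fun k x => k * inclusion hLK x
  have hD : ∀ a : ↥A, ∑ x : ↥L, σ (c (d 1 x) a) =
      ∑ x : ↥L, σ (c (d ⟨k₀, hk₀K⟩ x) a) := by
    intro a
    have hterm : ∀ k : ↥K, ∀ x : ↥L,
        ιA (c (d k x) a) * NL = ιK k * ιK (inclusion hLK x) * (ιA a * NL) := by
      intro k x
      calc ιA (c (d k x) a) * NL = ιA (c (d k x) a) * (ιK (d k x) * NL) := by rw [hfix]
        _ = ιK (d k x) * ιA a * NL := by rw [← mul_assoc, hconj]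
        _ = _ := by rw [map_mul, mul_assoc]
    have hsum : ∀ k : ↥K, (∑ x : ↥L, ιA (c (d k x) a)) * NL = NL * (ιA a * NL) := by
      intro k
      calc (∑ x : ↥L, ιA (c (d k x) a)) * NL
          = ∑ x : ↥L, ιK k * ιK (inclusion hLK x) * (ιA a * NL) := by
            rw [Finset.sum_mul]; exact Finset.sum_congr rfl fun x _ => hterm k x
        _ = ιK k * NL * (ιA a * NL) := by rw [← Finset.sum_mul, ← Finset.mul_sum]
        _ = NL * (ιA a * NL) := by rw [hfix]
    set D : AddMonoid.End (Additive ↥V) :=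
      (∑ x : ↥L, ιA (c (d 1 x) a)) - ∑ x : ↥L, ιA (c (d ⟨k₀, hk₀K⟩ x) a) with hDdef
    have hDN : D * NL = 0 := by rw [hDdef, sub_mul, hsum, hsum, sub_self]
    have hDb : ∀ b : ↥A, D * ιA b = ιA b * D := by
      intro b
      simp only [hDdef, sub_mul, mul_sub, Finset.sum_mul, Finset.mul_sum, hcommA]
    have hD0 : D * (Fintype.card ↥A : AddMonoid.End (Additive ↥V)) = 0 := by
      rw [← hspan, Finset.mul_sum]
      refine Finset.sum_eq_zero fun b _ => ?_
      rw [← mul_assoc, ← mul_assoc, hDb, mul_assoc (ιA b) D NL, hDN, mul_zero, zero_mul]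
    refine sub_eq_zero.mp (hcardA.mul_left_eq_zero.mp ?_)
    refine Subtype.ext ?_
    rw [Subring.coe_mul, AddSubgroupClass.coe_sub, AddSubmonoidClass.coe_finsetSum,
      AddSubmonoidClass.coe_finsetSum]
    exact hD0
  -- pass to a residue field
  obtain ⟨m, hm⟩ := Ideal.exists_maximal ↥S
  letI := Ideal.Quotient.field m
  let χ : ↥A →* ↥S ⧸ m := (Ideal.Quotient.mk m : ↥S →* ↥S ⧸ m).comp σ
  let ψ : ↥K → (↥A →* ↥S ⧸ m) := fun y => χ.comp (c y)
  have hψ : Function.Injective ψ := by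
    intro y z hyz
    by_contra hne
    set u : ↥K := y * z⁻¹ with hu
    have hu1 : (u : G) ≠ 1 := fun h =>
      hne (mul_inv_eq_one.mp (Subtype.ext h : y * z⁻¹ = 1))
    have e : ∀ (s t : ↥K) (b : ↥A), c s (c t b) = c (s * t) b := fun s t b =>
      Subtype.ext (show (s : G) * ((t : G) * b * (t : G)⁻¹) * (s : G)⁻¹ =
        (s * t : G) * b * (s * t : G)⁻¹ by group)
    have hχu : ∀ a : ↥A, χ (c u a) = χ a := by
      intro a
      have h : χ (c y (c z⁻¹ a)) = χ (c z (c z⁻¹ a)) := DFunLike.congr_fun hyz (c z⁻¹ a)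
      rwa [e, e, mul_inv_cancel, show c 1 a = a from Subtype.ext (by simp [c])] at h
    let f : ↥A →* ↥A :=
      { toFun := fun a => c u a * a⁻¹
        map_one' := by simp
        map_mul' := fun a b => by
          rw [map_mul, mul_inv]
          exact mul_mul_mul_comm _ _ _ _ }
    have hf : Function.Injective f := by
      rw [← MonoidHom.ker_eq_bot_iff, eq_bot_iff]
      intro a ha
      have h : (u : G) * (a : G) * (u : G)⁻¹ * (a : G)⁻¹ = 1 := congrArg Subtype.val ha
      have hac : (a : G) ∈ A ⊓ centralizer ({(u : G)} : Set G) :=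
        mem_inf.mpr ⟨a.2, mem_centralizer_singleton_iff.mpr
          (mul_inv_eq_iff_eq_mul.mp (mul_inv_eq_one.mp h)).symm⟩
      rw [hfree _ u.2 hu1, mem_bot] at hac
      exact mem_bot.mpr (Subtype.ext hac)
    have hχ1 : ∀ b : ↥A, χ b = 1 := by
      intro b
      obtain ⟨a, rfl⟩ := (Finite.injective_iff_surjective.mp hf) b
      show χ (c u a * a⁻¹) = 1
      rw [map_mul, hχu, ← map_mul, mul_inv_cancel, map_one]
    have hzero : (Fintype.card ↥A : ↥S ⧸ m) = 0 := by
      have hsumA : ∑ a : ↥A, ιA a = 0 := sum_eq_zero V A hAV hVA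
      have h0 : ∑ a : ↥A, σ a = 0 := Subtype.ext (by
        rw [AddSubmonoidClass.coe_finsetSum]; exact hsumA)
      have h := congrArg (Ideal.Quotient.mk m) h0
      rw [map_sum, map_zero] at h
      rw [← h, ← Finset.card_univ, Finset.cast_card]
      exact Finset.sum_congr rfl fun a _ => (hχ1 a).symm
    exact ((hcardA.map (Ideal.Quotient.mk m)).ne_zero) (by rw [map_natCast]; exact hzero)
  -- independence of the characters
  set k₁ : ↥K := ⟨k₀, hk₀K⟩ with hk₁
  let l₁ : ↥K → ↥S ⧸ m := fun y =>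
    (if (y : G) ∈ L then 1 else 0) - (if ((k₁⁻¹ * y : ↥K) : G) ∈ L then 1 else 0)
  have hli : LinearIndependent (↥S ⧸ m) (fun y : ↥K => (ψ y : ↥A → ↥S ⧸ m)) :=
    (linearIndependent_monoidHom ↥A (↥S ⧸ m)).comp ψ hψ
  haveI := Fintype.ofFinite ↥K
  have hrel : ∑ y : ↥K, l₁ y • (ψ y : ↥A → ↥S ⧸ m) = 0 := by
    funext a
    have hshift : ∀ k : ↥K, ∑ y : ↥K,
        (if ((k⁻¹ * y : ↥K) : G) ∈ L then (1 : ↥S ⧸ m) else 0) * ψ y a =
          ∑ x : ↥L, Ideal.Quotient.mk m (σ (c (d k x) a)) := by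
      intro k
      symm
      rw [← Finset.sum_filter_add_sum_filter_not Finset.univ
        (fun y : ↥K => ((k⁻¹ * y : ↥K) : G) ∈ L)]
      rw [Finset.sum_eq_zero (s := Finset.univ.filter
          fun y : ↥K => ¬ ((k⁻¹ * y : ↥K) : G) ∈ L)
        (fun y hy => by rw [if_neg (Finset.mem_filter.mp hy).2, zero_mul]), add_zero]
      refine Finset.sum_bij (fun x _ => d k x) (fun x _ => ?_) (fun x _ y _ h => ?_)
        (fun y hy => ?_) (fun x _ => ?_)
      · simp [d, x.2]
      · exact inclusion_injective hLK (mul_left_cancel h)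
      · refine ⟨⟨_, (Finset.mem_filter.mp hy).2⟩, Finset.mem_univ _, ?_⟩
        exact Subtype.ext (by simp [d])
      · rw [if_pos (by simp [d, x.2]), one_mul]
        rfl
    have h1 := hshift 1
    have h2 := hshift k₁
    simp only [inv_one, one_mul] at h1
    simp only [Finset.sum_apply, Pi.smul_apply, smul_eq_mul, Pi.zero_apply, l₁, sub_mul,
      Finset.sum_sub_distrib]
    rw [h1, h2, ← map_sum (Ideal.Quotient.mk m), ← map_sum (Ideal.Quotient.mk m), hD a, sub_self]
  have h := Fintype.linearIndependent_iff.mp hli l₁ hrel 1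
  have hk : ((k₁⁻¹ * 1 : ↥K) : G) ∉ L := by simpa [hk₁] using hk₀L
  simp only [l₁, if_pos L.one_mem, if_neg hk, OneMemClass.coe_one, sub_zero] at h
  exact one_ne_zero h

end Cfsg.Agent.OddOrder.BG14
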