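import Cfsg.Agent.OddOrder.BG14.OwnerCount
import Cfsg.Agent.OddOrder.BG14.PrimeAction
import Mathlib.GroupTheory.SpecificGroups.ZGroup

/-!
# BG 14.2(g) and the pair `M, M*`

If some prime of `M` lies outside `σ(M) ∪ κ(M)` then `M_σ` is nilpotent and a Hall `κ(M)`-subgroup has
prime order.  Hence `Z` has exactly two owners and is cyclic.
-/

set_option autoImplicit false
set_option linter.style.haveILetI false

universe u

namespace Cfsg.Agent.OddOrder.BG14

open Subgroup
open Cfsg.Agent.H40 (cj mem_cj cj_mul cj_one conj_mem_cj cj_eq_iff card_cj)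

variable {G : Type u} [Group G] [Finite G]

/-- The elements of order dividing `r` of an abelian subgroup. -/
def omegaAb (U : Subgroup G) (hU : IsMulCommutative U) (r : ℕ) : Subgroup G where
  carrier := {x | x ∈ U ∧ x ^ r = 1}
  one_mem' := ⟨one_mem _, one_pow _⟩
  mul_mem' := fun {a b} ha hb => ⟨mul_mem ha.1 hb.1, by
    have h : Commute a b := congrArg Subtype.val (mul_comm' (⟨a, ha.1⟩ : U) ⟨b, hb.1⟩)
    rw [h.mul_pow, ha.2, hb.2, mul_one]⟩
  inv_mem' := fun {a} ha => ⟨inv_mem ha.1, by rw [inv_pow, ha.2, inv_one]⟩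

theorem isElementaryAbelian_omegaAb (U : Subgroup G) (hU : IsMulCommutative U) (r : ℕ) :
    Cfsg.IsElementaryAbelian r (omegaAb U hU r) :=
  ⟨⟨⟨fun a b => Subtype.ext (congrArg Subtype.val (mul_comm' (⟨a, a.2.1⟩ : U) ⟨b, b.2.1⟩) :
    (a : G) * b = b * a)⟩⟩, fun _ ha => ha.2⟩

omit [Finite G] in
theorem le_normalizer_omegaAb {U N : Subgroup G} (hU : IsMulCommutative U) (r : ℕ)
    (h : N ≤ normalizer (U : Set G)) : N ≤ normalizer (omegaAb U hU r : Set G) := by
  intro g hg
  refine mem_normalizer_iff.mpr fun x => ?_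
  constructor
  · rintro ⟨hx, hr⟩
    exact ⟨(mem_normalizer_iff.mp (h hg) x).mp hx, by rw [conj_pow, hr, mul_one, mul_inv_cancel]⟩
  · rintro ⟨hx, hr⟩
    refine ⟨(mem_normalizer_iff.mp (h hg) x).mpr hx, ?_⟩
    rwa [conj_pow, conj_eq_one_iff] at hr

/-- A nontrivial nilpotent subgroup normalized by `N` contains a nontrivial elementary abelian
subgroup normalized by `N`. -/
theorem exists_elemAb_of_nilpotent {H : Subgroup G} (hn : Group.IsNilpotent H) (h1 : H ≠ ⊥) :
    ∃ q : ℕ, q.Prime ∧ q ∣ Nat.card H ∧ ∃ V : Subgroup G, V ≤ H ∧ V ≠ ⊥ ∧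
      Cfsg.IsElementaryAbelian q V ∧ normalizer (H : Set G) ≤ normalizer (V : Set G) := by
  haveI := hn
  haveI : Nontrivial ↥H := (nontrivial_iff_ne_bot H).mpr h1
  have hC : (center ↥H).map H.subtype ≠ ⊥ := by
    intro h
    exact Group.IsNilpotent.center_ne_bot (G := ↥H)
      ((map_eq_bot_iff_of_injective _ H.subtype_injective).mp h)
  set C := (center ↥H).map H.subtype
  haveI hCc : IsMulCommutative C := Subgroup.map_isMulCommutative _ _
  have hn' : normalizer (H : Set G) ≤ normalizer (C : Set G) := by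
    intro g hg
    refine mem_normalizer_iff.mpr fun x => ⟨?_, ?_⟩
    · rintro ⟨z, hz, rfl⟩
      refine ⟨⟨g * z * g⁻¹, (mem_normalizer_iff.mp hg _).mp z.2⟩, ?_, rfl⟩
      refine mem_center_iff.mpr fun w => Subtype.ext ?_
      have hw : g⁻¹ * w * g ∈ H := by
        have := (mem_normalizer_iff.mp (inv_mem hg) w).mp w.2
        rwa [inv_inv] at this
      have h2 : g⁻¹ * w * g * z = z * (g⁻¹ * w * g) :=
        congrArg Subtype.val (mem_center_iff.mp hz ⟨_, hw⟩)
      show (w : G) * (g * z * g⁻¹) = g * z * g⁻¹ * w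
      calc (w : G) * (g * z * g⁻¹) = g * (g⁻¹ * w * g * z) * g⁻¹ := by group
        _ = _ := by rw [h2]; group
    · rintro ⟨z, hz, hzx⟩
      have hxH : x ∈ H := (mem_normalizer_iff.mp hg x).mpr (hzx ▸ z.2)
      refine ⟨⟨x, hxH⟩, ?_, rfl⟩
      refine mem_center_iff.mpr fun w => Subtype.ext ?_
      have hw : g * w * g⁻¹ ∈ H := (mem_normalizer_iff.mp hg w).mp w.2
      have h2 : g * w * g⁻¹ * (z : G) = z * (g * w * g⁻¹) :=
        congrArg Subtype.val (mem_center_iff.mp hz ⟨_, hw⟩)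
      rw [show (z : G) = g * x * g⁻¹ from hzx] at h2
      show (w : G) * x = x * w
      calc (w : G) * x = g⁻¹ * (g * w * g⁻¹ * (g * x * g⁻¹)) * g := by group
        _ = _ := by rw [h2]; group
  obtain ⟨q, hq, hd⟩ := Nat.exists_prime_and_dvd (fun e => hC (card_eq_one.mp e))
  haveI := Fact.mk hq
  obtain ⟨v, hv⟩ := exists_prime_orderOf_dvd_card' (G := ↥C) q hd
  refine ⟨q, hq, hd.trans (card_dvd_of_le (map_subtype_le _)), omegaAb C hCc q,
    fun x hx => map_subtype_le _ hx.1, fun h => ?_, isElementaryAbelian_omegaAb C hCc q,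
    hn'.trans (le_normalizer_omegaAb hCc q le_rfl)⟩
  have : (v : G) ∈ omegaAb C hCc q := ⟨v.2, by
    rw [← SubmonoidClass.coe_pow, ← hv, pow_orderOf_eq_one, OneMemClass.coe_one]⟩
  rw [h, mem_bot] at this
  exact hq.ne_one (by rw [← hv, orderOf_eq_one_iff]; exact Subtype.ext this)

namespace KData

variable {M K : Subgroup G} (D : KData M K) (F : Inputs G)
include D F

/-- **BG 14.2(g)**. -/
theorem prime_card_of_not_allKappa (h : ¬ AllKappa M) :
    (Nat.card K).Prime ∧ Group.IsNilpotent (Cfsg.sigmaCore M) := by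
  have hne := h
  simp only [AllKappa, not_forall] at hne
  obtain ⟨r, hr, hrM, hrσ, hrκ⟩ := hne
  haveI := Fact.mk hr
  obtain ⟨hsp, ⟨U, hU, hUhall, hKU, hfree⟩, -⟩ := F.s1430 M D.max K D.hall D.ne_bot
  -- a Sylow `r`-subgroup of `U` is one of `M`
  obtain ⟨R⟩ : Nonempty (Sylow r U) := inferInstance
  have hRU : (R : Subgroup U).map U.subtype ≤ U := map_subtype_le _
  obtain ⟨S, hS⟩ : ∃ S : Sylow r M, (S : Subgroup M).map M.subtype = (R : Subgroup U).map U.subtype := by
    refine BG11.exists_sylow_eq ⟨hRU.trans hUhall.1, R.isPGroup'.map _, ?_⟩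
    rw [card_map_of_injective U.subtype_injective, R.card_eq_multiplicity,
      ← BG13.card_mul_relIndex hUhall.1]
    congr 1
    rw [Nat.factorization_mul Nat.card_pos.ne'
      (show U.relIndex M ≠ 0 from index_ne_zero_of_finite (H := U.subgroupOf M)),
      Finsupp.add_apply, Nat.factorization_eq_zero_of_not_dvd (n := U.relIndex M)
        (hUhall.2.2 r hr ⟨hr, hrκ, hrσ⟩), add_zero]
  obtain ⟨-, hA1, hnil⟩ := F.s1429 M D.max h r hrM (by simp [hrσ, hrκ]) S
  refine ⟨?_, hnil⟩
  set A := omegaAb U hU r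
  have hcl : closure {x : G | x ∈ (S : Subgroup M).map M.subtype ∧ x ^ r = 1} ≤ A :=
    (closure_le A).mpr fun x hx => ⟨hRU (hS ▸ hx.1), hx.2⟩
  obtain ⟨q, hq, hqd, V, hV, hV1, hVe, hVn⟩ :=
    exists_elemAb_of_nilpotent hnil (F.s10.sigmaCore_ne_bot M D.max)
  haveI := Fact.mk hq
  have hMV : M ≤ normalizer (V : Set G) := (le_normalizer_sigmaCore M).trans hVn
  have hAM : A ≤ M := fun x hx => hUhall.1 hx.1
  have hqA : ¬ q ∣ Nat.card A := by
    intro hd
    obtain ⟨a, ha⟩ := exists_prime_orderOf_dvd_card' (G := ↥A) q hd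
    have h1 : q ∣ r := ha ▸ orderOf_dvd_of_pow_eq_one (Subtype.ext (by simpa using a.2.2))
    rw [Nat.prime_dvd_prime_iff_eq hq hr] at h1
    exact hrσ (h1 ▸ sigmaCore_isPiNumber M q hq hqd)
  refine prime_card_of_prime_action V A K hVe hV1 (isElementaryAbelian_omegaAb U hU r).1 hqA
    (hAM.trans hMV) (D.le.trans hMV) (le_normalizer_omegaAb hU r hKU) D.ne_bot
    (fun k hk hk1 => eq_bot_iff.mpr fun x hx => hfree k hk hk1 ▸ ⟨hx.1.1, hx.2⟩) ?_ ?_
  · rw [eq_bot_iff, ← hA1]
    exact le_inf (inf_le_left.trans hV)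
      (inf_le_right.trans (Subgroup.centralizer_le (SetLike.coe_subset_coe.mpr hcl)))
  · intro k hk hk1
    refine le_antisymm ?_ (inf_le_inf_left V (Subgroup.centralizer_le (Set.singleton_subset_iff.mpr hk)))
    intro v hv
    exact ⟨hv.1, ((hsp k hk hk1).le ⟨hV hv.1, hv.2⟩).2⟩

/-- A nilpotent Hall `κ`-subgroup is cyclic. -/
theorem isCyclic_of_nilpotent (hn : Group.IsNilpotent K) : IsCyclic K := by
  haveI := hn
  haveI : IsZGroup ↥K := by
    refine ⟨fun p hp P => ?_⟩
    haveI := Fact.mk hp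
    rcases eq_or_ne (P : Subgroup K) ⊥ with h | h
    · rw [h]; infer_instance
    · obtain ⟨T, hT, hPT⟩ := BG11.exists_sylowOf_ge' (P.isPGroup'.map K.subtype)
        ((map_subtype_le _).trans D.le)
      obtain ⟨T', hT'⟩ := BG11.exists_sylow_eq hT
      have hd : p ∣ Nat.card K := by
        obtain ⟨n, hn⟩ := IsPGroup.iff_card.mp P.isPGroup'
        rcases n with _ | n
        · exact absurd (eq_bot_of_card_eq _ (by rwa [pow_zero] at hn)) h
        · exact (hn ▸ dvd_pow_self p n.succ_ne_zero).trans (card_subgroup_dvd_card _)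
      obtain ⟨hc, -⟩ := (D.prime_mem hp hd).2.2.2 T'
      have hcT : IsCyclic T := by
        rw [← hT']
        exact isCyclic_of_surjective
          (equivMapOfInjective (T' : Subgroup M) M.subtype M.subtype_injective)
          (MulEquiv.surjective _)
      haveI := BG13.isCyclic_mono hPT hcT
      exact isCyclic_of_surjective
        (equivMapOfInjective (P : Subgroup K) K.subtype K.subtype_injective).symm
        (MulEquiv.surjective _)
  infer_instance

end KData

/-- Two owners `H, H'` of `Z`, each the partner of the other. -/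
structure Pair (M K M' : Subgroup G) : Prop where
  data : KData M K
  data' : KData M' (kStar M K)
  star : kStar M' (kStar M K) = K

namespace KData

variable {M K : Subgroup G} (D : KData M K) (F : Inputs G)
include D F

/-- **BG 14.7**: `M` has a partner, `Z` is cyclic and only `M`, `M*` own it. -/
theorem exists_pair : ∃ M', Pair M K M' ∧ IsOwner (K ⊔ kStar M K) M' ∧ M' ≠ M ∧
    (∀ H, IsOwner (K ⊔ kStar M K) H → H = M ∨ H = M') ∧
    (¬ AllKappa M ∨ ¬ AllKappa M') ∧ IsCyclic K ∧ IsCyclic (kStar M K) := by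
  set Z := K ⊔ kStar M K with hZdef
  have hO : IsOwner Z M := D.isOwner
  obtain ⟨H, hH, hnotK⟩ := hO.exists_not_allKappa F
  obtain ⟨KH, DH, eH⟩ := hH
  obtain ⟨hprime, hnil⟩ := DH.prime_card_of_not_allKappa F hnotK
  -- exactly two owners
  obtain ⟨H', hH', hne'⟩ := IsOwner.exists_ne F ⟨KH, DH, eH⟩
  have hparts : ∀ L, IsOwner Z L → L ≠ H → Nat.card KH ∈ Cfsg.sigma L := by
    intro L hL hne
    have hle := IsOwner.part_le_hall ⟨KH, DH, eH⟩ F DH eH hL hne
    rcases (Nat.dvd_prime hprime).mp (card_dvd_of_le hle) with h | h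
    · exact absurd (card_eq_one.mp h) (hL.part_ne_bot F)
    · exact sigmaCore_isPiNumber L _ hprime (h ▸ card_dvd_of_le inf_le_right)
  have htwo : ∀ L, IsOwner Z L → L = H ∨ L = H' := fun L hL => or_iff_not_imp_left.mpr fun hne =>
    hH'.eq_of_sigma F hL (hparts H' hH' hne') (hparts L hL hne)
  -- the partner of `M`
  obtain ⟨x, hx, hxp⟩ := exists_mem_orderOf_prime D.ne_bot
  have hX : zpowers x ≤ K := zpowers_le.mpr hx
  have hXp : (Nat.card (zpowers x)).Prime := by rwa [Nat.card_zpowers]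
  obtain ⟨M', hM', hNM'⟩ := normalizer_le_of_exists_coatom F (BG13.ne_bot_of_prime_card hXp) D.max
    (hX.trans D.le)
  obtain ⟨K₁, D₁, hle, hXs, hsK, hZ₁, hS, hT⟩ := D.exists_partner F hX hXp hM' hNM'
  have hO' : IsOwner Z M' := ⟨K₁, D₁, hZ₁⟩
  have hneM : M' ≠ M := fun e => D.not_sigma hXp (card_dvd_of_le hX)
    (e ▸ sigmaCore_isPiNumber M' _ hXp (card_dvd_of_le (hXs.trans inf_le_left)))
  have hall : ∀ L, IsOwner Z L → L = M ∨ L = M' := by
    intro L hL
    rcases htwo M hO with rfl | rfl <;> rcases htwo M' hO' with rfl | rfl <;>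
      rcases htwo L hL with rfl | rfl <;> first | exact Or.inl rfl | exact Or.inr rfl | exact absurd rfl hneM
  -- `K₁* = K` and `K₁ = K*`
  have hK : K ≤ kStar M' K₁ := by
    have hσ : ∀ q : ℕ, q.Prime → q ∣ Nat.card K → q ∈ Cfsg.sigma M' := by
      intro q hq hd
      obtain ⟨L, hL, hqL⟩ := IsOwner.exists_owner F hO hq (hd.trans (card_dvd_of_le le_sup_left))
      rcases hall L hL with rfl | rfl
      · exact absurd hqL (D.not_sigma hq hd)
      · exact hqL
    rw [hS]
    exact le_inf (F.s10.le_sigmaCore hM' ((le_sup_left.trans hZ₁.ge).trans D₁.sup_le_max) hσ) D.le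
  have hstar : kStar M' K₁ = K := le_antisymm hsK hK
  have hK₁ : K₁ = kStar M K := by
    refine le_antisymm ?_ hle
    intro a ha
    have haZ : a ∈ Z := hZ₁.le (mem_sup_left ha)
    rw [hZdef] at haZ
    obtain ⟨k, hk, y, hy, rfl⟩ := mem_kSup_iff.mp haZ
    have hkK₁ : k ∈ K₁ ⊓ kStar M' K₁ := ⟨by
      simpa using mul_mem ha (inv_mem (hle hy)), hK hk⟩
    rw [D₁.inf_kStar, mem_bot] at hkK₁
    rwa [hkK₁, one_mul]
  subst hK₁
  -- cyclicity
  have hnc : ¬ AllKappa M ∨ ¬ AllKappa M' := by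
    rcases hall H ⟨KH, DH, eH⟩ with rfl | rfl
    · exact Or.inl hnotK
    · exact Or.inr hnotK
  have hcyc : IsCyclic K ∧ IsCyclic (kStar M K) := by
    have key : ∀ {A L B : Subgroup G}, KData A L → ¬ AllKappa A → KData B (kStar A L) →
        IsCyclic L ∧ IsCyclic (kStar A L) := by
      intro A L B DA hA DB
      obtain ⟨hp, hn⟩ := DA.prime_card_of_not_allKappa F hA
      haveI := Fact.mk hp
      refine ⟨isCyclic_of_prime_card rfl, DB.isCyclic_of_nilpotent F ?_⟩
      haveI := hn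
      exact Group.nilpotent_of_mulEquiv (subgroupOfEquivOfLe (inf_le_left :
        kStar A L ≤ Cfsg.sigmaCore A))
    rcases hnc with h | h
    · exact key D h D₁
    · have h2 := key D₁ h (B := M) (by rw [hstar]; exact D)
      rw [hstar] at h2
      exact ⟨h2.2, h2.1⟩
  exact ⟨M', ⟨D, D₁, hstar⟩, hO', hneM, hall, hnc, hcyc⟩

theorem isCyclic : IsCyclic K := by
  obtain ⟨_, _, _, _, _, _, h, _⟩ := D.exists_pair F
  exact h

end KData

end Cfsg.Agent.OddOrder.BG14
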