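import Cfsg.Agent.OddOrder.BG14.KappaStar

/-!
# BG 14.3: the `σ'`-elements centralizing an element of `M_σ`
-/

set_option autoImplicit false
set_option linter.style.haveILetI false
set_option linter.unusedSectionVars false
set_option linter.unusedVariables false

universe u

namespace Cfsg.Agent.OddOrder.BG14

open Subgroup H40 BG11

variable {G : Type u} [Group G] [Finite G]

section S10

variable (S10 : Section10 G) {M : Subgroup G}
include S10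

theorem exists_elemAb_compl (hM : IsCoatom M) {E : Subgroup G}
    (hE : Cfsg.IsComplIn E (Cfsg.sigmaCore M) M) {p : ℕ} (hp : p ∈ Cfsg.tau2 M) :
    ∃ A : Subgroup G, A ≤ E ∧ Cfsg.IsElementaryAbelian p A ∧ Nat.card A = p ^ 2 := by
  haveI := Fact.mk hp.1
  obtain ⟨B, hBM, hB, hB2⟩ := exists_elemAb_sq hp.2.2.2
  obtain ⟨E', hE', hBE'⟩ := S10.exists_compl_ge hM hBM fun q hq hd => by
    rw [hB2] at hd
    exact Nat.prime_eq_prime_of_dvd_pow hq hp.1 hd ▸ hp.2.1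
  obtain ⟨m, hm, e⟩ := Coprime.exists_conj_hallOf (S10.isSolvable_max hM)
    (compl_isPiHallOf (S10.sigmaCore_hall M hM).1 hE')
    (compl_isPiHallOf (S10.sigmaCore_hall M hM).1 hE)
  exact ⟨cj m B, (cj_mono m hBE').trans e.le, elemAb_cj hB m, (card_cj m B).trans hB2⟩

/-- A maximal subgroup above `N(A)`, `A` of order `p ^ 2` for `p ∈ τ₂(M)`. -/
theorem sigma_of_normalizer_elemAb (hM : IsCoatom M) {E : Subgroup G}
    (hE : Cfsg.IsComplIn E (Cfsg.sigmaCore M) M) {p : ℕ} [Fact p.Prime] (hp : p ∈ Cfsg.tau2 M)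
    {A : Subgroup G} (hA : A ≤ E ∧ Cfsg.IsElementaryAbelian p A ∧ Nat.card A = p ^ 2)
    {L : Subgroup G} (hL : IsCoatom L) (hN : normalizer (A : Set G) ≤ L) :
    p ∈ Cfsg.sigma L ∧ L ≠ M ∧ E ≤ L := by
  obtain ⟨⟨hEA, -⟩, ⟨-, -, hnot⟩, -⟩ := S10.compl_structure hM hE hp hA
  have hAL : A ≤ L := le_normalizer.trans hN
  refine ⟨by_contra fun hσ => ?_, fun e => hnot (e ▸ hN), hEA.trans hN⟩
  have hp2 : p ∈ Cfsg.tau2 L :=
    ⟨hp.1, hσ, S10.pRankLE_two hL hσ, not_pRankLE_one hA.2.1 hA.2.2 hAL⟩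
  obtain ⟨E', hE', hAE'⟩ := S10.exists_compl_ge hL hAL fun q hq hd => by
    rw [hA.2.2] at hd
    exact Nat.prime_eq_prime_of_dvd_pow hq hp.1 hd ▸ hσ
  exact (S10.compl_structure hL hE' hp2 ⟨hAE', hA.2⟩).2.1.2.2 hN

/-- The `τ₂`-primes of `M` lie in `σ` of one maximal subgroup. -/
theorem exists_sigma_max (hM : IsCoatom M) {p : ℕ} (hp : p ∈ Cfsg.tau2 M) :
    ∃ L : Subgroup G, IsCoatom L ∧ ∀ q ∈ Cfsg.tau2 M, q ∈ Cfsg.sigma L := by
  haveI := Fact.mk hp.1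
  obtain ⟨E, hE⟩ := OddOrder.exists_compl (S10.sigmaCore_hall M hM).1
  obtain ⟨A, hA⟩ := exists_elemAb_compl S10 hM hE hp
  obtain ⟨L, hL, hN⟩ := exists_coatom_ge (normalizer_ne_top' S10.minSimple
    (ne_bot_of_card (hA.2.2 ▸ one_lt_pow₀ hp.1.one_lt two_ne_zero))
    (ne_top_of_le_coatom hM (hA.1.trans hE.1)))
  obtain ⟨hpL, hne, hEL⟩ := sigma_of_normalizer_elemAb S10 hM hE hp hA hL hN
  refine ⟨L, hL, fun q hq => ?_⟩
  haveI := Fact.mk hq.1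
  obtain ⟨B, hB⟩ := exists_elemAb_compl S10 hM hE hq
  by_contra hσ
  have hBL := hB.1.trans hEL
  have hq2 : q ∈ Cfsg.tau2 L :=
    ⟨hq.1, hσ, S10.pRankLE_two hL hσ, not_pRankLE_one hB.2.1 hB.2.2 hBL⟩
  obtain ⟨-, -, -, -, h5, -⟩ := S10.tauTwo_structure hL hq2 ⟨hBL, hB.2⟩
  refine ne_bot_of_card (hA.2.2 ▸ one_lt_pow₀ hp.1.one_lt two_ne_zero) (eq_bot_iff.mpr ?_)
  rw [← h5 M hM (Ne.symm hne) (hB.1.trans hE.1)]
  exact le_inf (S10.le_sigmaCore_of_isPGroup hL hpL (hA.1.trans hEL) (elemAb_isPGroup hA.2.1))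
    (hA.1.trans hE.1)

end S10

variable (h : BG13.Hyp G) (R : BG13.Results G) {M : Subgroup G}
include h R

/-- BG 14.3 (statement shape of S1432). -/
theorem sigma_element_cases (hM : IsCoatom M) {x : G} (hx : x ∈ Cfsg.sigmaCore M) (hx1 : x ≠ 1)
    {x' : G} (hx' : x' ∈ M ⊓ centralizer ({x} : Set G)) (hx'1 : x' ≠ 1)
    (hσ : ∀ p : ℕ, p.Prime → p ∣ orderOf x' → p ∉ Cfsg.sigma M) :
    ((∀ p : ℕ, p.Prime → p ∣ orderOf x' → p ∈ Cfsg.kappa M) ∧ centralizer ({x} : Set G) ≤ M) ∨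
      ((∀ p : ℕ, p.Prime → p ∣ orderOf x' → p ∈ Cfsg.tau2 M) ∧
        (∃ L : Subgroup G, IsCoatom L ∧ ∀ p : ℕ, p.Prime → p ∣ orderOf x' → p ∈ Cfsg.sigma L) ∧
        (centralizer ({x'} : Set G) ≤ M ∧
          ∀ L : Subgroup G, IsCoatom L → centralizer ({x'} : Set G) ≤ L → L = M)) := by
  have hcx : ∀ i : ℕ, x ∈ centralizer (zpowers (x' ^ i) : Set G) := fun i => by
    rw [BG13.centralizer_zpowers]
    exact centralizer_singleton_le_pow x' i (mem_centralizer_comm hx'.2)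
  have hsplit : ∀ p : ℕ, p.Prime → p ∣ orderOf x' → p ∈ Cfsg.kappa M ∨ p ∈ Cfsg.tau2 M :=
    fun p hp hd => by
    obtain ⟨i, hi⟩ := exists_pow_prime hd
    have hfix : ∀ h13 : p ∈ Cfsg.tau1 M ∪ Cfsg.tau3 M, p ∈ Cfsg.kappa M := fun h13 =>
      mem_kappa_of_fixed h.s10 h13 (zpowers_le.mpr (pow_mem hx'.1 i))
        (by rw [Nat.card_zpowers, hi]) fun e => hx1 (mem_bot.mp (e.le ⟨hx, hcx i⟩))
    rcases tau_cases' h.s10 hM hp (hd.trans (orderOf_dvd_natCard M hx'.1)) (hσ p hp hd) with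
      h' | h' | h'
    · exact Or.inl (hfix (Or.inl h'))
    · exact Or.inr h'
    · exact Or.inl (hfix (Or.inr h'))
  obtain ⟨r, hr, hrd⟩ := Nat.exists_prime_and_dvd (fun e => hx'1 (orderOf_eq_one_iff.mp e))
  rcases hsplit r hr hrd with hrκ | hrτ
  · refine Or.inl ⟨fun p hp hd => (hsplit p hp hd).resolve_right fun hpτ => ?_, ?_⟩
    · obtain ⟨i, hi⟩ := exists_pow_prime hrd
      obtain ⟨j, hj⟩ := exists_pow_prime hd
      exact semiregular h R hM (pow_mem hx'.1 i) (pow_mem hx'.1 j) (hi ▸ hrκ) (hj ▸ hp)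
        (hj ▸ hσ p hp hd) (hj ▸ fun hκ => OddOrder.kappa_disjoint_tau2 hκ hpτ)
        ((Commute.refl x').pow_pow i j)
    · obtain ⟨i, hi⟩ := exists_pow_prime hrd
      exact fixed_centralizer h R hM hrκ (zpowers_le.mpr (pow_mem hx'.1 i))
        (by rw [Nat.card_zpowers, hi]) hx (hcx i) hx1
  · have hall : ∀ p : ℕ, p.Prime → p ∣ orderOf x' → p ∈ Cfsg.tau2 M := fun p hp hd =>
      (hsplit p hp hd).resolve_left fun hpκ => by
        obtain ⟨i, hi⟩ := exists_pow_prime hd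
        obtain ⟨j, hj⟩ := exists_pow_prime hrd
        exact semiregular h R hM (pow_mem hx'.1 i) (pow_mem hx'.1 j) (hi ▸ hpκ) (hj ▸ hr)
          (hj ▸ hσ r hr hrd) (hj ▸ fun hκ => OddOrder.kappa_disjoint_tau2 hκ hrτ)
          ((Commute.refl x').pow_pow i j)
    refine Or.inr ⟨hall, ?_, h.s10.centralizer_tauTwo_element hM hx'.1 hx'1 hall
      ⟨hx'.1, x, hx, hx1, mem_centralizer_singleton_iff.mp hx'.2⟩⟩
    obtain ⟨L, hL, hLσ⟩ := exists_sigma_max h.s10 hM hrτ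
    exact ⟨L, hL, fun p hp hd => hLσ p (hall p hp hd)⟩

end Cfsg.Agent.OddOrder.BG14
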