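import Cfsg.Agent.OddOrder.BG14.TildeFacts
import Cfsg.Agent.OddOrder.Sigma.Basic
import Cfsg.Agent.OddOrder.PF8.Dade
import Cfsg.Agent.OddOrder.PF8.Transport

/-!
# The subgroups R(x) for x in M_σ, from the statements on centralisers
-/

set_option autoImplicit false

namespace Cfsg.Agent.OddOrder.BG14

open Subgroup

variable {G : Type*} [Group G] [Finite G] {M : Subgroup G}

omit [Finite G] in
theorem centralizer_conj (g x : G) :
    centralizer ({g * x * g⁻¹} : Set G) =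
      (centralizer ({x} : Set G)).map (MulAut.conj g).toMonoidHom := by
  ext y
  rw [Coprime.mem_map_conj, mem_centralizer_singleton_iff, mem_centralizer_singleton_iff]
  constructor
  · intro h
    calc g⁻¹ * y * g * x = g⁻¹ * (y * (g * x * g⁻¹)) * g := by group
      _ = x * (g⁻¹ * y * g) := by rw [h]; group
  · intro h
    calc y * (g * x * g⁻¹) = g * ((g⁻¹ * y * g) * x) * g⁻¹ := by group
      _ = g * x * g⁻¹ * y := by rw [h]; group

omit [Finite G] in
theorem mem_centralizer_self (x : G) : x ∈ centralizer ({x} : Set G) :=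
  mem_centralizer_singleton_iff.2 rfl

/-- An element of `M` whose order involves only primes of `σ(M)` lies in `M_σ`. -/
theorem mem_sigmaCore_of_primes (F : TildeFacts G) (hM : IsCoatom M) {x : G} (hx : x ∈ M)
    (hp : ∀ p : ℕ, p.Prime → p ∣ orderOf x → p ∈ Cfsg.sigma M) : x ∈ Cfsg.sigmaCore M := by
  have hn := (normal_subgroupOf_iff_le_normalizer (sigmaCore_le M)).2 (le_normalizer_sigmaCore M)
  have h1 : x ^ (Cfsg.sigmaCore M).relIndex M ∈ Cfsg.sigmaCore M :=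
    pow_index_mem ((Cfsg.sigmaCore M).subgroupOf M) ⟨x, hx⟩
  have hc : (orderOf x).Coprime ((Cfsg.sigmaCore M).relIndex M) :=
    Nat.coprime_of_dvd fun p h1 h2 h3 => (F.s1350 M hM).1.2.2 p h1 (hp p h1 h2) h3
  obtain ⟨m, hm⟩ := exists_pow_eq_self_of_coprime hc.symm
  rw [← hm]
  exact pow_mem h1 m

theorem sigma_of_mem {x : G} (hx : x ∈ Cfsg.sigmaCore M) {p : ℕ} (hp : p.Prime)
    (hd : p ∣ orderOf x) : p ∈ Cfsg.sigma M :=
  sigmaCore_isPiNumber M p hp (hd.trans (Subgroup.orderOf_dvd_natCard _ hx))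

theorem sigma_map_conj (g : G) :
    Cfsg.sigma (M.map (MulAut.conj g).toMonoidHom) = Cfsg.sigma M :=
  OddOrder.sigma_map _ M

omit [Finite G] in
/-- The two shapes of `R(x)`. -/
theorem support_cases (F : TildeFacts G) (hM : IsCoatom M) {x : G} (hx : x ∈ Cfsg.sigmaCore M)
    (hx1 : x ≠ 1) :
    (centralizer ({x} : Set G) ≤ M ∧ Cfsg.supportR M x = ⊥) ∨
      ∃ L : Subgroup G, IsCoatom L ∧ centralizer ({x} : Set G) ≤ L ∧
        ¬ centralizer ({x} : Set G) ≤ M ∧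
        (∀ L' : Subgroup G, IsCoatom L' → centralizer ({x} : Set G) ≤ L' → L' = L) ∧
        Cfsg.supportR M x = Cfsg.sigmaCore L ⊓ centralizer ({x} : Set G) ∧
        x ∉ Cfsg.sigmaCore L ∧ M ⊓ L ⊓ Cfsg.sigmaCore L = ⊥ ∧
        Cfsg.IsComplIn (M ⊓ centralizer ({x} : Set G)) (Cfsg.supportR M x)
          (centralizer ({x} : Set G)) ∧
        centralizer ({x} : Set G) ≤ normalizer ((Cfsg.supportR M x : Subgroup G) : Set G) := by
  by_cases h : centralizer ({x} : Set G) ≤ M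
  · exact Or.inl ⟨h, PF8.supportR_eq_bot h⟩
  obtain ⟨L, ⟨hL, hxL⟩, hu, hσ, hn, hc1, hc2, -⟩ := F.s1375 M hM x hx hx1 h
  have hR : Cfsg.supportR M x = Cfsg.sigmaCore L ⊓ centralizer ({x} : Set G) := by
    rw [PF8.supportR_eq h hL hxL ⟨L, ⟨hL, hxL⟩, fun L' hL' => hu L' hL'.1 hL'.2⟩, hσ]
  refine Or.inr ⟨L, hL, hxL, h, hu, hR, fun hxσ => ?_, hc2.2.2.1, hR ▸ hc1, hR ▸ hn⟩
  have hmem : x ∈ M ⊓ L ⊓ Cfsg.sigmaCore L :=
    ⟨⟨sigmaCore_le M hx, hxL (mem_centralizer_self x)⟩, hxσ⟩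
  rw [hc2.2.2.1, mem_bot] at hmem
  exact hx1 hmem

/-- `R(x)` commutes with conjugation. -/
theorem supportR_map (F : TildeFacts G) (hM : IsCoatom M) {x : G} (hx : x ∈ Cfsg.sigmaCore M)
    (hx1 : x ≠ 1) (g : G) :
    Cfsg.supportR (M.map (MulAut.conj g).toMonoidHom) (g * x * g⁻¹) =
      (Cfsg.supportR M x).map (MulAut.conj g).toMonoidHom := by
  rcases support_cases F hM hx hx1 with ⟨hC, hR⟩ | ⟨L, hL, hxL, hn, hu, hR, -⟩
  · rw [hR, Subgroup.map_bot, PF8.supportR_eq_bot]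
    rw [centralizer_conj]
    exact Subgroup.map_mono hC
  · rw [hR]
    have hxg : g * x * g⁻¹ ∈ Cfsg.sigmaCore (M.map (MulAut.conj g).toMonoidHom) := by
      rw [← OddOrder.sigmaCore_map]
      exact ⟨x, hx, rfl⟩
    have hx1' : g * x * g⁻¹ ≠ 1 := fun e => hx1 (conj_eq_one_iff.1 e)
    have hM' : IsCoatom (M.map (MulAut.conj g).toMonoidHom) := isCoatom_map _ hM
    rcases support_cases F hM' hxg hx1' with ⟨hC, -⟩ | ⟨L', hL', hxL', -, hu', hR', -⟩
    · refine absurd (fun y hy => ?_) hn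
      rw [centralizer_conj] at hC
      obtain ⟨z, hz, e⟩ := hC (mem_map_of_mem _ hy)
      exact (MulAut.conj g).injective e ▸ hz
    · have hle : centralizer ({g * x * g⁻¹} : Set G) ≤ L.map (MulAut.conj g).toMonoidHom := by
        rw [centralizer_conj]
        exact Subgroup.map_mono hxL
      rw [hR', ← hu' _ (isCoatom_map _ hL) hle, ← OddOrder.sigmaCore_map, centralizer_conj,
        Subgroup.map_inf _ _ _ (MulAut.conj g).injective]

/-- The conjugates of `M` containing `x` are equinumerous with `R(x)`. -/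
theorem exists_equiv_conjugates (F : TildeFacts G) (hM : IsCoatom M) {x : G}
    (hx : x ∈ Cfsg.sigmaCore M) (hx1 : x ≠ 1) :
    Nat.card {Q : Subgroup G // (∃ g : G, Q = M.map (MulAut.conj g).toMonoidHom) ∧ x ∈ Q} =
      Nat.card (Cfsg.supportR M x) := by
  obtain ⟨-, R, hn, hcompl, hR⟩ := F.s1374 M hM x hx hx1
  have hcard : Nat.card R = Nat.card (Cfsg.supportR M x) := by
    have h1 := H41.IsComplIn.card_eq hcompl
    rcases support_cases F hM hx hx1 with ⟨hC, h⟩ | ⟨L, -, -, -, -, -, -, -, hc, -⟩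
    · rw [h, card_bot]
      rw [inf_eq_right.2 hC] at h1
      exact Nat.eq_of_mul_eq_mul_left Nat.card_pos (h1.symm.trans (mul_one _).symm)
    · exact Nat.eq_of_mul_eq_mul_left Nat.card_pos (h1.symm.trans (H41.IsComplIn.card_eq hc))
  rw [← hcard]
  refine (Nat.card_congr (Equiv.ofBijective (fun r : R => (⟨M.map (MulAut.conj (r : G)).toMonoidHom,
    ⟨r, rfl⟩, ?_⟩ : {Q : Subgroup G //
      (∃ g : G, Q = M.map (MulAut.conj g).toMonoidHom) ∧ x ∈ Q})) ⟨?_, ?_⟩)).symm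
  · refine ⟨(r : G)⁻¹ * x * r, ?_, by show _ * _ * _ = x; group⟩
    have h : (r : G) * x = x * r := mem_centralizer_singleton_iff.1 (hcompl.2.1 r.2)
    rw [mul_assoc, ← h, inv_mul_cancel_left]
    exact sigmaCore_le M hx
  · intro a b hab
    have hxa : x ∈ M.map (MulAut.conj (a : G)).toMonoidHom := by
      refine ⟨(a : G)⁻¹ * x * a, ?_, by show _ * _ * _ = x; group⟩
      have h : (a : G) * x = x * a := mem_centralizer_singleton_iff.1 (hcompl.2.1 a.2)
      rw [mul_assoc, ← h, inv_mul_cancel_left]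
      exact sigmaCore_le M hx
    exact Subtype.ext ((hR a hxa).unique ⟨a.2, rfl⟩ ⟨b.2, (Subtype.mk.inj hab).symm⟩)
  · rintro ⟨Q, ⟨g, rfl⟩, hxQ⟩
    obtain ⟨r, ⟨hr, e⟩, -⟩ := hR g hxQ
    exact ⟨⟨r, hr⟩, Subtype.ext e⟩

/-- `R(x)` depends only on `x` and the class of `M`. -/
theorem supportR_eq_of_conj (hG : Cfsg.IsMinSimpleOddOrder G) (F : TildeFacts G) (hM : IsCoatom M)
    {g x : G} (hx : x ∈ Cfsg.sigmaCore M)
    (hxg : x ∈ Cfsg.sigmaCore (M.map (MulAut.conj g).toMonoidHom)) (hx1 : x ≠ 1) :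
    Cfsg.supportR (M.map (MulAut.conj g).toMonoidHom) x = Cfsg.supportR M x := by
  have hM' : IsCoatom (M.map (MulAut.conj g).toMonoidHom) := isCoatom_map _ hM
  by_cases hgM : g ∈ M
  · rw [(map_conj_max_eq_iff hG hM).2 hgM]
  have hne : ∀ (N : Subgroup G), IsCoatom N → x ∈ Cfsg.sigmaCore N → ∀ h : G,
      x ∈ N.map (MulAut.conj h).toMonoidHom → N.map (MulAut.conj h).toMonoidHom ≠ N →
      ¬ centralizer ({x} : Set G) ≤ N := by
    intro N hN hxN h hxh hne' hC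
    obtain ⟨-, R, -, hc, hR⟩ := F.s1374 N hN x hxN hx1
    have hRbot : R = ⊥ := by
      rw [← hc.2.2.1]
      exact (inf_eq_right.2 (hc.2.1.trans (le_inf hC le_rfl))).symm
    obtain ⟨r, ⟨hr, e⟩, -⟩ := hR h hxh
    rw [hRbot, mem_bot] at hr
    rw [hr, Coprime.map_conj_one] at e
    exact hne' e.symm
  have h1 := hne M hM hx g (sigmaCore_le _ hxg)
    fun e => hgM ((map_conj_max_eq_iff hG hM).1 e)
  have h2 : ¬ centralizer ({x} : Set G) ≤ M.map (MulAut.conj g).toMonoidHom := by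
    refine hne _ hM' hxg g⁻¹ ?_ ?_ <;> rw [Coprime.map_conj_map_conj, inv_mul_cancel,
      Coprime.map_conj_one]
    · exact sigmaCore_le M hx
    · exact fun e => hgM ((map_conj_max_eq_iff hG hM).1 e.symm)
  rcases support_cases F hM hx hx1 with ⟨hC, -⟩ | ⟨L, hL, hxL, -, hu, hR, -⟩
  · exact absurd hC h1
  rcases support_cases F hM' hxg hx1 with ⟨hC, -⟩ | ⟨L', hL', hxL', -, hu', hR', -⟩
  · exact absurd hC h2
  · rw [hR, hR', hu L' hL' hxL']

end Cfsg.Agent.OddOrder.BG14
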