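import Cfsg.Agent.OddOrder.BG13.Basic
import Cfsg.Agent.OddOrder.BG3.FrobeniusModule
import Cfsg.Agent.OddOrder.BG11.Abelian

/-!
# Tools for BG §14: primes of maximal subgroups outside `σ`
-/

set_option autoImplicit false
set_option linter.style.haveILetI false
set_option linter.unusedSectionVars false
set_option linter.unusedVariables false

universe u

namespace Cfsg.Agent.OddOrder.BG14

open Subgroup H40 BG11

variable {G : Type u} [Group G] [Finite G]

/-- A power of prime order of an element. -/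
theorem exists_pow_prime {x : G} {p : ℕ} (hd : p ∣ orderOf x) :
    ∃ k : ℕ, orderOf (x ^ k) = p :=
  ⟨_, orderOf_pow_orderOf_div (orderOf_pos x).ne' hd⟩

/-- An element of prime order in a nontrivial subgroup. -/
theorem exists_prime_elem {X : Subgroup G} (h : X ≠ ⊥) :
    ∃ z ∈ X, (orderOf z).Prime := by
  obtain ⟨z, hz, hz'⟩ := Coprime.exists_prime_orderOf_mem h
  exact ⟨z, hz, hz'⟩

theorem zpowers_le_centralizer {x y : G} (h : y ∈ centralizer ({x} : Set G)) :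
    zpowers y ≤ centralizer (zpowers x : Set G) := by
  rw [BG13.centralizer_zpowers]
  exact zpowers_le.mpr h

omit [Finite G] in
theorem mem_centralizer_comm {x y : G} (h : y ∈ centralizer ({x} : Set G)) :
    x ∈ centralizer ({y} : Set G) :=
  mem_centralizer_singleton_iff.mpr (mem_centralizer_singleton_iff.mp h).symm

omit [Finite G] in
theorem centralizer_singleton_le_pow (x : G) (k : ℕ) :
    centralizer ({x} : Set G) ≤ centralizer ({x ^ k} : Set G) := fun c hc =>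
  mem_centralizer_singleton_iff.mpr
    ((show Commute c x from mem_centralizer_singleton_iff.mp hc).pow_right k).eq

/-- An element of `K` splits off: the `E`-part and the `M_σ`-part of an element normalizing a
subgroup of `E`. -/
theorem split_normalizer {M E X : Subgroup G} (hE : Cfsg.IsComplIn E (Cfsg.sigmaCore M) M)
    (hX : X ≤ E) {e s : G} (he : e ∈ E) (hs : s ∈ Cfsg.sigmaCore M)
    (hn : e * s ∈ normalizer (X : Set G)) :
    s ∈ centralizer (X : Set G) ∧ e ∈ normalizer (X : Set G) := by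
  have hsn : ∀ x ∈ X, s * x * s⁻¹ * x⁻¹ ∈ Cfsg.sigmaCore M := fun x hx => by
    have h2 : x * s⁻¹ * x⁻¹ ∈ Cfsg.sigmaCore M :=
      (mem_normalizer_iff.mp (le_normalizer_sigmaCore M (hE.1 (hX hx))) s⁻¹).mp (inv_mem hs)
    have h3 : s * x * s⁻¹ * x⁻¹ = s * (x * s⁻¹ * x⁻¹) := by group
    rw [h3]; exact mul_mem hs h2
  have hs' : s ∈ centralizer (X : Set G) := mem_centralizer_iff.mpr fun x hx => by
    have h1 : e * s * x * (e * s)⁻¹ ∈ E := hX ((mem_normalizer_iff.mp hn x).mp hx)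
    have h2 : e⁻¹ * (e * s * x * (e * s)⁻¹) * e * x⁻¹ ∈ E :=
      mul_mem (mul_mem (mul_mem (inv_mem he) h1) he) (inv_mem (hX hx))
    have h3 : e⁻¹ * (e * s * x * (e * s)⁻¹) * e * x⁻¹ = s * x * s⁻¹ * x⁻¹ := by group
    have h4 : s * x * s⁻¹ * x⁻¹ ∈ E ⊓ Cfsg.sigmaCore M := ⟨h3 ▸ h2, hsn x hx⟩
    rw [hE.2.2.1, mem_bot, mul_inv_eq_one, mul_inv_eq_iff_eq_mul] at h4
    exact h4.symm
  refine ⟨hs', ?_⟩
  have h5 := mul_mem hn (inv_mem (centralizer_le_normalizer _ hs'))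
  simpa using h5

/-- A subgroup of a solvable `L` containing a normal `π`-subgroup with abelian quotient: a normal
Hall `π`-subgroup. -/
theorem exists_normal_hall {L : Subgroup G} (hs : Group.IsSolvable L) {π : Set ℕ}
    (h : ∀ q : ℕ, q.Prime → q ∣ Nat.card ↥⁅L, L⁆ → q ∈ π) :
    ∃ U : Subgroup G, Cfsg.IsPiHallOf π U L ∧ L ≤ normalizer (U : Set G) := by
  have := hs
  obtain ⟨U, hU, hle⟩ := (Hall.hallDom_of_isSolvable π L).exists_le
    (U := (⁅L, L⁆ : Subgroup G).subgroupOf L) (fun q hq hd => h q hq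
      (hd.trans (dvd_of_eq (Nat.card_congr (subgroupOfEquivOfLe (derived_le L)).toEquiv))))
  refine ⟨U.map L.subtype, Coprime.isPiHallOf_iff.mpr ⟨map_subtype_le _, by
    rwa [subgroupOf, comap_map_eq_self_of_injective L.subtype_injective]⟩, fun l hl => ?_⟩
  refine cj_eq_iff.mp (eq_of_le_of_card_ge ?_ (card_cj l _).ge)
  rintro _ ⟨_, ⟨u, hu, rfl⟩, rfl⟩
  refine ⟨⟨l * (u : G) * l⁻¹, L.mul_mem (L.mul_mem hl u.2) (L.inv_mem hl)⟩, ?_, rfl⟩
  have h1 : (⟨l * (u : G) * l⁻¹ * (u : G)⁻¹,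
      L.mul_mem (L.mul_mem (L.mul_mem hl u.2) (L.inv_mem hl)) (L.inv_mem u.2)⟩ : L) ∈ U :=
    hle (commutator_mem_commutator hl u.2)
  have h3 : (⟨l * (u : G) * l⁻¹ * (u : G)⁻¹,
      L.mul_mem (L.mul_mem (L.mul_mem hl u.2) (L.inv_mem hl)) (L.inv_mem u.2)⟩ : L) * u =
      ⟨l * (u : G) * l⁻¹, L.mul_mem (L.mul_mem hl u.2) (L.inv_mem hl)⟩ :=
    Subtype.ext (by simp)
  exact h3 ▸ U.mul_mem h1 hu

section S10

variable (S10 : Section10 G) {M : Subgroup G}
include S10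

theorem tau_cases' (hM : IsCoatom M) {p : ℕ} (hp : p.Prime) (hd : p ∣ Nat.card M)
    (hs : p ∉ Cfsg.sigma M) : p ∈ Cfsg.tau1 M ∨ p ∈ Cfsg.tau2 M ∨ p ∈ Cfsg.tau3 M :=
  OddOrder.tau_cases (S10.alpha_subset_sigma hM) hp hd hs

theorem mem_kappa_of_fixed {p : ℕ} (hp : p ∈ Cfsg.tau1 M ∪ Cfsg.tau3 M) {X : Subgroup G}
    (hXM : X ≤ M) (hX : Nat.card X = p)
    (hne : Cfsg.sigmaCore M ⊓ centralizer (X : Set G) ≠ ⊥) : p ∈ Cfsg.kappa M := by
  have hpp : p.Prime := hp.elim (fun h => h.1) fun h => h.1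
  have hs : p ∉ Cfsg.sigma M := hp.elim (fun h => h.2.1) fun h => h.2.1
  have hr : Cfsg.PRankLE p 1 M := hp.elim (fun h => h.2.2.2.2) fun h => h.2.2.2
  haveI := Fact.mk hpp
  have hd : p ∣ Nat.card M := hX ▸ card_dvd_of_le hXM
  refine ⟨hpp, hd, hs, fun P => ?_⟩
  have hP := isSylowOf_map P
  have hc : IsCyclic ↥((P : Subgroup M).map M.subtype) :=
    BG11.isCyclic_of_pRankLE_one (ne_two_of_mem_card S10.minSimple hd) hP.2.1
      (BG11.pRankLE_of_le hP.1 hr)
  refine ⟨isCyclic_of_injective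
    ((P : Subgroup M).equivMapOfInjective M.subtype M.subtype_injective).toMonoidHom
    ((P : Subgroup M).equivMapOfInjective M.subtype M.subtype_injective).injective, ?_⟩
  obtain ⟨m, hm, hle⟩ := BG11.exists_conj_le hP (IsPGroup.of_card (n := 1) (by rw [hX, pow_one])) hXM
  obtain ⟨x, hx, hx1⟩ := H41.exists_ne_one (BG13.ne_bot_of_prime_card (hX ▸ hpp))
  obtain ⟨y, ⟨hy, hyc⟩, hy1⟩ := H41.exists_ne_one hne
  obtain ⟨x', hx', e⟩ := hle (conj_mem_cj m hx)
  refine ⟨x', hx', fun e1 => ?_, m * y * m⁻¹,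
    (mem_normalizer_iff.mp (le_normalizer_sigmaCore M hm) y).mp hy, fun e1 => hy1 ?_, ?_⟩
  · refine hx1 ?_
    rw [e1] at e
    simpa using e.symm
  · simpa using e1
  · rw [show (x' : G) = m * x * m⁻¹ from e]
    have := mem_centralizer_iff.mp hyc x hx
    calc m * x * m⁻¹ * (m * y * m⁻¹) = m * (x * y) * m⁻¹ := by group
      _ = m * (y * x) * m⁻¹ := by rw [this]
      _ = _ := by group

omit S10 in
/-- Subgroups of order `p` of a Sylow-cyclic `M` are conjugate; those normalizing each other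
coincide. -/
theorem eq_of_prime_card {p : ℕ} [hp : Fact p.Prime] (hp2 : p ≠ 2) (hr : Cfsg.PRankLE p 1 M)
    {X Y : Subgroup G} (hX : X ≤ M) (hY : Y ≤ M) (hXc : Nat.card X = p) (hYc : Nat.card Y = p)
    (hn : X ≤ normalizer (Y : Set G)) : X = Y := by
  have hYp : IsPGroup p Y := IsPGroup.of_card (n := 1) (by rw [hYc, pow_one])
  have hXp : IsPGroup p X := IsPGroup.of_card (n := 1) (by rw [hXc, pow_one])
  have hXY : IsPGroup p ↥(X ⊔ Y) := hXp.to_sup_of_normal_right' hYp hn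
  exact H41.eq_of_card_eq_of_le_cyclic
    (BG11.isCyclic_of_pRankLE_one hp2 hXY (BG11.pRankLE_of_le (sup_le hX hY) hr))
    le_sup_left le_sup_right (hXc.trans hYc.symm)

theorem exists_fixed_of_kappa {p : ℕ} (h : p ∈ Cfsg.kappa M) {X : Subgroup G} (hXM : X ≤ M)
    (hX : Nat.card X = p) : Cfsg.sigmaCore M ⊓ centralizer (X : Set G) ≠ ⊥ := by
  haveI := Fact.mk h.1
  obtain ⟨S, hS, hXS⟩ := exists_sylowOf_ge' (IsPGroup.of_card (n := 1) (by rw [hX, pow_one])) hXM
  obtain ⟨P, rfl⟩ := exists_sylow_eq hS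
  obtain ⟨hc, x, hx, hx1, y, hy, hy1, hxy⟩ := h.2.2.2 P
  set S := (P : Subgroup M).map M.subtype
  have hcS : IsCyclic S := isCyclic_of_surjective
    ((P : Subgroup M).equivMapOfInjective M.subtype M.subtype_injective).toMonoidHom
    ((P : Subgroup M).equivMapOfInjective M.subtype M.subtype_injective).surjective
  have hxS : (x : G) ∈ S := ⟨x, hx, rfl⟩
  have hx1' : (x : G) ≠ 1 := fun e => hx1 (Subtype.ext e)
  obtain ⟨k, hk⟩ := IsPGroup.iff_orderOf.mp hS.2.1 ⟨x, hxS⟩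
  rw [Subgroup.orderOf_mk] at hk
  have hd : p ∣ orderOf (x : G) := by
    rcases k with _ | k
    · rw [pow_zero] at hk; exact absurd (orderOf_eq_one_iff.mp hk) hx1'
    · exact hk ▸ dvd_pow_self p k.succ_ne_zero
  obtain ⟨j, hj⟩ := exists_pow_prime hd
  have e : zpowers ((x : G) ^ j) = X :=
    H41.eq_of_card_eq_of_le_cyclic hcS (zpowers_le.mpr (pow_mem hxS j)) hXS
      (by rw [Nat.card_zpowers, hj, hX])
  intro h0
  refine hy1 (mem_bot.mp (h0.le ⟨hy, ?_⟩))
  rw [← e, BG13.centralizer_zpowers]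
  exact centralizer_singleton_le_pow _ j (mem_centralizer_singleton_iff.mpr hxy.symm)

theorem dvd_compl (hM : IsCoatom M) {E : Subgroup G}
    (hE : Cfsg.IsComplIn E (Cfsg.sigmaCore M) M) {q : ℕ} (hq : q.Prime) (hd : q ∣ Nat.card M)
    (hs : q ∉ Cfsg.sigma M) : q ∣ Nat.card E := by
  rw [H41.IsComplIn.card_eq hE] at hd
  exact (hq.dvd_mul.mp hd).resolve_right fun h => hs (sigmaCore_isPiNumber M q hq h)

omit S10 in
theorem not_sigma_of_mem {x : G} (hσ : ∀ p : ℕ, p.Prime → p ∣ orderOf x → p ∉ Cfsg.sigma M)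
    {q : ℕ} (hq : q.Prime) (hd : q ∣ Nat.card (zpowers x)) : q ∉ Cfsg.sigma M :=
  hσ q hq (Nat.card_zpowers x ▸ hd)

end S10

end Cfsg.Agent.OddOrder.BG14
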