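import Cfsg.Agent.OddOrder.BG14.TypePTwoFix
import Cfsg.Agent.Coprime.Generation

/-!
# BG 14.12: the maximal subgroup over the normalizer of a Sylow subgroup of `U`
-/

set_option autoImplicit false
set_option linter.style.haveILetI false

universe u

namespace Cfsg.Agent.OddOrder.BG14

open Subgroup
open Cfsg.Agent.H40 (cj mem_cj cj_mul cj_one conj_mem_cj cj_eq_iff card_cj)

variable {G : Type u} [Group G] [Finite G]

theorem le_fittingOf {N E : Subgroup G} (hNE : N ≤ E) (hn : E ≤ normalizer (N : Set G))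
    (hnil : Group.IsNilpotent N) : N ≤ Cfsg.fittingOf E := by
  haveI : (N.subgroupOf E).Normal := normal_subgroupOf_of_le_normalizer hn
  haveI := hnil
  have h : N.subgroupOf E ≤ Cfsg.fittingSubgroup E :=
    le_sSup ⟨inferInstance, Group.nilpotent_of_mulEquiv (subgroupOfEquivOfLe hNE).symm⟩
  intro x hx
  exact ⟨⟨x, hNE hx⟩, h hx, rfl⟩

namespace Setting

variable {M K M' H : Subgroup G} (S : Setting M K M' H) (F : Inputs G)
include S F

/-- `K` lies in a normal nilpotent subgroup of a complement `E` of `H_σ`, and `E ≤ M*`. -/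
theorem compl_spec (hemb : EmbeddingKappa G) (hr : ∃ p ∈ Cfsg.sigma H, p ∣ Nat.card M)
    {E : Subgroup G} (hE : Cfsg.IsComplIn E (Cfsg.sigmaCore H) H) (hKE : K ≤ E) :
    E ≤ M' ∧ K ≤ Cfsg.fittingOf E := by
  haveI := Fact.mk S.prime
  set q := Nat.card K with hq
  have hKM' : K ≤ kStar M' (kStar M K) := S.pair.star.ge
  have hK1 : K ≠ ⊥ := BG13.ne_bot_of_prime_card S.prime
  have hNK : normalizer (K : Set G) ≤ M' := S.pair.data'.normalizer_le F hKM' hK1
  have hqH : q ∣ Nat.card H := card_dvd_of_le S.le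
  haveI hKc : IsCyclic K := isCyclic_of_prime_card rfl
  have hKn : Group.IsNilpotent K := (IsPGroup.of_card (n := 1) (by rw [pow_one])).isNilpotent
  rcases tau_cases (F.s10.alpha_subset_sigma S.max) S.prime hqH S.not_sigma with h1 | h2 | h3
  · -- `q ∈ τ₁(H)`: `K` centralizes `E'`
    have hE'c : IsMulCommutative ↥⁅E, E⁆ := F.s10.commute_compl_derived S.max hE
    haveI := hE'c
    have hE'E : ⁅E, E⁆ ≤ E := BG11.derived_le E
    have hKn' : K ≤ normalizer ((⁅E, E⁆ : Subgroup G) : Set G) :=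
      hKE.trans (BG11.le_normalizer_derived E)
    have hnotdvd : ¬ q ∣ Nat.card ↥⁅E, E⁆ := fun hd =>
      h1.2.2.2.1 (hd.trans (card_dvd_of_le (commutator_mono hE.1 hE.1)))
    have hcent : ⁅E, E⁆ ≤ centralizer (K : Set G) := by
      refine Coprime.le_of_exists_sylow_le fun s hs => ?_
      haveI := Fact.mk hs
      obtain ⟨Q⟩ : Nonempty (Sylow s ↥⁅E, E⁆) := inferInstance
      refine ⟨Q, ?_⟩
      set T := (Q : Subgroup ↥⁅E, E⁆).map (⁅E, E⁆).subtype
      rcases eq_or_ne T ⊥ with h0 | h0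
      · rw [h0]; exact bot_le
      have hTp : IsPGroup s T := Q.isPGroup'.map _
      have hTd : s ∣ Nat.card ↥⁅E, E⁆ :=
        (BG13.dvd_card_of_pGroup hTp h0).trans (card_dvd_of_le (map_subtype_le _))
      have hKT : K ≤ normalizer (T : Set G) := by
        intro k hk
        refine cj_eq_iff.mp (eq_of_le_of_card_ge ?_ (card_cj k T).ge)
        haveI : (Q : Subgroup ↥⁅E, E⁆).Normal := inferInstance
        haveI := (Q.unique_of_normal inferInstance).instSubsingleton
        obtain ⟨Q', hQ'⟩ := (((hTp.map (MulAut.conj k).toMonoidHom)).comap_subtype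
          (K := ⁅E, E⁆)).exists_le_sylow
        intro z hz
        have hzE : z ∈ ⁅E, E⁆ := by
          have h := map_mono (f := (MulAut.conj k).toMonoidHom)
            (map_subtype_le (Q : Subgroup ↥⁅E, E⁆)) hz
          exact (cj_eq_iff.mpr (hKn' hk)).le h
        exact ⟨⟨z, hzE⟩, (Subsingleton.elim Q' Q) ▸ hQ' hz, rfl⟩
      have hTE : T ≤ H := (map_subtype_le _).trans (hE'E.trans hE.1)
      rw [le_centralizer_iff]
      exact S.le_centralizer F hemb
        (BG11.not_mem_sigma_of_dvd_compl (F.s10.sigmaCore_hall H S.max).1 hE hs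
          (hTd.trans (card_dvd_of_le hE'E)))
        (fun e => hnotdvd ((show s = q from e) ▸ hTd)) (fun _ => hr) hTp hTE hKT
    have hEK : E ≤ normalizer (K : Set G) := by
      refine le_trans (fun e he => ?_) (H41.centralizer_le_normalizer K)
      refine mem_centralizer_iff.mpr fun k hk => ?_
      have hc : e * k * e⁻¹ * k⁻¹ ∈ ⁅E, E⁆ := commutator_mem_commutator he (hKE hk)
      set c := e * k * e⁻¹ * k⁻¹ with hcdef
      have hcomm : Commute c k := (mem_centralizer_iff.mp (hcent hc) k hk).symm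
      have hek : e * k * e⁻¹ = c * k := by rw [hcdef, inv_mul_cancel_right]
      have hpow : ∀ a : G, a ∈ K → a ^ q = 1 := fun a ha => by
        obtain ⟨j, hj⟩ := orderOf_dvd_natCard K ha
        rw [hq, hj, pow_mul, pow_orderOf_eq_one, one_pow]
      have hcq : c ^ q = 1 := by
        have h' : (c * k) ^ q = 1 := by rw [← hek, conj_pow, hpow k hk, mul_one, mul_inv_cancel]
        rwa [hcomm.mul_pow, hpow k hk, mul_one] at h'
      have hc1 : c = 1 := by
        rcases (Nat.dvd_prime S.prime).mp (orderOf_dvd_of_pow_eq_one hcq) with ho | ho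
        · exact orderOf_eq_one_iff.mp ho
        · exact absurd ((dvd_of_eq (show q = orderOf c from ho.symm)).trans (orderOf_dvd_natCard _ hc)) hnotdvd
      rw [hc1, one_mul] at hek
      exact (mul_inv_eq_iff_eq_mul.mp hek).symm
    exact ⟨hEK.trans hNK, le_fittingOf hKE hEK hKn⟩
  · -- `q ∈ τ₂(H)`
    obtain ⟨A, hA⟩ := exists_elemAb_compl F.s10 S.max hE h2
    obtain ⟨⟨hEA, hall⟩, -, -⟩ := F.s10.compl_structure S.max hE h2 hA
    have hKA : K ≤ A := hall K hKE rfl
    haveI := hA.2.1.1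
    have hAM' : A ≤ M' := (fun a ha => S.centralizer_le' F
      (mem_centralizer_iff.mpr fun k hk => H40.elemAb_commute hA.2.1 (hKA hk) ha))
    have hAp : IsPGroup q A := H40.elemAb_isPGroup hA.2.1
    have hnc : ¬ IsCyclic A := fun h => by
      haveI := h
      have := cyclic_pRankLE_one (A := A) (p := q) S.prime.pos
      have h' := BG11.card_le_of_pRankLE this le_rfl hA.2.1
      rw [hA.2.2, pow_one] at h'
      nlinarith [S.prime.two_le]
    exact ⟨(hEA.trans (F.s10.normalizer_le_of_not_isCyclic S.pair.data'.max (S.sigma' F) hAp hAM' hnc)),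
      hKA.trans (le_fittingOf hA.1 hEA hAp.isNilpotent)⟩
  · -- `q ∈ τ₃(H)`
    obtain ⟨E₃, hE₃, hKE₃⟩ := exists_hallOf_ge (π := Cfsg.tau3 H)
      (isSolvable_of_le_max F.minSimple S.max hE.1) hKE
      (fun p hp hd => (Nat.prime_dvd_prime_iff_eq hp S.prime).mp hd ▸ h3)
    obtain ⟨hcyc, -, hn⟩ := (F.hyp.tau13_structure H S.max E hE).2.2 E₃ hE₃
    have hEK : E ≤ normalizer (K : Set G) := hn.trans (BG13.normalizer_le_of_cyclic hcyc hKE₃)
    exact ⟨hEK.trans hNK, le_fittingOf hKE hEK hKn⟩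

end Setting

/-- **BG 14.12** (statement shape of S1435). -/
theorem type_p2_normalizer (F : Inputs G) (hemb : EmbeddingKappa G) {M K U M' : Subgroup G}
    (hM : IsCoatom M) (hKU : Cfsg.IsSigmaDecomposition M K U) (hK1 : K ≠ ⊥)
    (hM' : IsCoatom M')
    (hKst : K = Cfsg.sigmaCore M' ⊓ centralizer ((kStar M K : Subgroup G) : Set G))
    {r : ℕ} [hr : Fact r.Prime] (hrU : r ∣ Nat.card U) (R : Sylow r U) {H : Subgroup G}
    (hH : IsCoatom H) (hNR : normalizer (((R : Subgroup U).map U.subtype : Subgroup G) : Set G) ≤ H) :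
    Cfsg.kappa H = ∅ ∧ U ≤ Cfsg.sigmaCore H ∧ M ⊓ H = U ⊔ K ∧
      ¬ H ⊓ normalizer (U : Set G) ≤ M ∧ K ≤ Cfsg.fittingOf (H ⊓ M') ∧
      Cfsg.IsComplIn (H ⊓ M') (Cfsg.sigmaCore H) H := by
  obtain ⟨P, -⟩ := pair_of_star F hM hKU hK1 hM' hKst
  have hU : U ≤ M := decomp_le hKU
  have hrσκ := P.data.not_dvd_compl F hKU hr.out hrU
  have hnot : ¬ AllKappa M := fun h =>
    hrσκ.2 (h r hr.out (hrU.trans (card_dvd_of_le hU)) hrσκ.1)
  obtain ⟨hqp, -⟩ := P.data.prime_card_of_not_allKappa F hnot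
  obtain ⟨-, ⟨U₀, hU₀c, hU₀, -, -⟩, -⟩ := F.s1430 M hM K hKU.hall hK1
  -- `U` is a Hall subgroup, so abelian
  have hUhall : Cfsg.IsPiHallOf {q | q.Prime ∧ q ∉ Cfsg.kappa M ∧ q ∉ Cfsg.sigma M} U M := by
    refine ⟨hU, fun q hq hd => ⟨hq, (P.data.not_dvd_compl F hKU hq hd).2,
      (P.data.not_dvd_compl F hKU hq hd).1⟩, fun q hq hπ hd => ?_⟩
    have h1 := BG13.card_mul_relIndex hU
    rw [P.data.card_mul hKU] at h1
    rw [Nat.eq_of_mul_eq_mul_left Nat.card_pos h1] at hd
    rcases hq.dvd_mul.mp hd with h | h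
    · exact hπ.2.2 (sigmaCore_isPiNumber M q hq h)
    · exact hπ.2.1 (P.data.prime_mem hq h)
  haveI hUc : IsMulCommutative U := by
    obtain ⟨m, -, e⟩ := Coprime.exists_conj_hallOf (isSolvable_max F.minSimple hM) hU₀ hUhall
    haveI := hU₀c
    rw [← e]
    exact Subgroup.map_isMulCommutative _ _
  set R₀ := (R : Subgroup U).map U.subtype with hR₀
  have hR₀U : R₀ ≤ U := map_subtype_le _
  haveI : (R : Subgroup U).Normal := inferInstance
  haveI := (R.unique_of_normal inferInstance).instSubsingleton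
  have hmemR : ∀ z ∈ U, ∀ n : ℕ, z ^ r ^ n = 1 → z ∈ R₀ := by
    intro z hz n hn
    have hp : IsPGroup r (zpowers (⟨z, hz⟩ : U)) := by
      obtain ⟨j, -, hj⟩ := (Nat.dvd_prime_pow hr.out).mp
        (orderOf_dvd_of_pow_eq_one (x := (⟨z, hz⟩ : U)) (n := r ^ n) (Subtype.ext (by simpa using hn)))
      exact IsPGroup.of_card (n := j) (by rw [Nat.card_zpowers, hj])
    obtain ⟨R', hR'⟩ := hp.exists_le_sylow
    exact ⟨⟨z, hz⟩, (Subsingleton.elim R' R) ▸ hR' (mem_zpowers _), rfl⟩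
  have hKR : K ≤ normalizer (R₀ : Set G) := by
    intro k hk
    refine cj_eq_iff.mp (eq_of_le_of_card_ge (fun z hz => ?_) (card_cj k R₀).ge)
    obtain ⟨n, hn⟩ := (R.isPGroup'.map U.subtype).map (MulAut.conj k).toMonoidHom ⟨z, hz⟩
    exact hmemR z ((cj_eq_iff.mpr (hKU.normal hk)).le (map_mono hR₀U hz)) n
      (congrArg Subtype.val hn)
  have hUR : U ≤ normalizer (R₀ : Set G) := by
    intro u hu
    refine (H41.centralizer_le_normalizer R₀) (mem_centralizer_iff.mpr fun z hz => ?_)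
    exact congrArg Subtype.val (mul_comm' (⟨z, hR₀U hz⟩ : U) ⟨u, hu⟩)
  have hKH : K ≤ H := hKR.trans hNR
  have hUH : U ≤ H := hUR.trans hNR
  -- `H` is conjugate neither to `M` nor to `M*`
  have hR₀card : Nat.card R₀ = r ^ (Nat.card M).factorization r := by
    rw [hR₀, card_map_of_injective U.subtype_injective, R.card_eq_multiplicity,
      ← BG13.card_mul_relIndex hU]
    congr 1
    rw [Nat.factorization_mul Nat.card_pos.ne'
      (show U.relIndex M ≠ 0 from index_ne_zero_of_finite (H := U.subgroupOf M)),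
      Finsupp.add_apply, Nat.factorization_eq_zero_of_not_dvd (n := U.relIndex M)
        (hUhall.2.2 r hr.out ⟨hr.out, hrσκ.2, hrσκ.1⟩), add_zero]
  have hne : ∀ g : G, H ≠ cj g M := by
    intro g hg
    obtain ⟨T, hT⟩ := BG11.exists_sylow_eq (p := r) (P := R₀) (M := H)
      ⟨hR₀U.trans hUH, R.isPGroup'.map _, by rw [hR₀card, hg, card_cj]⟩
    refine hrσκ.1 ?_
    rw [← sigma_map_conj (M := M) g]
    refine ⟨hr.out, ?_, ?_⟩
    · rw [card_cj]; exact hrU.trans (card_dvd_of_le hU)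
    · rw [show M.map (MulAut.conj g).toMonoidHom = H from hg.symm]
      exact ⟨T, by rw [hT]; exact hNR⟩
  obtain ⟨k, hk, hkp⟩ := exists_mem_orderOf_prime P.data.ne_bot
  have hk1 : k ≠ 1 := fun e => hkp.ne_one (by rw [e, orderOf_one])
  have hne' : ∀ g : G, H ≠ cj g M' := by
    intro g hg
    have hgM' : g ∈ M' := P.data'.mem_of_conj_mem F (P.star.ge hk) hk1 (hg ▸ hKH hk)
    have hHM' : H = M' := hg.trans (BG11.cj_eq_of_mem hgM')
    obtain ⟨a, ha, hap⟩ := exists_mem_orderOf_prime (X := R₀) (by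
      intro e
      rw [e, card_bot] at hR₀card
      have hd := hrU.trans (card_dvd_of_le hU)
      exact (Nat.Prime.factorization_pos_of_dvd hr.out Nat.card_pos.ne' hd).ne'
        ((Nat.pow_eq_one.mp hR₀card.symm).resolve_left hr.out.ne_one))
    have haZ : a ∈ K ⊔ kStar M K := by
      rw [← P.inf_eq F]
      exact ⟨hU (hR₀U ha), hHM' ▸ hUH (hR₀U ha)⟩
    have hd : orderOf a ∣ Nat.card U := orderOf_dvd_natCard _ (hR₀U ha)
    obtain ⟨hσ, hκ⟩ := P.data.not_dvd_compl F hKU hap hd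
    exact hκ (P.data.prime_mem hap (orderOf_dvd_natCard _
      (P.data.mem_of_mem_sup haZ fun p hp hpd => (Nat.prime_dvd_prime_iff_eq hp hap).mp hpd ▸ hσ)))
  have hqσ : Nat.card K ∉ Cfsg.sigma H := by
    intro hq
    obtain ⟨g, hg⟩ := F.res.sigma_disjoint M' H P.data'.max hH
      ⟨_, sigmaCore_isPiNumber M' _ hqp (card_dvd_of_le P.le'), hq⟩
    exact hne' g hg
  have hκH : Cfsg.kappa H = ∅ := by
    by_contra h
    obtain ⟨g, hg | hg⟩ := P.exists_conj_of_kappa F hH (Set.nonempty_iff_ne_empty.mpr h)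
    · exact hne g hg
    · exact hne' g hg
  have hnil : Group.IsNilpotent (Cfsg.sigmaCore H) := by
    haveI := Fact.mk hqp
    obtain ⟨T⟩ : Nonempty (Sylow (Nat.card K) H) := inferInstance
    refine (F.s1429 H hH (fun h => ?_) _ (card_dvd_of_le hKH) ?_ T).2.2
    · have := h _ hqp (card_dvd_of_le hKH) hqσ
      rw [hκH] at this
      exact this
    · rw [hκH, Set.union_empty]; exact hqσ
  have hfpf : Cfsg.sigmaCore H ⊓ centralizer (K : Set G) = ⊥ := by
    by_contra h
    obtain ⟨x, hx, hxp⟩ := exists_mem_orderOf_prime h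
    have hx1 : x ≠ 1 := fun e => hxp.ne_one (by rw [e, orderOf_one])
    have hkq : orderOf k = Nat.card K := by
      rw [← Nat.card_zpowers, BG13.zpowers_eq_of_prime_card hqp hk hk1]
    rcases F.tilde.s1432 H hH x hx.1 hx1 k
      ⟨hKH hk, mem_centralizer_singleton_iff.mpr (mem_centralizer_iff.mp hx.2 k hk)⟩ hk1
      (fun p hp hd => by
        rw [hkq, Nat.prime_dvd_prime_iff_eq hp hqp] at hd
        exact hd ▸ hqσ) with ⟨h', -⟩ | ⟨-, -, -, huniq⟩
    · have := h' _ hqp (hkq ▸ dvd_rfl)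
      rw [hκH] at this
      exact this
    · refine hne' 1 ?_
      rw [cj_one]
      refine (huniq M' P.data'.max ?_).symm
      rw [← BG13.centralizer_zpowers, BG13.zpowers_eq_of_prime_card hqp hk hk1]
      exact (P.unique_maximal' F le_rfl hqp).1
  have S : Setting M K M' H :=
    ⟨P, hqp, hH, hKH, hne, hne', hqσ, hκH, hnil, hfpf⟩
  have hfree : ∀ u ∈ U, u ∈ centralizer (K : Set G) → u = 1 := by
    intro u hu huc
    have hZ := P.data.inf_centralizer_le F hk hk1
      ⟨hU hu, mem_centralizer_singleton_iff.mpr (mem_centralizer_iff.mp huc k hk).symm⟩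
    have h1 := P.data.mem_of_mem_sup hZ fun p hp hd =>
      (P.data.not_dvd_compl F hKU hp (hd.trans (orderOf_dvd_natCard _ hu))).1
    have h2 : u ∈ K ⊓ (U ⊔ Cfsg.sigmaCore M) := ⟨h1, mem_sup_left hu⟩
    rw [P.data.inf_UMσ F hKU, mem_bot] at h2
    exact h2
  -- all primes of `U` are in `σ(H)`
  have hUσ : ∀ s : ℕ, s.Prime → s ∣ Nat.card U → s ∈ Cfsg.sigma H := by
    intro s hs hd
    by_contra hsσ
    haveI := Fact.mk hs
    obtain ⟨a, ha⟩ := exists_prime_orderOf_dvd_card' (G := ↥U) s hd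
    set T := omegaAb U hUc s
    have hT : IsPGroup s T := H40.elemAb_isPGroup (isElementaryAbelian_omegaAb U hUc s)
    have hc := S.le_centralizer F hemb hsσ
      (fun e => (P.data.not_dvd_compl F hKU hs hd).2 (e ▸ P.data.prime_mem hqp dvd_rfl))
      (fun h => absurd h (P.data.not_dvd_compl F hKU hs hd).1) hT (fun z hz => hUH hz.1)
      (le_normalizer_omegaAb hUc s hKU.normal)
    have hmem : (a : G) ∈ T := ⟨a.2, by rw [← ha, ← SubmonoidClass.coe_pow, pow_orderOf_eq_one]; rfl⟩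
    have h1 := hfree a a.2 (mem_centralizer_iff.mpr fun y hy =>
      (mem_centralizer_iff.mp (hc hy) a hmem).symm)
    exact hs.ne_one (by rw [← ha, orderOf_eq_one_iff]; exact Subtype.ext h1)
  have hUσH : U ≤ Cfsg.sigmaCore H := F.s10.le_sigmaCore hH hUH hUσ
  -- `M_σ ∩ H = 1`
  have hT1 : Cfsg.sigmaCore M ⊓ H = ⊥ := by
    obtain ⟨T⟩ : Nonempty (Sylow r M) := inferInstance
    obtain ⟨T', hT'⟩ := BG11.exists_sylow_eq (p := r) (P := R₀) (M := M)
      ⟨hR₀U.trans hU, R.isPGroup'.map _, hR₀card⟩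
    obtain ⟨-, hA1, -⟩ := F.s1429 M hM hnot r (hrU.trans (card_dvd_of_le hU))
      (by simp [hrσκ.1, hrσκ.2]) T'
    rw [eq_bot_iff, ← hA1]
    refine le_inf inf_le_left fun t ht => mem_centralizer_iff.mpr fun a ha => ?_
    have hdis : Cfsg.sigmaCore M ⊓ Cfsg.sigmaCore H = ⊥ := inf_sigmaCore_eq_bot fun p h1 h2 => by
      obtain ⟨g, hg⟩ := F.res.sigma_disjoint M H hM hH ⟨p, h1, h2⟩
      exact hne g hg
    have haU : a ∈ R₀ := by
      rw [← hT']
      exact (closure_le _).mpr (fun z hz => hz.1) ha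
    exact (commute_inf_cores hdis ht ⟨hUσH (hR₀U haU), hU (hR₀U haU)⟩).symm
  have hMH : M ⊓ H = U ⊔ K := by
    refine le_antisymm (fun m hm => ?_) (sup_le (le_inf hU hUH) (le_inf P.data.le hKH))
    obtain ⟨u, hu, b, hb, rfl⟩ := hKU.compl.2.2.2 m hm.1
    rw [sup_comm K, Coprime.mem_sup_iff (P.data.le.trans (le_normalizer_sigmaCore M))] at hb
    obtain ⟨n, hn, k', hk', rfl⟩ := hb
    have hn1 : n ∈ Cfsg.sigmaCore M ⊓ H := mem_inf.mpr ⟨hn, by
      have h1 : u⁻¹ * (u * (n * k')) * k'⁻¹ ∈ H :=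
        mul_mem (mul_mem (inv_mem (hUH hu)) (mem_inf.mp hm).2) (inv_mem (hKH hk'))
      simpa [mul_assoc] using h1⟩
    rw [hT1, mem_bot] at hn1
    rw [hn1, one_mul]
    exact mul_mem_sup hu hk'
  have hqU : ∀ u ∈ U ⊔ K, u ∈ Cfsg.sigmaCore H → u ∈ U := by
    intro z hz hzσ
    rw [Coprime.mem_sup_iff hKU.normal] at hz
    obtain ⟨u, hu, k', hk', rfl⟩ := hz
    have hk'σ : k' ∈ Cfsg.sigmaCore H := by simpa using mul_mem (inv_mem (hUσH hu)) hzσ
    rcases eq_or_ne k' 1 with rfl | hne1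
    · rwa [mul_one]
    · exfalso
      refine hqσ ?_
      have ho : orderOf k' = Nat.card K := by
        rw [← Nat.card_zpowers, BG13.zpowers_eq_of_prime_card hqp hk' hne1]
      exact ho ▸ sigma_of_mem hk'σ (ho ▸ hqp) dvd_rfl
  refine ⟨hκH, hUσH, hMH, fun hle => ?_, ?_⟩
  · -- the normalizer condition in `H_σ`
    haveI := hnil
    rcases eq_or_lt_of_le hUσH with he | hlt
    · have hN : normalizer (U : Set G) = H := normalizer_eq_max F.minSimple hH hUH (by
          intro e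
          rw [e, card_bot] at hrU
          exact hr.out.not_dvd_one hrU) (he ▸ le_normalizer_sigmaCore H)
      rw [hN, inf_idem] at hle
      refine hne 1 ?_
      rw [cj_one]
      exact ((hH.le_iff.mp hle).resolve_left hM.1).symm
    · have h := normalizerCondition_of_isNilpotent (G := ↥(Cfsg.sigmaCore H))
        (U.subgroupOf (Cfsg.sigmaCore H)) (lt_top_iff_ne_top.mpr fun e =>
          hlt.not_ge (subgroupOf_eq_top.mp e))
      obtain ⟨z, hz, hzU⟩ := SetLike.exists_of_lt h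
      refine hzU (mem_subgroupOf.mpr (hqU z ?_ z.2))
      rw [← hMH]
      have hzn : (z : G) ∈ normalizer (U : Set G) := by
        refine mem_normalizer_iff.mpr fun u => ⟨fun hu => ?_, fun hu => ?_⟩
        · exact (mem_normalizer_iff.mp hz ⟨u, hUσH hu⟩).mp hu
        · have hσ : u ∈ Cfsg.sigmaCore H := by
            have := mul_mem (mul_mem (inv_mem z.2) (hUσH hu)) z.2
            simpa [mul_assoc] using this
          exact (mem_normalizer_iff.mp hz ⟨u, hσ⟩).mpr hu
      exact ⟨hle ⟨sigmaCore_le H z.2, hzn⟩, sigmaCore_le H z.2⟩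
  -- the complement
  obtain ⟨E, hE, hKE⟩ := F.s10.exists_compl_ge hH hKH fun p hp hd =>
    (Nat.prime_dvd_prime_iff_eq hp hqp).mp hd ▸ hqσ
  obtain ⟨hEM', hKF⟩ := S.compl_spec F hemb ⟨r, hUσ r hr.out hrU, hrU.trans (card_dvd_of_le hU)⟩ hE hKE
  have hdis' : Cfsg.sigmaCore H ⊓ Cfsg.sigmaCore M' = ⊥ := inf_sigmaCore_eq_bot fun p h1 h2 => by
    obtain ⟨g, hg⟩ := F.res.sigma_disjoint M' H P.data'.max hH ⟨p, h2, h1⟩
    exact hne' g hg
  have heq : H ⊓ M' = E := by
    refine le_antisymm (fun m hm => ?_) (le_inf hE.1 hEM')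
    obtain ⟨e, he, b, hb, rfl⟩ := hE.2.2.2 m hm.1
    have hbM : b ∈ M' := by simpa using mul_mem (inv_mem (hEM' he)) (mem_inf.mp hm).2
    have h1 : b ∈ Cfsg.sigmaCore H ⊓ centralizer (K : Set G) := by
      refine ⟨hb, mem_centralizer_iff.mpr fun k' hk' => ?_⟩
      exact (commute_inf_cores hdis' ⟨hb, hbM⟩ ⟨P.le' hk', hKH hk'⟩).symm
    rw [hfpf, mem_bot] at h1
    rw [h1, mul_one]
    exact he
  rw [heq]
  exact ⟨hKF, hE⟩

end Cfsg.Agent.OddOrder.BG14
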