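import Cfsg.Agent.OddOrder.BG14.PairRows
import Cfsg.Agent.OddOrder.BG14.SigmaCentralizer
import Cfsg.Agent.Coprime.Abelian

/-!
# BG 14.12: `K` centralizes the `σ(H)'`-subgroups of `H` it normalizes

Here `M, M*` is a pair with `K` of prime order, `H` is a maximal subgroup containing `K`, conjugate
to neither, with `C_{H_σ}(K) = 1`.
-/

set_option autoImplicit false
set_option linter.style.haveILetI false

universe u

namespace Cfsg.Agent.OddOrder.BG14

open Subgroup
open Cfsg.Agent.H40 (cj mem_cj cj_mul cj_one conj_mem_cj cj_eq_iff card_cj)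

variable {G : Type u} [Group G] [Finite G]

/-- The setting of 14.12 at the maximal subgroup `H`. -/
structure Setting (M K M' H : Subgroup G) : Prop where
  pair : Pair M K M'
  prime : (Nat.card K).Prime
  max : IsCoatom H
  le : K ≤ H
  ne : ∀ g : G, H ≠ cj g M
  ne' : ∀ g : G, H ≠ cj g M'
  not_sigma : Nat.card K ∉ Cfsg.sigma H
  kappa : Cfsg.kappa H = ∅
  nilpotent : Group.IsNilpotent (Cfsg.sigmaCore H)
  fpf : Cfsg.sigmaCore H ⊓ centralizer (K : Set G) = ⊥

namespace Setting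

variable {M K M' H : Subgroup G} (S : Setting M K M' H) (F : Inputs G)
include S

theorem centralizer_eq {k : G} (hk : k ∈ K) (hk1 : k ≠ 1) :
    centralizer ({k} : Set G) = centralizer (K : Set G) := by
  rw [← BG13.centralizer_zpowers, BG13.zpowers_eq_of_prime_card S.prime hk hk1]

include F

theorem centralizer_le' : centralizer (K : Set G) ≤ M' :=
  (S.pair.unique_maximal' F le_rfl S.prime).1

theorem sigma' : Nat.card K ∈ Cfsg.sigma M' :=
  sigmaCore_isPiNumber M' _ S.prime (card_dvd_of_le S.pair.le')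

/-- An element of order prime outside `σ(H)` centralizing some element of `H_σ` is in `τ₂(H)` and
its centralizer lies only in `H`. -/
theorem tau2_of_fixed {w x : G} (hw : w ∈ H) (hwp : (orderOf w).Prime)
    (hwσ : orderOf w ∉ Cfsg.sigma H) (hx : x ∈ Cfsg.sigmaCore H) (hx1 : x ≠ 1)
    (hc : x * w = w * x) :
    orderOf w ∈ Cfsg.tau2 H ∧ centralizer ({w} : Set G) ≤ H ∧
      ∀ L : Subgroup G, IsCoatom L → centralizer ({w} : Set G) ≤ L → L = H := by
  have hw1 : w ≠ 1 := fun e => hwp.ne_one (by rw [e, orderOf_one])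
  rcases F.tilde.s1432 H S.max x hx hx1 w ⟨hw, mem_centralizer_singleton_iff.mpr hc.symm⟩ hw1
    (fun q hq hd => by
      rw [Nat.prime_dvd_prime_iff_eq hq hwp] at hd
      exact hd ▸ hwσ) with ⟨h, -⟩ | ⟨h, -, h1, h2⟩
  · have := h _ hwp dvd_rfl
    rw [S.kappa] at this
    exact absurd this (Set.notMem_empty _)
  · exact ⟨h _ hwp dvd_rfl, h1, h2⟩

/-- An elementary abelian group acted on fixed point freely by `K` has fixed points on `H_σ`. -/
theorem exists_fixed_of_fpf {W : Subgroup G} {s : ℕ} (hs : s.Prime) (hsσ : s ∉ Cfsg.sigma H)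
    (hW : Cfsg.IsElementaryAbelian s W) (hWH : W ≤ H) (hKW : K ≤ normalizer (W : Set G))
    (hfree : W ⊓ centralizer (K : Set G) = ⊥) :
    Cfsg.sigmaCore H ⊓ centralizer (W : Set G) ≠ ⊥ := by
  intro hC
  obtain ⟨q, hq, hqd, V, hV, hV1, hVe, hVn⟩ :=
    exists_elemAb_of_nilpotent S.nilpotent (F.s10.sigmaCore_ne_bot H S.max)
  haveI := Fact.mk hq
  have hqW : ¬ q ∣ Nat.card W := by
    intro hd
    obtain ⟨a, ha⟩ := exists_prime_orderOf_dvd_card' (G := ↥W) q hd
    have h1 : q ∣ s := ha ▸ orderOf_dvd_of_pow_eq_one (Subtype.ext (by simpa using hW.2 a a.2))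
    rw [Nat.prime_dvd_prime_iff_eq hq hs] at h1
    exact hsσ (h1 ▸ sigmaCore_isPiNumber H q hq hqd)
  have hn := (le_normalizer_sigmaCore H).trans hVn
  obtain ⟨v, hv, hvp⟩ := exists_mem_orderOf_prime (centralizer_ne_bot_of_frobenius V W K hVe hV1 hW.1
    hqW (hWH.trans hn) (S.le.trans hn) hKW (fun k hk hk1 => by rw [S.centralizer_eq hk hk1, hfree])
    (eq_bot_iff.mpr ((inf_le_inf_right _ hV).trans hC.le)))
  have hv' : v ∈ Cfsg.sigmaCore H ⊓ centralizer (K : Set G) := ⟨hV hv.1, hv.2⟩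
  rw [S.fpf, mem_bot] at hv'
  exact hvp.ne_one (by rw [hv', orderOf_one])

/-- The elementary group of order `s ^ 2` at a moved line `W`, its fixed line, and `A ≤ M*`. -/
theorem line_le (hemb : EmbeddingKappa G) {W : Subgroup G} {s : ℕ} [hs : Fact s.Prime]
    (hsσ : s ∉ Cfsg.sigma H)
    (hsM : s ∈ Cfsg.sigma M → ∃ p ∈ Cfsg.sigma H, p ∣ Nat.card M)
    (hW : Nat.card W = s) (hWH : W ≤ H) (hKW : K ≤ normalizer (W : Set G))
    (hfree : W ⊓ centralizer (K : Set G) = ⊥) :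
    ∃ A : Subgroup G, A ≤ H ∧ W ≤ A ∧ A ≤ M' ∧ Cfsg.IsElementaryAbelian s A ∧
      Nat.card A = s ^ 2 := by
  have hsp := hs.out
  have hWp : (Nat.card W).Prime := hW ▸ hsp
  obtain ⟨w, hw, hwp⟩ := exists_mem_orderOf_prime (BG13.ne_bot_of_prime_card hWp)
  have hw1 : w ≠ 1 := fun e => hwp.ne_one (by rw [e, orderOf_one])
  have hwW : zpowers w = W := BG13.zpowers_eq_of_prime_card hWp hw hw1
  have hwo : orderOf w = s := by rw [← Nat.card_zpowers, hwW, hW]
  have hWe : Cfsg.IsElementaryAbelian s W := by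
    rw [← hwW]
    exact BG11.elemAb_zpowers (by rw [← hwo]; exact pow_orderOf_eq_one w)
  obtain ⟨x, hx, hxp⟩ := exists_mem_orderOf_prime (S.exists_fixed_of_fpf F hsp hsσ hWe hWH hKW hfree)
  have hx1 : x ≠ 1 := fun e => hxp.ne_one (by rw [e, orderOf_one])
  have hxw : x * w = w * x := (mem_centralizer_iff.mp hx.2 w hw).symm
  obtain ⟨hτ, hCw, huniq⟩ := S.tau2_of_fixed F (hWH hw) hwp (hwo.symm ▸ hsσ) hx.1 hx1 hxw
  rw [hwo] at hτ
  -- a complement containing `W K`
  obtain ⟨E, hE, hWKE⟩ := F.s10.exists_compl_ge S.max (sup_le hWH S.le) fun q hq hd => by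
    rcases hq.dvd_mul.mp (hd.trans (BG13.card_sup_dvd hKW)) with h | h
    · rw [hW, Nat.prime_dvd_prime_iff_eq hq hsp] at h
      exact h ▸ hsσ
    · rw [Nat.prime_dvd_prime_iff_eq hq S.prime] at h
      exact h ▸ S.not_sigma
  obtain ⟨A, hA⟩ := exists_elemAb_compl F.s10 S.max hE hτ
  obtain ⟨⟨hEA, hall⟩, -, -⟩ := F.s10.compl_structure S.max hE hτ hA
  have hWA : W ≤ A := hall W (le_sup_left.trans hWKE) hW
  have hKA : K ≤ normalizer (A : Set G) := le_sup_right.trans (hWKE.trans hEA)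
  have hAH : A ≤ H := hA.1.trans hE.1
  refine ⟨A, hAH, hWA, ?_, hA.2.1, hA.2.2⟩
  -- the fixed line
  have hAfix : A ⊓ centralizer (K : Set G) ≠ ⊥ := fun h =>
    S.exists_fixed_of_fpf F hsp hsσ hA.2.1 hAH hKA h
      (F.s10.tauTwo_structure S.max hτ ⟨hAH, hA.2⟩).2.2.2.1
  obtain ⟨y, ⟨hyA, hyK⟩, hyp⟩ := exists_mem_orderOf_prime hAfix
  have hy1 : y ≠ 1 := fun e => hyp.ne_one (by rw [e, orderOf_one])
  have hyo : orderOf y = s :=
    orderOf_eq_prime (hA.2.1.2 y hyA) hy1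
  have hAy : A ≤ centralizer ({y} : Set G) := fun a ha =>
    mem_centralizer_singleton_iff.mpr (H40.elemAb_commute hA.2.1 ha hyA)
  have hyM' : y ∈ M' := S.centralizer_le' F hyK
  by_cases hs' : s ∈ Cfsg.sigma M'
  · -- `N(⟨y⟩)` lies in `M*` or in a maximal subgroup with complement through `M*`
    set Y := zpowers y
    have hYs : IsPGroup s Y := IsPGroup.of_card (n := 1) (by rw [Nat.card_zpowers, hyo, pow_one])
    have hY1 : Y ≠ ⊥ := zpowers_ne_bot.mpr hy1
    have hYM' : Y ≤ M' := zpowers_le.mpr hyM'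
    have hAN : A ≤ normalizer (Y : Set G) :=
      (hAy.trans (BG13.centralizer_zpowers y).ge).trans (H41.centralizer_le_normalizer _)
    obtain ⟨N, hN, hNN⟩ := normalizer_le_of_exists_coatom F hY1 S.pair.data'.max hYM'
    rcases eq_or_ne N M' with rfl | hne
    · exact hAN.trans hNN
    obtain ⟨hnc, hτN, hcompl⟩ :=
      F.res.embedding_tau2 M' S.pair.data'.max s hs' Y hYs hY1 hYM' N hN hne hNN
    have hKY : K ≤ centralizer (Y : Set G) := fun k hk => by
      rw [BG13.centralizer_zpowers, mem_centralizer_singleton_iff]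
      exact mem_centralizer_iff.mp hyK k hk
    have hKN : K ≤ N := (hKY.trans (H41.centralizer_le_normalizer _)).trans hNN
    have hKM' : K ≤ M' := S.pair.le'.trans (sigmaCore_le M')
    have hqN : Nat.card K ∉ Cfsg.sigma N := fun hq => by
      obtain ⟨g, hg⟩ := F.res.sigma_disjoint M' N S.pair.data'.max hN ⟨_, S.sigma' F, hq⟩
      exact hnc g hg
    have hsN : s ∉ Cfsg.sigma N := hτN.2.1
    obtain ⟨E₂, hE₂, hAKE₂⟩ := F.s10.exists_compl_ge hN (sup_le (hAN.trans hNN) hKN)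
      fun q hq hd => by
        rcases hq.dvd_mul.mp (hd.trans (BG13.card_sup_dvd hKA)) with h | h
        · rw [hA.2.2] at h
          exact (Nat.prime_dvd_prime_iff_eq hq hsp).mp (hq.dvd_of_dvd_pow h) ▸ hsN
        · rw [Nat.prime_dvd_prime_iff_eq hq S.prime] at h
          exact h ▸ hqN
    have hH := (F.s10.sigmaCore_hall N hN).1
    obtain ⟨m, hm, he⟩ := Coprime.exists_conj_hallOf (F.s10.isSolvable_max hN)
      (compl_isPiHallOf hH hE₂) (compl_isPiHallOf hH hcompl)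
    obtain ⟨a, ha, b, hb, hab⟩ := hE₂.2.2.2 m⁻¹ (inv_mem hm)
    have he' : cj b⁻¹ E₂ = M' ⊓ N := by
      rw [← he]
      show cj b⁻¹ E₂ = cj m E₂
      rw [show m = b⁻¹ * a⁻¹ by rw [← mul_inv_rev, ← hab, inv_inv], cj_mul,
        cj_eq_iff.mpr (le_normalizer (inv_mem ha))]
    obtain ⟨k, hk, hkp⟩ := exists_mem_orderOf_prime (BG13.ne_bot_of_prime_card S.prime)
    have hk1 : k ≠ 1 := fun e => hkp.ne_one (by rw [e, orderOf_one])
    have hkc : b⁻¹ * k * b ∈ M' ⊓ N := by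
      rw [← he']
      simpa using conj_mem_cj b⁻¹ (hAKE₂ (mem_sup_right hk))
    have hcomm : b⁻¹ * k * b * k⁻¹ ∈ (M' ⊓ N) ⊓ Cfsg.sigmaCore N := by
      refine mem_inf.mpr ⟨mul_mem hkc (inv_mem (mem_inf.mpr ⟨hKM' hk, hKN hk⟩)), ?_⟩
      rw [mul_assoc, mul_assoc]
      refine mul_mem (inv_mem hb) ?_
      rw [← mul_assoc]
      exact Coprime.conj_mem (le_normalizer_sigmaCore N (hKN hk)) hb
    rw [hcompl.2.2.1, mem_bot, mul_inv_eq_one] at hcomm
    have hbk : b ∈ centralizer (K : Set G) := by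
      rw [← S.centralizer_eq hk hk1, mem_centralizer_singleton_iff]
      calc b * k = b * (b⁻¹ * k * b) := by rw [hcomm]
        _ = k * b := by group
    have hb1 : b ∈ (M' ⊓ N) ⊓ Cfsg.sigmaCore N :=
      mem_inf.mpr ⟨mem_inf.mpr ⟨S.centralizer_le' F hbk, sigmaCore_le N hb⟩, hb⟩
    rw [hcompl.2.2.1, mem_bot] at hb1
    rw [hb1, inv_one, cj_one] at he'
    exact (le_sup_left.trans hAKE₂).trans (he'.le.trans inf_le_left)
  · -- the dichotomy 14.3 in `M*`
    obtain ⟨k, hk, hkp⟩ := exists_mem_orderOf_prime (BG13.ne_bot_of_prime_card S.prime)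
    have hk1 : k ≠ 1 := fun e => hkp.ne_one (by rw [e, orderOf_one])
    have hky : k * y = y * k := mem_centralizer_iff.mp hyK k hk
    rcases F.tilde.s1432 M' S.pair.data'.max k (S.pair.le' hk) hk1 y
      ⟨hyM', mem_centralizer_singleton_iff.mpr hky.symm⟩ hy1 (fun q hq hd => by
        rw [hyo, Nat.prime_dvd_prime_iff_eq hq hsp] at hd
        exact hd ▸ hs') with ⟨hκ, -⟩ | ⟨-, -, hCy, -⟩
    swap
    · exact hAy.trans hCy
    exfalso
    have hsκ : s ∈ Cfsg.kappa M' := hκ s hsp (hyo.symm ▸ dvd_rfl)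
    -- `y` lies in a conjugate of `K*`, which belongs to a conjugate of `M` containing `A`
    obtain ⟨K₂, hK₂, hyK₂⟩ := exists_hallOf_ge (π := Cfsg.kappa M')
      (isSolvable_max F.minSimple S.pair.data'.max) (zpowers_le.mpr hyM' : zpowers y ≤ M')
      (fun q hq hd => by
        rw [Nat.card_zpowers, hyo, Nat.prime_dvd_prime_iff_eq hq hsp] at hd
        exact hd ▸ hsκ)
    obtain ⟨c, hc, hcK⟩ := Coprime.exists_conj_hallOf (isSolvable_max F.minSimple S.pair.data'.max)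
      S.pair.data'.hall hK₂
    have hyc : c⁻¹ * y * c ∈ kStar M K := mem_cj.mp (hcK.ge (hyK₂ (mem_zpowers y)))
    have hyc1 : c⁻¹ * y * c ≠ 1 := fun e => hy1 (by
      calc y = c * (c⁻¹ * y * c) * c⁻¹ := by group
        _ = 1 := by rw [e]; group)
    have hkc : c⁻¹ * k * c ∈ K := by
      have hk' : c⁻¹ * k * c ∈ Cfsg.sigmaCore M' := by
        simpa using Coprime.conj_mem (le_normalizer_sigmaCore M' (inv_mem hc)) (S.pair.le' hk)
      refine S.pair.star.le (S.pair.data'.mem_kStar_of_centralizes F hyc hyc1 hk' ?_)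
      calc c⁻¹ * y * c * (c⁻¹ * k * c) = c⁻¹ * (y * k) * c := by group
        _ = _ := by rw [← hky]; group
    have hCy : ∀ g : G, g * y = y * g → g ∈ cj c M := fun g hg => by
      refine mem_cj.mpr (S.pair.data.centralizer_le F hyc hyc1 (mem_centralizer_singleton_iff.mpr ?_))
      calc c⁻¹ * g * c * (c⁻¹ * y * c) = c⁻¹ * (g * y) * c := by group
        _ = _ := by rw [hg]; group
    have hM₂ : IsCoatom (cj c M) := BG11.coatom_cj S.pair.data.max c
    have hAM₂ : A ≤ cj c M := fun a ha => hCy a (mem_centralizer_singleton_iff.mp (hAy ha))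
    have hsσM : s ∈ Cfsg.sigma M := by
      rw [← hyo]
      have h := sigma_of_mem (mem_inf.mp hyc).1
        (show (orderOf (c⁻¹ * y * c)).Prime by
          rw [show orderOf (c⁻¹ * y * c) = orderOf y by
            simpa using orderOf_injective (MulAut.conj c⁻¹).toMonoidHom (MulAut.conj c⁻¹).injective y]
          exact hyp) dvd_rfl
      rwa [show orderOf (c⁻¹ * y * c) = orderOf y by
        simpa using orderOf_injective (MulAut.conj c⁻¹).toMonoidHom (MulAut.conj c⁻¹).injective y] at h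
    have hwM₂ : w ∈ Cfsg.sigmaCore (cj c M) :=
      F.s10.le_sigmaCore hM₂ (hWA.trans hAM₂) (fun q hq hd => by
        rw [hW, Nat.prime_dvd_prime_iff_eq hq hsp] at hd
        rw [hd, sigma_map]
        exact hsσM) hw
    have hnot : ¬ centralizer ({w} : Set G) ≤ cj c M := fun h => S.ne c (huniq _ hM₂ h).symm
    obtain ⟨p, hp, hpd⟩ := hsM hsσM
    obtain ⟨hempty, -⟩ := hemb (cj c M) hM₂ w hwM₂ hw1 hnot H S.max hCw
      ⟨p, hp, by rwa [card_cj]⟩
    rw [kappa_map] at hempty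
    obtain ⟨k', hk', hk'p⟩ := exists_mem_orderOf_prime S.pair.data.ne_bot
    have := S.pair.data.prime_mem hk'p (orderOf_dvd_natCard _ hk')
    rw [hempty] at this
    exact this

/-- **`K` centralizes every `s`-subgroup of `H` it normalizes**, `s ∉ σ(H)`, `s ≠ |K|`. -/
theorem le_centralizer (hemb : EmbeddingKappa G) {s : ℕ} [hs : Fact s.Prime]
    (hsσ : s ∉ Cfsg.sigma H) (hsq : s ≠ Nat.card K)
    (hsM : s ∈ Cfsg.sigma M → ∃ p ∈ Cfsg.sigma H, p ∣ Nat.card M)
    {T : Subgroup G} (hT : IsPGroup s T) (hTH : T ≤ H) (hKT : K ≤ normalizer (T : Set G)) :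
    K ≤ centralizer (T : Set G) := by
  haveI := Fact.mk S.prime
  haveI hTc : IsMulCommutative T :=
    ⟨⟨fun a b => Subtype.ext (F.s10.commute_of_not_sigma S.max hsσ hT hTH a a.2 b b.2)⟩⟩
  obtain ⟨n, hn⟩ := IsPGroup.iff_card.mp hT
  have hcop : (Nat.card K).Coprime (Nat.card T) := by
    rw [hn]
    exact Nat.Coprime.pow_right n ((Nat.coprime_primes S.prime hs.out).mpr hsq.symm)
  refine Coprime.le_centralizer_of_prime_order hKT hcop fun v hv hvp a ha => ?_
  by_contra hav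
  -- the moved part `W = [Ω, K]`
  have hvs : orderOf v = s := by
    obtain ⟨j, hj⟩ := IsPGroup.iff_orderOf.mp hT ⟨v, hv⟩
    rw [Subgroup.orderOf_mk] at hj
    exact Nat.prime_eq_prime_of_dvd_pow hvp hs.out (dvd_of_eq hj)
  set Ω := omegaAb T hTc s
  have hΩe := isElementaryAbelian_omegaAb T hTc s
  have hΩT : Ω ≤ T := fun _ h => h.1
  have hKΩ : K ≤ normalizer (Ω : Set G) := le_normalizer_omegaAb hTc s hKT
  haveI := hΩe.1
  have hcopΩ : (Nat.card K).Coprime (Nat.card Ω) := hcop.coprime_dvd_right (card_dvd_of_le hΩT)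
  obtain ⟨hd, -⟩ := Coprime.abelian_decomposition hKΩ hcopΩ
  set W := ⁅Ω, K⁆ with hWdef
  have hWΩ : W ≤ Ω := Coprime.commutator_le_left_of_normalizer hKΩ
  have hW1 : W ≠ ⊥ := by
    intro h
    rw [hWdef, commutator_eq_bot_iff_le_centralizer] at h
    exact hav (mem_centralizer_iff.mp (h (show v ∈ Ω from ⟨hv, hvs ▸ pow_orderOf_eq_one v⟩)) a ha)
  have hWe : Cfsg.IsElementaryAbelian s W :=
    ⟨⟨⟨fun x y => Subtype.ext (H40.elemAb_commute hΩe (hWΩ x.2) (hWΩ y.2))⟩⟩,
      fun x hx => hΩe.2 x (hWΩ hx)⟩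
  have hWH : W ≤ H := (hWΩ.trans hΩT).trans hTH
  have hKW : K ≤ normalizer (W : Set G) := BG13.le_normalizer_commutator le_normalizer hKΩ
  have hfree : W ⊓ centralizer (K : Set G) = ⊥ := eq_bot_iff.mpr fun x hx =>
    hd.le ⟨⟨hWΩ hx.1, hx.2⟩, hx.1⟩
  obtain ⟨x, hx, hxp⟩ :=
    exists_mem_orderOf_prime (S.exists_fixed_of_fpf F hs.out hsσ hWe hWH hKW hfree)
  obtain ⟨w, hw, hwp⟩ := exists_mem_orderOf_prime hW1
  have hw1 : w ≠ 1 := fun e => hwp.ne_one (by rw [e, orderOf_one])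
  have hws : orderOf w = s := orderOf_eq_prime (hWe.2 w hw) hw1
  obtain ⟨hτ, -, -⟩ := S.tau2_of_fixed F (hWH hw) hwp (hws.symm ▸ hsσ) hx.1
    (fun e => hxp.ne_one (by rw [e, orderOf_one])) (mem_centralizer_iff.mp hx.2 w hw).symm
  rw [hws] at hτ
  -- `W` is a line
  have hWcard : Nat.card W = s := by
    obtain ⟨j, hj⟩ := IsPGroup.iff_card.mp (H40.elemAb_isPGroup hWe)
    have h2 : Nat.card W ≤ s ^ 2 :=
      BG11.card_le_of_pRankLE (F.s10.pRankLE_two S.max hsσ) hWH hWe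
    rw [hj] at h2
    have hj2 : j ≤ 2 := (Nat.pow_le_pow_iff_right hs.out.one_lt).mp h2
    have hj0 : j ≠ 0 := fun h => hW1 (card_eq_one.mp (by rw [hj, h, pow_zero]))
    rcases (show j = 1 ∨ j = 2 by omega) with rfl | rfl
    · rw [hj, pow_one]
    · refine absurd ?_ (S.exists_fixed_of_fpf F hs.out hsσ hWe hWH hKW hfree)
      exact (F.s10.tauTwo_structure S.max hτ ⟨hWH, hWe, hj⟩).2.2.2.1
  obtain ⟨A, hAH, hWA, hAM', hA, hA2⟩ := S.line_le F hemb hsσ hsM hWcard hWH hKW hfree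
  -- inside `M*'` nothing moves `W`
  have hsb : s ∉ Cfsg.beta M' :=
    F.s10.not_mem_beta hA hA2 (F.s10.eq_of_elemAb_ge S.max hsσ hAH hA hA2) M'
  have hKM' : K ≤ M' := S.pair.le'.trans (sigmaCore_le M')
  have hWM'' : W ≤ ⁅M', M'⁆ := by
    have hWK : ⁅W, K⁆ = W := by
      obtain ⟨-, hsup⟩ := @Coprime.abelian_decomposition _ _ _ K W hWe.1 hKW
        (hcopΩ.coprime_dvd_right (card_dvd_of_le hWΩ))
      rw [hfree, bot_sup_eq] at hsup
      exact hsup
    rw [← hWK]
    exact commutator_mono (hWA.trans hAM') hKM'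
  have hKW' : K ≤ centralizer (W : Set G) :=
    F.s10.le_centralizer_of_not_beta S.pair.data'.max (Ne.symm hsq)
      (IsPGroup.of_card (n := 1) (by rw [pow_one]))
      (IsPGroup.of_card (n := 1) (by rw [hWcard, pow_one]) : IsPGroup s W)
      (S.pair.le'.trans (F.s10.sigmaCore_le_derived M' S.pair.data'.max)) hWM'' hKW hsb
  have : w ∈ W ⊓ centralizer (K : Set G) :=
    ⟨hw, mem_centralizer_iff.mpr fun k hk => (mem_centralizer_iff.mp (hKW' hk) w hw).symm⟩
  rw [hfree, mem_bot] at this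
  exact hw1 this

end Setting

end Cfsg.Agent.OddOrder.BG14
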